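import Mathlib
import Cfsg.Prelude.Def_RootSubgroups

/-!
Transvection subgroups `{1 + c v φ}` of special linear groups: commutators, rank one pairs, images of `SL₂`.
-/

set_option autoImplicit false
set_option backward.isDefEq.respectTransparency.types false
set_option backward.isDefEq.respectTransparency false

namespace CfsgLib.RootSub.Transv

open Matrix
open scoped commutatorElement

variable {ι : Type*} [Fintype ι] [DecidableEq ι] {k : Type*} [Field k]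

theorem val_mul (A B : Matrix.SpecialLinearGroup ι k) : (A * B).1 = A.1 * B.1 := rfl

theorem val_one : (1 : Matrix.SpecialLinearGroup ι k).1 = 1 := rfl

/-- The element `1 + c v φ`. -/
def elt (v φ : ι → k) (h : φ ⬝ᵥ v = 0) (c : k) : Matrix.SpecialLinearGroup ι k :=
  ⟨1 + c • vecMulVec v φ, by
    rw [← smul_vecMulVec, vecMulVec_eq Unit, det_one_add_replicateCol_mul_replicateRow,
      dotProduct_smul, h, smul_zero, add_zero]⟩

theorem coe_elt (v φ : ι → k) (h : φ ⬝ᵥ v = 0) (c : k) :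
    (elt v φ h c).1 = 1 + c • vecMulVec v φ := rfl

theorem elt_mulVec (v φ : ι → k) (h : φ ⬝ᵥ v = 0) (c : k) (x : ι → k) :
    (elt v φ h c).1 *ᵥ x = x + (c * (φ ⬝ᵥ x)) • v := by
  rw [coe_elt, add_mulVec, one_mulVec, smul_mulVec, vecMulVec_mulVec, op_smul_eq_smul, smul_smul]

theorem vecMul_elt (v φ : ι → k) (h : φ ⬝ᵥ v = 0) (c : k) (x : ι → k) :
    x ᵥ* (elt v φ h c).1 = x + (c * (x ⬝ᵥ v)) • φ := by
  rw [coe_elt, vecMul_add, vecMul_one, vecMul_smul, vecMul_vecMulVec, smul_smul]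

theorem elt_zero (v φ : ι → k) (h : φ ⬝ᵥ v = 0) : elt v φ h 0 = 1 :=
  Subtype.ext (by rw [coe_elt, zero_smul, add_zero]; rfl)

theorem mul_vv (v φ w ψ : ι → k) :
    vecMulVec v φ * vecMulVec w ψ = (φ ⬝ᵥ w) • vecMulVec v ψ := by
  rw [vecMulVec_mul_vecMulVec, vecMulVec_smul]

theorem elt_add (v φ : ι → k) (h : φ ⬝ᵥ v = 0) (c d : k) :
    elt v φ h (c + d) = elt v φ h c * elt v φ h d := by
  apply Subtype.ext
  rw [val_mul, coe_elt, coe_elt, coe_elt, Matrix.mul_add, Matrix.mul_one, Matrix.add_mul,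
    Matrix.one_mul, smul_mul, Matrix.mul_smul, mul_vv, h, zero_smul, smul_zero, smul_zero, add_zero,
    add_smul, add_assoc]

theorem elt_inv (v φ : ι → k) (h : φ ⬝ᵥ v = 0) (c : k) : (elt v φ h c)⁻¹ = elt v φ h (-c) := by
  refine inv_eq_of_mul_eq_one_right ?_
  rw [← elt_add, add_neg_cancel, elt_zero]

theorem elt_eq_one (v φ : ι → k) (h : φ ⬝ᵥ v = 0) (hv : v ≠ 0) (hφ : φ ≠ 0) {c : k}
    (hc : elt v φ h c = 1) : c = 0 := by
  have h2 : c • vecMulVec v φ = 0 := by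
    have h1 : 1 + c • vecMulVec v φ = (1 : Matrix ι ι k) := congrArg Subtype.val hc
    simpa using h1
  rcases smul_eq_zero.mp h2 with h3 | h3
  · exact h3
  · rw [vecMulVec_eq_zero] at h3
    tauto

/-- The transvection subgroup of the point `v` and the hyperplane `φ`. -/
def grp (v φ : ι → k) : Subgroup (Matrix.SpecialLinearGroup ι k) :=
  Subgroup.closure {g | ∃ c : k, g.1 = 1 + c • vecMulVec v φ}

theorem elt_mem (v φ : ι → k) (h : φ ⬝ᵥ v = 0) (c : k) : elt v φ h c ∈ grp v φ :=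
  Subgroup.subset_closure ⟨c, rfl⟩

theorem exists_elt (v φ : ι → k) (h : φ ⬝ᵥ v = 0) {g : Matrix.SpecialLinearGroup ι k}
    (hg : g ∈ grp v φ) : ∃ c, g = elt v φ h c := by
  induction hg using Subgroup.closure_induction with
  | mem x hx => obtain ⟨c, hc⟩ := hx; exact ⟨c, Subtype.ext hc⟩
  | one => exact ⟨0, (elt_zero v φ h).symm⟩
  | mul x y _ _ hx hy =>
    obtain ⟨c, rfl⟩ := hx; obtain ⟨d, rfl⟩ := hy; exact ⟨c + d, (elt_add v φ h c d).symm⟩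
  | inv x _ hx => obtain ⟨c, rfl⟩ := hx; exact ⟨-c, elt_inv v φ h c⟩

theorem grp_comm (v φ : ι → k) (h : φ ⬝ᵥ v = 0) : IsMulCommutative (grp v φ) := by
  refine ⟨⟨fun a b => Subtype.ext ?_⟩⟩
  obtain ⟨c, hc⟩ := exists_elt v φ h a.2
  obtain ⟨d, hd⟩ := exists_elt v φ h b.2
  show a.1 * b.1 = b.1 * a.1
  rw [hc, hd, ← elt_add, ← elt_add, add_comm]

theorem grp_ne_bot (v φ : ι → k) (h : φ ⬝ᵥ v = 0) (hv : v ≠ 0) (hφ : φ ≠ 0) : grp v φ ≠ ⊥ := by
  intro hb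
  have h1 := elt_mem v φ h 1
  rw [hb, Subgroup.mem_bot] at h1
  exact one_ne_zero (elt_eq_one v φ h hv hφ h1)

theorem grp_smul (v φ : ι → k) {a b : k} (ha : a ≠ 0) (hb : b ≠ 0) :
    grp (a • v) (b • φ) = grp v φ := by
  unfold grp
  congr 1
  ext g
  constructor
  · rintro ⟨c, hc⟩
    exact ⟨c * (a * b), by rw [hc, smul_vecMulVec, vecMulVec_smul, smul_smul, smul_smul, mul_assoc]⟩
  · rintro ⟨c, hc⟩
    refine ⟨c * (a * b)⁻¹, ?_⟩
    rw [hc, smul_vecMulVec, vecMulVec_smul, smul_smul, smul_smul]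
    congr 2
    field_simp

theorem grp_smul_left (v φ : ι → k) {a : k} (ha : a ≠ 0) : grp (a • v) φ = grp v φ := by
  simpa using grp_smul v φ ha (one_ne_zero (α := k))

theorem conj_elt (v φ : ι → k) (h : φ ⬝ᵥ v = 0) (c : k) (g : Matrix.SpecialLinearGroup ι k) :
    (g * elt v φ h c * g⁻¹).1 = 1 + c • vecMulVec (g.1 *ᵥ v) (φ ᵥ* (g⁻¹).1) := by
  rw [val_mul, val_mul, coe_elt, Matrix.mul_add, Matrix.mul_one,
    Matrix.add_mul, Matrix.mul_smul, mul_vecMulVec, smul_mul, vecMulVec_mul, ← val_mul,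
    mul_inv_cancel]
  rfl

theorem conj_grp (v φ : ι → k) (h : φ ⬝ᵥ v = 0) (g : Matrix.SpecialLinearGroup ι k) :
    Cfsg.conjBy (grp v φ) g = grp (g.1 *ᵥ v) (φ ᵥ* (g⁻¹).1) := by
  unfold Cfsg.conjBy grp
  rw [MonoidHom.map_closure]
  congr 1
  ext x
  constructor
  · rintro ⟨y, ⟨c, hc⟩, rfl⟩
    have : y = elt v φ h c := Subtype.ext hc
    subst this
    exact ⟨c, by simpa [MulAut.conj_apply] using conj_elt v φ h c g⟩
  · rintro ⟨c, hc⟩
    exact ⟨elt v φ h c, ⟨c, rfl⟩, Subtype.ext (by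
      simpa [MulAut.conj_apply, hc] using conj_elt v φ h c g)⟩

theorem conj_valid (v φ : ι → k) (h : φ ⬝ᵥ v = 0) (g : Matrix.SpecialLinearGroup ι k) :
    (φ ᵥ* (g⁻¹).1) ⬝ᵥ (g.1 *ᵥ v) = 0 := by
  rw [← dotProduct_mulVec, mulVec_mulVec, ← val_mul, inv_mul_cancel]
  simpa using h

theorem mulVec_ne_zero {v : ι → k} (hv : v ≠ 0) (g : Matrix.SpecialLinearGroup ι k) : g.1 *ᵥ v ≠ 0 := by
  intro e
  apply hv
  have h1 : (g⁻¹).1 *ᵥ (g.1 *ᵥ v) = v := by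
    rw [mulVec_mulVec, ← val_mul, inv_mul_cancel]; simp
  rw [← h1, e, mulVec_zero]

theorem vecMul_ne_zero {v : ι → k} (hv : v ≠ 0) (g : Matrix.SpecialLinearGroup ι k) : v ᵥ* g.1 ≠ 0 := by
  intro e
  apply hv
  have h1 : (v ᵥ* g.1) ᵥ* (g⁻¹).1 = v := by
    rw [vecMul_vecMul, ← val_mul, mul_inv_cancel]; simp
  rw [← h1, e, zero_vecMul]

/-- Elements commute when the pairing vanishes both ways. -/
theorem elt_commute (v φ w ψ : ι → k) (h : φ ⬝ᵥ v = 0) (h' : ψ ⬝ᵥ w = 0) (hx : φ ⬝ᵥ w = 0)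
    (hy : ψ ⬝ᵥ v = 0) (c d : k) : elt v φ h c * elt w ψ h' d = elt w ψ h' d * elt v φ h c := by
  apply Subtype.ext
  simp only [val_mul, coe_elt, Matrix.mul_add, Matrix.add_mul, Matrix.mul_one,
    Matrix.one_mul, smul_mul, Matrix.mul_smul, mul_vv, hx, hy, zero_smul, smul_zero, add_zero]
  abel

theorem commutator_eq_bot (v φ w ψ : ι → k) (h : φ ⬝ᵥ v = 0) (h' : ψ ⬝ᵥ w = 0) (hx : φ ⬝ᵥ w = 0)
    (hy : ψ ⬝ᵥ v = 0) : ⁅grp v φ, grp w ψ⁆ = ⊥ := by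
  rw [eq_bot_iff, Subgroup.commutator_le]
  intro a ha b hb
  obtain ⟨c, rfl⟩ := exists_elt v φ h ha
  obtain ⟨d, rfl⟩ := exists_elt w ψ h' hb
  rw [Subgroup.mem_bot, commutatorElement_def, elt_commute v φ w ψ h h' hx hy c d, mul_assoc _ _ _,
    ]
  group

/-- The commutator when one pairing vanishes. -/
theorem elt_comm_left (v φ w ψ : ι → k) (h : φ ⬝ᵥ v = 0) (h' : ψ ⬝ᵥ w = 0) (hy : ψ ⬝ᵥ v = 0)
    (c d : k) : ⁅elt v φ h c, elt w ψ h' d⁆ = elt v ψ hy ((φ ⬝ᵥ w) * c * d) := by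
  rw [commutatorElement_def, mul_inv_eq_iff_eq_mul, mul_inv_eq_iff_eq_mul]
  apply Subtype.ext
  simp only [val_mul, coe_elt, Matrix.mul_add, Matrix.add_mul, Matrix.mul_one,
    Matrix.one_mul, smul_mul, Matrix.mul_smul, mul_vv, hy, h', h, zero_smul, smul_zero, add_zero,
    smul_smul]
  module

theorem elt_comm_right (v φ w ψ : ι → k) (h : φ ⬝ᵥ v = 0) (h' : ψ ⬝ᵥ w = 0) (hx : φ ⬝ᵥ w = 0)
    (c d : k) : ⁅elt v φ h c, elt w ψ h' d⁆ = elt w φ hx (-(ψ ⬝ᵥ v) * c * d) := by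
  rw [← commutatorElement_inv, elt_comm_left w ψ v φ h' h hx, elt_inv]
  congr 1
  ring

theorem commCase_of (v φ w ψ p q : ι → k) (h : φ ⬝ᵥ v = 0) (h' : ψ ⬝ᵥ w = 0) (h'' : q ⬝ᵥ p = 0)
    (S : Set (Subgroup (Matrix.SpecialLinearGroup ι k))) (hS : grp p q ∈ S) {κ : k} (hκ : κ ≠ 0)
    (hvq : q ⬝ᵥ v = 0) (hpφ : φ ⬝ᵥ p = 0) (hwq : q ⬝ᵥ w = 0) (hpψ : ψ ⬝ᵥ p = 0)
    (hc : ∀ c d, ⁅elt v φ h c, elt w ψ h' d⁆ = elt p q h'' (κ * c * d)) :
    Cfsg.RootCommutatorCase S (grp v φ) (grp w ψ) := by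
  have hK : ⁅grp v φ, grp w ψ⁆ = grp p q := by
    refine le_antisymm (Subgroup.commutator_le.mpr fun a ha b hb => ?_) ?_
    · obtain ⟨c, rfl⟩ := exists_elt v φ h ha
      obtain ⟨d, rfl⟩ := exists_elt w ψ h' hb
      rw [hc]; exact elt_mem _ _ _ _
    · intro x hx
      obtain ⟨e, rfl⟩ := exists_elt p q h'' hx
      have := Subgroup.commutator_mem_commutator (elt_mem v φ h (e / κ)) (elt_mem w ψ h' 1)
      rwa [hc, mul_one, mul_div_cancel₀ e hκ] at this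
  refine ⟨hK ▸ hS, ?_, ?_, ?_⟩
  · intro z hz x hx
    rw [hK] at hz
    obtain ⟨e, rfl⟩ := exists_elt p q h'' hz
    have hle : grp v φ ⊔ grp w ψ ≤ Subgroup.centralizer {elt p q h'' e} := by
      refine sup_le ?_ ?_
      · intro y hy
        obtain ⟨c, rfl⟩ := exists_elt v φ h hy
        rw [Subgroup.mem_centralizer_singleton_iff]
        exact elt_commute v φ p q h h'' hpφ hvq c e
      · intro y hy
        obtain ⟨c, rfl⟩ := exists_elt w ψ h' hy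
        rw [Subgroup.mem_centralizer_singleton_iff]
        exact elt_commute w ψ p q h' h'' hpψ hwq c e
    exact (Subgroup.mem_centralizer_singleton_iff.mp (hle hx)).symm
  · intro a ha ha1
    obtain ⟨c, rfl⟩ := exists_elt v φ h ha
    have hc0 : c ≠ 0 := fun e => ha1 (by rw [e, elt_zero])
    rw [hK]
    refine le_antisymm ((Subgroup.closure_le _).mpr ?_) ?_
    · rintro _ ⟨b, hb, rfl⟩
      obtain ⟨d, rfl⟩ := exists_elt w ψ h' hb
      have := hc c d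
      rw [commutatorElement_def] at this
      simp only [this]
      exact elt_mem _ _ _ _
    · intro x hx
      obtain ⟨e, rfl⟩ := exists_elt p q h'' hx
      refine Subgroup.subset_closure ⟨elt w ψ h' (e / (κ * c)), elt_mem _ _ _ _, ?_⟩
      have := hc c (e / (κ * c))
      rw [commutatorElement_def, mul_div_cancel₀ e (mul_ne_zero hκ hc0)] at this
      exact this
  · intro b hb hb1
    obtain ⟨d, rfl⟩ := exists_elt w ψ h' hb
    have hd0 : d ≠ 0 := fun e => hb1 (by rw [e, elt_zero])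
    rw [hK]
    refine le_antisymm ((Subgroup.closure_le _).mpr ?_) ?_
    · rintro _ ⟨a, ha, rfl⟩
      obtain ⟨c, rfl⟩ := exists_elt v φ h ha
      have := hc c d
      rw [commutatorElement_def] at this
      simp only [this]
      exact elt_mem _ _ _ _
    · intro x hx
      obtain ⟨e, rfl⟩ := exists_elt p q h'' hx
      refine Subgroup.subset_closure ⟨elt v φ h (e / (κ * d)), elt_mem _ _ _ _, ?_⟩
      have := hc (e / (κ * d)) d
      rw [commutatorElement_def] at this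
      simp only [this]
      congr 1
      field_simp

/-- The copy of `SL₂` on two vectors with two dual functionals. -/
def emb (U : Matrix ι (Fin 2) k) (H : Matrix (Fin 2) ι k) (hHU : H * U = 1) :
    Matrix.SpecialLinearGroup (Fin 2) k →* Matrix.SpecialLinearGroup ι k where
  toFun M := ⟨1 + U * (M.1 - 1) * H, by
    rw [Matrix.mul_assoc, det_one_add_mul_comm, Matrix.mul_assoc, hHU, Matrix.mul_one,
      add_sub_cancel, M.2]⟩
  map_one' := Subtype.ext (by simp)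
  map_mul' M N := Subtype.ext (by
    show 1 + U * (M.1 * N.1 - 1) * H = (1 + U * (M.1 - 1) * H) * (1 + U * (N.1 - 1) * H)
    have e : U * (M.1 - 1) * H * (U * (N.1 - 1) * H) = U * ((M.1 - 1) * (N.1 - 1)) * H := by
      calc _ = U * (M.1 - 1) * ((H * U) * ((N.1 - 1) * H)) := by simp only [Matrix.mul_assoc]
        _ = _ := by rw [hHU, Matrix.one_mul]; simp only [Matrix.mul_assoc]
    rw [Matrix.mul_add, Matrix.mul_one, Matrix.add_mul 1, Matrix.one_mul, e]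
    have e2 : M.1 * N.1 - 1 = (M.1 - 1) + (N.1 - 1) + (M.1 - 1) * (N.1 - 1) := by noncomm_ring
    rw [e2, Matrix.mul_add, Matrix.mul_add, Matrix.add_mul, Matrix.add_mul]
    abel)

theorem emb_injective (U : Matrix ι (Fin 2) k) (H : Matrix (Fin 2) ι k) (hHU : H * U = 1) :
    Function.Injective (emb U H hHU) := by
  intro M N e
  have e' : U * (M.1 - 1) * H = U * (N.1 - 1) * H := add_left_cancel (congrArg Subtype.val e)
  have : H * (U * (M.1 - 1) * H) * U = H * (U * (N.1 - 1) * H) * U := by rw [e']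
  simp only [← Matrix.mul_assoc, hHU, Matrix.one_mul] at this
  simp only [Matrix.mul_assoc, hHU, Matrix.mul_one] at this
  exact Subtype.ext (sub_left_injective this)

/-- Columns `v, w`. -/
def colMat (v w : ι → k) : Matrix ι (Fin 2) k := Matrix.of fun i => ![v i, w i]

/-- Rows `ψ, φ`. -/
def rowMat (ψ φ : ι → k) : Matrix (Fin 2) ι k := Matrix.of ![ψ, φ]

theorem row_mul_col {v φ w ψ : ι → k} (h : φ ⬝ᵥ v = 0) (h' : ψ ⬝ᵥ w = 0) (hx : φ ⬝ᵥ w = 1)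
    (hy : ψ ⬝ᵥ v = 1) : rowMat ψ φ * colMat v w = 1 := by
  simp only [dotProduct] at h h' hx hy
  ext i j
  fin_cases i <;> fin_cases j <;> simp [Matrix.mul_apply, rowMat, colMat, h, h', hx, hy]

theorem col_mul_row (v w ψ φ : ι → k) (M : Matrix (Fin 2) (Fin 2) k) :
    colMat v w * M * rowMat ψ φ = M 0 0 • vecMulVec v ψ + M 0 1 • vecMulVec v φ +
      M 1 0 • vecMulVec w ψ + M 1 1 • vecMulVec w φ := by
  ext i j
  simp [Matrix.mul_apply, rowMat, colMat, Fin.sum_univ_two, vecMulVec_apply]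
  ring

theorem emb_coe {v φ w ψ : ι → k} (hHU : rowMat ψ φ * colMat v w = 1)
    (M : Matrix.SpecialLinearGroup (Fin 2) k) :
    (emb (colMat v w) (rowMat ψ φ) hHU M).1 = 1 + ((M.1 0 0 - 1) • vecMulVec v ψ +
      M.1 0 1 • vecMulVec v φ + M.1 1 0 • vecMulVec w ψ + (M.1 1 1 - 1) • vecMulVec w φ) := by
  show 1 + colMat v w * (M.1 - 1) * rowMat ψ φ = _
  rw [col_mul_row]
  simp

theorem emb_upper {v φ w ψ : ι → k} (hHU : rowMat ψ φ * colMat v w = 1) (h : φ ⬝ᵥ v = 0)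
    {M : Matrix.SpecialLinearGroup (Fin 2) k} (h10 : M.1 1 0 = 0) (h00 : M.1 0 0 = 1)
    (h11 : M.1 1 1 = 1) : emb (colMat v w) (rowMat ψ φ) hHU M = elt v φ h (M.1 0 1) :=
  Subtype.ext (by rw [emb_coe, coe_elt, h10, h00, h11]; simp)

theorem emb_lower {v φ w ψ : ι → k} (hHU : rowMat ψ φ * colMat v w = 1) (h' : ψ ⬝ᵥ w = 0)
    {M : Matrix.SpecialLinearGroup (Fin 2) k} (h01 : M.1 0 1 = 0) (h00 : M.1 0 0 = 1)
    (h11 : M.1 1 1 = 1) : emb (colMat v w) (rowMat ψ φ) hHU M = elt w ψ h' (M.1 1 0) :=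
  Subtype.ext (by rw [emb_coe, coe_elt, h01, h00, h11]; simp)

/-- The upper unitriangular element. -/
def up (c : k) : Matrix.SpecialLinearGroup (Fin 2) k := ⟨!![1, c; 0, 1], by simp [det_fin_two]⟩

/-- The lower unitriangular element. -/
def low (c : k) : Matrix.SpecialLinearGroup (Fin 2) k := ⟨!![1, 0; c, 1], by simp [det_fin_two]⟩

theorem emb_up {v φ w ψ : ι → k} (hHU : rowMat ψ φ * colMat v w = 1) (h : φ ⬝ᵥ v = 0) (c : k) :
    emb (colMat v w) (rowMat ψ φ) hHU (up c) = elt v φ h c := by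
  rw [emb_upper hHU h] <;> simp [up]

theorem emb_low {v φ w ψ : ι → k} (hHU : rowMat ψ φ * colMat v w = 1) (h' : ψ ⬝ᵥ w = 0) (c : k) :
    emb (colMat v w) (rowMat ψ φ) hHU (low c) = elt w ψ h' c := by
  rw [emb_lower hHU h'] <;> simp [low]

theorem cond_unit {v φ w ψ : ι → k} (h : φ ⬝ᵥ v = 0) (h' : ψ ⬝ᵥ w = 0) (hx : φ ⬝ᵥ w = 1)
    (hy : ψ ⬝ᵥ v = 1) : Cfsg.RankOneCondition (grp v φ) (grp w ψ) := by
  intro a ha ha1
  obtain ⟨c, rfl⟩ := exists_elt v φ h ha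
  have hc : c ≠ 0 := fun e => ha1 (by rw [e, elt_zero])
  have hw : w ≠ 0 := by rintro rfl; simp at hx
  have hψ : ψ ≠ 0 := by rintro rfl; simp at hy
  refine ⟨elt w ψ h' c⁻¹, elt_mem _ _ _ _, fun e => inv_ne_zero hc (elt_eq_one _ _ h' hw hψ e), ?_⟩
  rw [conj_grp v φ h, conj_grp w ψ h', inv_inv, inv_inv, elt_inv, elt_inv, elt_mulVec, elt_mulVec,
    vecMul_elt, vecMul_elt, hy, hx, mul_one, mul_one, mul_one, mul_one]
  have e1 : v + (-c⁻¹) • w = (-c⁻¹) • (w + (-c) • v) := by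
    rw [smul_add, smul_smul, neg_mul_neg, inv_mul_cancel₀ hc, one_smul, add_comm]
  have e2 : φ + c⁻¹ • ψ = c⁻¹ • (ψ + c • φ) := by
    rw [smul_add, smul_smul, inv_mul_cancel₀ hc, one_smul, add_comm]
  rw [e1, e2, grp_smul _ _ (neg_ne_zero.mpr (inv_ne_zero hc)) (inv_ne_zero hc)]

theorem pair_unit {v φ w ψ : ι → k} (h : φ ⬝ᵥ v = 0) (h' : ψ ⬝ᵥ w = 0) (hx : φ ⬝ᵥ w = 1)
    (hy : ψ ⬝ᵥ v = 1) : Cfsg.IsRankOnePair (grp v φ) (grp w ψ) := by
  haveI := grp_comm v φ h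
  haveI := grp_comm w ψ h'
  refine ⟨?_, ?_, ?_, cond_unit h h' hx hy, cond_unit h' h hy hx⟩
  · intro e
    have hm : elt v φ h 1 ∈ grp w ψ := e ▸ elt_mem v φ h 1
    obtain ⟨c, hc⟩ := exists_elt w ψ h' hm
    have := congrArg (fun g : Matrix.SpecialLinearGroup ι k => g.1 *ᵥ w) hc
    simp only [elt_mulVec, hx, h', mul_one, mul_zero, zero_smul, one_smul, add_zero] at this
    rw [add_eq_left] at this
    rw [this] at hy
    simp at hy
  · exact @CommGroup.isNilpotent _ (CommGroup.mk (fun a b => mul_comm' a b))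
  · exact @CommGroup.isNilpotent _ (CommGroup.mk (fun a b => mul_comm' a b))

theorem psl2_unit {v φ w ψ : ι → k} (h : φ ⬝ᵥ v = 0) (h' : ψ ⬝ᵥ w = 0) (hx : φ ⬝ᵥ w = 1)
    (hy : ψ ⬝ᵥ v = 1) : Cfsg.IsPSL2PairOver k (grp v φ) (grp w ψ) := by
  have hHU := row_mul_col h h' hx hy
  set f := emb (colMat v w) (rowMat ψ φ) hHU with hf
  have hA : (Cfsg.upperUnipotentSL2 k).map f = grp v φ := by
    refine le_antisymm ?_ ?_
    · rw [Cfsg.upperUnipotentSL2, MonoidHom.map_closure, Subgroup.closure_le]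
      rintro _ ⟨M, ⟨h10, h00, h11⟩, rfl⟩
      rw [hf, emb_upper hHU h h10 h00 h11]
      exact elt_mem _ _ _ _
    · intro x hxm
      obtain ⟨c, rfl⟩ := exists_elt v φ h hxm
      exact ⟨up c, Subgroup.subset_closure (by simp [up]), emb_up hHU h c⟩
  have hB : (Cfsg.lowerUnipotentSL2 k).map f = grp w ψ := by
    refine le_antisymm ?_ ?_
    · rw [Cfsg.lowerUnipotentSL2, MonoidHom.map_closure, Subgroup.closure_le]
      rintro _ ⟨M, ⟨h01, h00, h11⟩, rfl⟩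
      rw [hf, emb_lower hHU h' h01 h00 h11]
      exact elt_mem _ _ _ _
    · intro x hxm
      obtain ⟨c, rfl⟩ := exists_elt w ψ h' hxm
      exact ⟨low c, Subgroup.subset_closure (by simp [low]), emb_low hHU h' c⟩
  refine ⟨f, le_antisymm ?_ (sup_le (hA ▸ Subgroup.map_le_range _ _) (hB ▸ Subgroup.map_le_range _ _)),
    ?_, hA, hB⟩
  · rintro _ ⟨M, rfl⟩
    refine Matrix.SL2.transvection_induction (fun M => f M ∈ grp v φ ⊔ grp w ψ) (fun i j hij c => ?_)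
      (fun A B hA' hB' => by simpa only [map_mul] using mul_mem hA' hB') M
    fin_cases i <;> fin_cases j
    · exact absurd rfl hij
    · apply Subgroup.mem_sup_left
      rw [hf, emb_upper hHU h] <;> first
        | exact elt_mem _ _ _ _
        | simp [Matrix.SpecialLinearGroup.transvection_coe]
    · apply Subgroup.mem_sup_right
      rw [hf, emb_lower hHU h'] <;> first
        | exact elt_mem _ _ _ _
        | simp [Matrix.SpecialLinearGroup.transvection_coe]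
    · exact absurd rfl hij
  · rw [(MonoidHom.ker_eq_bot_iff f).mpr (emb_injective _ _ hHU)]
    exact bot_le

/-- Both pairings non-zero: a rank one pair generating a copy of `SL₂`. -/
theorem pair {v φ w ψ : ι → k} (h : φ ⬝ᵥ v = 0) (h' : ψ ⬝ᵥ w = 0) (hx : φ ⬝ᵥ w ≠ 0)
    (hy : ψ ⬝ᵥ v ≠ 0) :
    Cfsg.IsRankOnePair (grp v φ) (grp w ψ) ∧ Cfsg.IsPSL2PairOver k (grp v φ) (grp w ψ) := by
  rw [← grp_smul_left v φ (inv_ne_zero hy), ← grp_smul_left w ψ (inv_ne_zero hx)]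
  have e1 : φ ⬝ᵥ ((ψ ⬝ᵥ v)⁻¹ • v) = 0 := by rw [dotProduct_smul, h, smul_zero]
  have e2 : ψ ⬝ᵥ ((φ ⬝ᵥ w)⁻¹ • w) = 0 := by rw [dotProduct_smul, h', smul_zero]
  have e3 : φ ⬝ᵥ ((φ ⬝ᵥ w)⁻¹ • w) = 1 := by rw [dotProduct_smul, smul_eq_mul, inv_mul_cancel₀ hx]
  have e4 : ψ ⬝ᵥ ((ψ ⬝ᵥ v)⁻¹ • v) = 1 := by rw [dotProduct_smul, smul_eq_mul, inv_mul_cancel₀ hy]
  exact ⟨pair_unit e1 e2 e3 e4, psl2_unit e1 e2 e3 e4⟩

theorem exists_conj_of_pair {G : Type*} [Group G] {A B : Subgroup G} (hA : A ≠ ⊥)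
    (h : Cfsg.IsRankOnePair A B) : ∃ g, B = Cfsg.conjBy A g := by
  obtain ⟨a, ha, ha1⟩ := A.bot_or_exists_ne_one.resolve_left hA
  obtain ⟨b, hb, -, e⟩ := h.cond_left a ha ha1
  refine ⟨a * b⁻¹, ?_⟩
  have h1 : Cfsg.conjBy (Cfsg.conjBy B a⁻¹) a = B := by
    ext x
    simp [Cfsg.conjBy, Subgroup.mem_map, mul_assoc]
  rw [← h1, ← e]
  simp [Cfsg.conjBy, Subgroup.map_map]
  congr 1
/-- Changing the hyperplane of a transvection group. -/
theorem exists_move {v φ ψ w : ι → k} (h : φ ⬝ᵥ v = 0) (h' : ψ ⬝ᵥ v = 0) (hx : φ ⬝ᵥ w ≠ 0)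
    (hy : ψ ⬝ᵥ w = 0) (hψ : ψ ≠ 0) : ∃ g, Cfsg.conjBy (grp v φ) g = grp v ψ := by
  obtain ⟨i, hi⟩ := Function.ne_iff.mp hψ
  have hi' : ψ i ≠ 0 := by simpa using hi
  let w₁ : ι → k := (φ ⬝ᵥ w)⁻¹ • w
  let x₀ : ι → k := (ψ i)⁻¹ • Pi.single i 1
  let x : ι → k := x₀ - (φ ⬝ᵥ x₀) • w₁
  have a1 : φ ⬝ᵥ w₁ = 1 := by simp only [w₁]; rw [dotProduct_smul, smul_eq_mul, inv_mul_cancel₀ hx]
  have a2 : ψ ⬝ᵥ w₁ = 0 := by simp only [w₁]; rw [dotProduct_smul, hy, smul_zero]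
  have a3 : ψ ⬝ᵥ x₀ = 1 := by simp [x₀, hi']
  have a4 : φ ⬝ᵥ x = 0 := by simp [x, dotProduct_sub, dotProduct_smul, a1]
  have a5 : ψ ⬝ᵥ x = 1 := by simp [x, dotProduct_sub, dotProduct_smul, a2, a3]
  have hHU : rowMat φ ψ * colMat w₁ x = 1 := row_mul_col a2 a4 a5 a1
  let M : Matrix.SpecialLinearGroup (Fin 2) k := ⟨!![0, 1; -1, 0], by simp [det_fin_two]⟩
  let g := emb (colMat w₁ x) (rowMat φ ψ) hHU M
  have hg : g.1 = 1 + ((0 - 1 : k) • vecMulVec w₁ φ + (1 : k) • vecMulVec w₁ ψ + (-1 : k) • vecMulVec x φ +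
      (0 - 1 : k) • vecMulVec x ψ) := by simp [g, emb_coe, M]
  have hgv : g.1 *ᵥ v = v := by
    rw [hg]
    simp [add_mulVec, smul_mulVec, neg_mulVec, vecMulVec_mulVec, h, h']
  have hgψ : ψ ᵥ* g.1 = -φ := by
    rw [hg]
    simp [vecMul_add, vecMul_smul, vecMul_neg, vecMul_vecMulVec, a2, a5]
  refine ⟨g, ?_⟩
  rw [conj_grp v φ h, hgv]
  have : φ ᵥ* (g⁻¹).1 = (-1 : k) • ψ := by
    have e : ψ = -(φ ᵥ* (g⁻¹).1) := by
      rw [← neg_vecMul, ← hgψ, vecMul_vecMul, ← val_mul, mul_inv_cancel]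
      simp
    rw [e]; simp
  rw [this]
  simpa using grp_smul v ψ (one_ne_zero (α := k)) (neg_ne_zero.mpr (one_ne_zero (α := k)))

theorem exists_partner {v φ v' φ' : ι → k} (h : φ ⬝ᵥ v = 0) (h' : φ' ⬝ᵥ v' = 0) (hv : v ≠ 0)
    (hφ : φ ≠ 0) (hv' : v' ≠ 0) (hφ' : φ' ≠ 0) :
    ∃ w ψ : ι → k, ψ ⬝ᵥ w = 0 ∧ φ ⬝ᵥ w ≠ 0 ∧ φ' ⬝ᵥ w ≠ 0 ∧ ψ ⬝ᵥ v ≠ 0 ∧ ψ ⬝ᵥ v' ≠ 0 := by
  have key : ∀ (f₁ f₂ : (ι → k) →ₗ[k] k) (W : Submodule k (ι → k)) (a b : ι → k), a ∈ W → b ∈ W →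
      f₁ a ≠ 0 → f₂ b ≠ 0 → ∃ z ∈ W, f₁ z ≠ 0 ∧ f₂ z ≠ 0 := by
    intro f₁ f₂ W a b ha hb h1 h2
    by_cases h3 : f₂ a = 0
    · by_cases h4 : f₁ b = 0
      · exact ⟨a + b, W.add_mem ha hb, by simp [h4, h1], by simp [h3, h2]⟩
      · exact ⟨b, hb, h4, h2⟩
    · exact ⟨a, ha, h1, h3⟩
  obtain ⟨i, hi⟩ := Function.ne_iff.mp hφ
  obtain ⟨j, hj⟩ := Function.ne_iff.mp hφ'
  obtain ⟨w, -, hw1, hw2⟩ := key (dotProductEquiv k ι φ) (dotProductEquiv k ι φ') ⊤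
    (Pi.single i 1) (Pi.single j 1) trivial trivial (by simpa using hi) (by simpa using hj)
  simp only [dotProductEquiv_apply_apply] at hw1 hw2
  have hw0 : w ≠ 0 := by rintro rfl; simp at hw1
  -- functionals vanishing on `w`
  have key2 : ∀ u : ι → k, u ≠ 0 → (∀ a : k, u ≠ a • w) → ∃ ψ : ι → k, ψ ⬝ᵥ w = 0 ∧ ψ ⬝ᵥ u ≠ 0 := by
    intro u hu0 hu
    obtain ⟨l, hl⟩ := Function.ne_iff.mp hw0
    have hl' : w l ≠ 0 := by simpa using hl
    obtain ⟨m, hm⟩ : ∃ m, u m * w l - u l * w m ≠ 0 := by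
      by_contra hcon
      push Not at hcon
      refine hu (u l / w l) (funext fun m => ?_)
      have := hcon m
      simp only [Pi.smul_apply, smul_eq_mul]
      field_simp
      linear_combination this
    refine ⟨w l • Pi.single m 1 - w m • Pi.single l 1, ?_, ?_⟩
    · simp [sub_dotProduct, smul_dotProduct]; ring
    · simp [sub_dotProduct, smul_dotProduct]; intro e; apply hm; linear_combination e
  have nsp : ∀ (u f : ι → k), f ⬝ᵥ u = 0 → u ≠ 0 → f ⬝ᵥ w ≠ 0 → ∀ a : k, u ≠ a • w := by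
    rintro u f hfu hu0 hfw a rfl
    rw [dotProduct_smul, smul_eq_mul, mul_eq_zero] at hfu
    rcases hfu with rfl | e
    · simp at hu0
    · exact hfw e
  obtain ⟨p, hp1, hp2⟩ := key2 v hv (nsp v φ h hv hw1)
  obtain ⟨q, hq1, hq2⟩ := key2 v' hv' (nsp v' φ' h' hv' hw2)
  by_cases h3 : p ⬝ᵥ v' = 0
  · by_cases h4 : q ⬝ᵥ v = 0
    · exact ⟨w, p + q, by simp [add_dotProduct, hp1, hq1], hw1, hw2,
        by simp [add_dotProduct, h4, hp2], by simp [add_dotProduct, h3, hq2]⟩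
    · exact ⟨w, q, hq1, hw1, hw2, h4, hq2⟩
  · exact ⟨w, p, hp1, hw1, hw2, hp2, h3⟩

end CfsgLib.RootSub.Transv
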