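/-
Root involutions.
-/
import Mathlib
import Cfsg.Prelude.Def_RootSubgroups

set_option autoImplicit false

namespace CfsgLib.RootInv

open Cfsg Relation

universe u
variable {G : Type u} [Group G] {D : Set G}

theorem mul_self (hD : IsRootInvolutionSet D) {d : G} (hd : d ∈ D) : d * d = 1 := by
  rw [← pow_two, ← hD.orderOf_eq d hd, pow_orderOf_eq_one]

theorem inv_eq (hD : IsRootInvolutionSet D) {d : G} (hd : d ∈ D) : d⁻¹ = d :=
  inv_eq_of_mul_eq_one_right (mul_self hD hd)

theorem ne_one (hD : IsRootInvolutionSet D) {d : G} (hd : d ∈ D) : d ≠ 1 := fun e => by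
  have := hD.orderOf_eq d hd
  simp [e] at this

theorem orderOf_mul_comm (a b : G) : orderOf (b * a) = orderOf (a * b) := by
  rw [show b * a = (MulAut.conj b) (a * b) by simp [mul_assoc]]
  exact MulEquiv.orderOf_eq _ _

theorem odd_symm {a b : G} (h : OddAdj D a b) : OddAdj D b a :=
  ⟨h.2.1, h.1, h.2.2.1.symm, by rw [orderOf_mul_comm]; exact h.2.2.2⟩

theorem odd_conj (hD : IsRootInvolutionSet D) {a b : G} (g : G) (h : OddAdj D a b) :
    OddAdj D (g * a * g⁻¹) (g * b * g⁻¹) := by
  refine ⟨hD.conj_mem a h.1 g, hD.conj_mem b h.2.1 g, fun e => h.2.2.1 (mul_left_cancel (mul_right_cancel e)), ?_⟩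
  rw [show g * a * g⁻¹ * (g * b * g⁻¹) = (MulAut.conj g) (a * b) by simp [mul_assoc], MulEquiv.orderOf_eq]
  exact h.2.2.2

theorem reach_symm {a b : G} (h : ReflTransGen (OddAdj D) a b) : ReflTransGen (OddAdj D) b a := by
  induction h with
  | refl => exact ReflTransGen.refl
  | tail _ h ih => exact ReflTransGen.head (odd_symm h) ih

theorem reach_conj (hD : IsRootInvolutionSet D) {a b : G} (g : G) (h : ReflTransGen (OddAdj D) a b) :
    ReflTransGen (OddAdj D) (g * a * g⁻¹) (g * b * g⁻¹) := by
  induction h with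
  | refl => exact ReflTransGen.refl
  | tail _ h ih => exact ih.tail (odd_conj hD g h)

theorem comp_eq {a b : G} (h : ReflTransGen (OddAdj D) a b) :
    elemComponentOf (OddAdj D) D a = elemComponentOf (OddAdj D) D b :=
  Set.ext fun _ => ⟨fun hz => ⟨hz.1, (reach_symm h).trans hz.2⟩, fun hz => ⟨hz.1, h.trans hz.2⟩⟩

/-- The elements fixing the component of `a`. -/
def compStab (hD : IsRootInvolutionSet D) (a : G) : Subgroup G where
  carrier := {g | ReflTransGen (OddAdj D) a (g * a * g⁻¹)}
  one_mem' := by show ReflTransGen _ _ _; simpa using ReflTransGen.refl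
  mul_mem' := by
    intro x y hx hy
    show ReflTransGen _ _ _
    have := reach_conj hD x hy
    rw [show x * (y * a * y⁻¹) * x⁻¹ = x * y * a * (x * y)⁻¹ by group] at this
    exact hx.trans this
  inv_mem' := by
    intro x hx
    show ReflTransGen _ _ _
    have := reach_conj hD x⁻¹ hx
    rw [show x⁻¹ * (x * a * x⁻¹) * x⁻¹⁻¹ = a by group] at this
    exact reach_symm this

/-- A non-isolated member and a member with which it forms a line lie in one component. -/
theorem line_reach (hD : IsRootInvolutionSet D) {a b p : G} (hb : b ∈ D) (hab : a * b = b * a)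
    (he : a * b ∈ D) (hp : OddAdj D a p) :
    ReflTransGen (OddAdj D) a b ∨ ReflTransGen (OddAdj D) a (a * b) := by
  by_contra hno
  rw [not_or] at hno
  obtain ⟨hnb, hne⟩ := hno
  have ha := hp.1
  have hp' := hp.2.1
  have haa := mul_self hD ha
  have hainv := inv_eq hD ha
  have hbb := mul_self hD hb
  have hbinv := inv_eq hD hb
  obtain ⟨h, hh⟩ := hp.2.2.2
  set n := orderOf (a * p) with hn
  set t := a * p with ht
  have htn : t ^ n = 1 := pow_orderOf_eq_one t
  have hn3 : 3 ≤ n := by
    rcases Nat.eq_zero_or_pos h with h0 | h0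
    · exfalso
      rw [h0] at hh
      have : t = 1 := orderOf_eq_one_iff.mp (hh.trans (by norm_num))
      exact hp.2.2.1 (by rw [← hainv, inv_eq_of_mul_eq_one_right this])
    · omega
  have hta : a * t * a = t⁻¹ := by
    rw [ht, mul_inv_rev, hainv, inv_eq hD hp', ← mul_assoc, haa, one_mul]
  have htia : ∀ i : ℕ, a * t ^ i * a = (t ^ i)⁻¹ := fun i => by
    induction i with
    | zero => simp [haa]
    | succ i ih =>
      rw [pow_succ, mul_inv_rev]
      calc a * (t ^ i * t) * a = (a * t ^ i * a) * (a * t * a) := by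
            calc a * (t ^ i * t) * a = a * t ^ i * (a * a) * t * a := by rw [haa]; group
              _ = _ := by group
        _ = t⁻¹ * (t ^ i)⁻¹ := by
            rw [ih, hta]; exact (Commute.pow_self t i).inv_inv.eq
  -- the stabiliser of the component
  set K := compStab hD a
  have haK : a ∈ K := by show ReflTransGen _ _ _; rw [mul_inv_cancel_right]
  have hbK : b ∈ K := by show ReflTransGen _ _ _; rw [← hab, mul_inv_cancel_right]
  have hpK : p ∈ K := by
    show ReflTransGen _ _ _
    have := odd_conj hD p (odd_symm hp)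
    rw [mul_inv_cancel_right] at this
    exact (ReflTransGen.single hp).tail this
  have htK : t ∈ K := mul_mem haK hpK
  set c : ℕ → G := fun i => t ^ i * b * (t ^ i)⁻¹ with hc
  have hcK : ∀ i, c i ∈ K := fun i => mul_mem (mul_mem (pow_mem htK i) hbK) (inv_mem (pow_mem htK i))
  -- conjugates of `b` commute with it
  have hbc : ∀ i, b * c i = c i * b := by
    intro i
    set q := t ^ i * a with hq
    clear_value q
    have hqq : q * q = 1 := by
      calc q * q = t ^ i * (a * t ^ i * a) := by rw [hq]; group
        _ = 1 := by rw [htia, mul_inv_cancel]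
    have hqinv : q⁻¹ = q := inv_eq_of_mul_eq_one_right hqq
    have hci : c i = q * b * q := by
      calc c i = t ^ i * (a * a * b) * (t ^ i)⁻¹ := by rw [haa, one_mul]
        _ = t ^ i * (a * (b * a)) * (t ^ i)⁻¹ := by rw [← hab]; group
        _ = q * b * q⁻¹ * (q * a * (t ^ i)⁻¹) := by rw [hq]; group
        _ = q * b * q := by
          rw [hqinv, show q * a = t ^ i by rw [hq, mul_assoc, haa, mul_one], mul_inv_cancel, mul_one]
    have hqD : q ∈ D ∧ ReflTransGen (OddAdj D) a q := by
      have key : ∃ j : ℕ, q = t ^ j * a * (t ^ j)⁻¹ := by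
        -- `2` is invertible modulo `n`
        refine ⟨i * (h + 1), ?_⟩
        have e2 : (t ^ (i * (h + 1))) ^ 2 = t ^ i := by
          rw [← pow_mul, show i * (h + 1) * 2 = n * i + i by rw [hh]; ring, pow_add, pow_mul, htn, one_pow, one_mul]
        rw [hq, ← e2, pow_two]
        calc t ^ (i * (h + 1)) * t ^ (i * (h + 1)) * a = t ^ (i * (h + 1)) * (a * (a * t ^ (i * (h + 1)) * a)) := by
              calc t ^ (i * (h + 1)) * t ^ (i * (h + 1)) * a = t ^ (i * (h + 1)) * ((a * a) * t ^ (i * (h + 1)) * a) := by
                    rw [haa]; group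
                _ = _ := by group
          _ = _ := by rw [htia]; group
      obtain ⟨j, hj⟩ := key
      rw [hj]
      exact ⟨hD.conj_mem a ha _, pow_mem htK j⟩
    rcases hD.pair b hb q hqD.1 with e | e | ⟨e, -⟩
    · have : c i = b := by rw [hci, ← e, mul_assoc, hqq, mul_one]
      rw [this]
    · exfalso
      by_cases hbq : b = q
      · exact hnb (hbq ▸ hqD.2)
      · exact hnb (hqD.2.tail (odd_symm ⟨hb, hqD.1, hbq, e⟩))
    · rw [hci]
      have h4 : (b * q) ^ 4 = 1 := by rw [← e, pow_orderOf_eq_one]
      have h2 : b * q * b * q = (b * q * b * q)⁻¹ := by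
        refine eq_inv_of_mul_eq_one_left ?_
        rw [← h4]; simp only [pow_succ, pow_zero, one_mul]; group
      calc b * (q * b * q) = b * q * b * q := by group
        _ = (b * q * b * q)⁻¹ := h2
        _ = q * b * q * b := by rw [mul_inv_rev, mul_inv_rev, mul_inv_rev, hqinv, hbinv]; group
  have hcc : ∀ i j, Commute (c i) (c j) := by
    have hle : ∀ i j, i ≤ j → Commute (c i) (c j) := by
      intro i j hij
      obtain ⟨k, rfl⟩ := Nat.exists_eq_add_of_le hij
      have e : c (i + k) = t ^ i * c k * (t ^ i)⁻¹ := by simp only [hc, pow_add]; group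
      have e' : c i = t ^ i * b * (t ^ i)⁻¹ := rfl
      show c i * c (i + k) = c (i + k) * c i
      rw [e, e']
      calc t ^ i * b * (t ^ i)⁻¹ * (t ^ i * c k * (t ^ i)⁻¹) = t ^ i * (b * c k) * (t ^ i)⁻¹ := by group
        _ = _ := by rw [hbc]; group
    exact fun i j => (le_total i j).elim (hle i j) fun h => (hle j i h).symm
  set M := Subgroup.closure (Set.range c) with hM
  have hMcomm : ∀ x ∈ M, ∀ y ∈ M, Commute x y := fun x hx y hy => by
    have h1 : M ≤ Subgroup.centralizer (Set.range c) := (Subgroup.closure_le _).mpr fun z ⟨i, hi⟩ =>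
      Subgroup.mem_centralizer_iff.mpr fun w ⟨j, hj⟩ => hj ▸ hi ▸ (hcc j i).eq
    have h2 : M ≤ Subgroup.centralizer ({x} : Set G) := (Subgroup.closure_le _).mpr fun z hz =>
      Subgroup.mem_centralizer_singleton_iff.mpr (Subgroup.mem_centralizer_iff.mp (h1 hx) z hz)
    exact (Subgroup.mem_centralizer_singleton_iff.mp (h2 hy)).symm
  have hMK : M ≤ K := (Subgroup.closure_le _).mpr fun z ⟨i, hi⟩ => hi ▸ hcK i
  have hc0 : c 0 = b := by simp [hc]
  have hcM : ∀ i, c i ∈ M := fun i => Subgroup.subset_closure ⟨i, rfl⟩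
  let Q : ℕ → G := fun k => Nat.rec 1 (fun i q => q * c i) k
  have hQs : ∀ k, Q (k + 1) = Q k * c k := fun k => rfl
  have hQM : ∀ k, Q k ∈ M := fun k => by
    induction k with
    | zero => exact one_mem _
    | succ k ih => rw [hQs]; exact mul_mem ih (hcM k)
  have hshift : ∀ k, t * Q k * t⁻¹ * b = Q (k + 1) := by
    intro k
    induction k with
    | zero => show t * 1 * t⁻¹ * b = 1 * c 0; rw [hc0]; group
    | succ k ih =>
      have ha1 : t * c k * t⁻¹ = c (k + 1) := by simp only [hc, pow_succ']; group
      have h2 : Commute (c (k + 1)) b := hc0 ▸ hcc (k + 1) 0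
      rw [hQs (k + 1)]
      nth_rewrite 2 [← ih]
      rw [hQs k]
      calc t * (Q k * c k) * t⁻¹ * b = t * Q k * t⁻¹ * (t * c k * t⁻¹ * b) := by group
        _ = t * Q k * t⁻¹ * (b * c (k + 1)) := by rw [ha1, h2.eq]
        _ = _ := by group
  set z := Q n with hz
  have hzt : Commute z t := by
    have h1 := hshift n
    rw [hQs, show c n = b by simp [hc, htn]] at h1
    exact (mul_inv_eq_iff_eq_mul.mp (mul_right_cancel h1)).symm
  have hrefl : ∀ k, k < n → Q (n - k) * (a * (b * Q (k + 1)) * a) = z := by
    intro k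
    induction k with
    | zero =>
      intro _
      show Q n * (a * (b * (1 * c 0)) * a) = z
      rw [hc0, one_mul, hbb, mul_one, haa, mul_one]
    | succ k ih =>
      intro hk
      have e1 : a * c (k + 1) * a = c (n - (k + 1)) := by
        have e2 : t ^ (n - (k + 1)) = (t ^ (k + 1))⁻¹ :=
          eq_inv_of_mul_eq_one_left (by rw [← pow_add, Nat.sub_add_cancel hk.le, htn])
        show a * (t ^ (k + 1) * b * (t ^ (k + 1))⁻¹) * a = _
        calc a * (t ^ (k + 1) * b * (t ^ (k + 1))⁻¹) * a
            = (a * t ^ (k + 1) * a) * (a * b * a) * (a * t ^ (k + 1) * a)⁻¹ := by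
              calc a * (t ^ (k + 1) * b * (t ^ (k + 1))⁻¹) * a
                  = a * (t ^ (k + 1) * (a * a) * b * (a * a) * (t ^ (k + 1))⁻¹) * a := by rw [haa, mul_one, mul_one]
                _ = _ := by rw [mul_inv_rev, mul_inv_rev, hainv]; group
          _ = c (n - (k + 1)) := by rw [htia, hab, mul_assoc b, haa, mul_one]; simp only [hc, e2]
      have e3 : a * (b * Q (k + 1 + 1)) * a = c (n - (k + 1)) * (a * (b * Q (k + 1)) * a) := by
        have e4 : b * Q (k + 1 + 1) = c (k + 1) * (b * Q (k + 1)) := by
          rw [hQs (k + 1), ← mul_assoc]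
          exact (hMcomm _ (mul_mem (hc0 ▸ hcM 0) (hQM (k + 1))) _ (hcM (k + 1))).eq
        rw [e4, ← e1]
        calc a * (c (k + 1) * (b * Q (k + 1))) * a = a * (c (k + 1) * (a * a) * (b * Q (k + 1))) * a := by
              rw [haa, mul_one]
          _ = _ := by group
      rw [e3, ← mul_assoc, ← hQs, show n - (k + 1) + 1 = n - k by omega]
      exact ih (by omega)
  set m := b * Q (h + 1) with hm
  have hmM : m ∈ M := mul_mem (hc0 ▸ hcM 0) (hQM (h + 1))
  have hzeq : b * m * (a * m * a) = z := by
    have := hrefl h (by omega)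
    rwa [show n - h = h + 1 by omega, show Q (h + 1) = b * m by rw [hm, ← mul_assoc, hbb, one_mul],
      ← mul_assoc b b m, hbb, one_mul] at this
  have hamaM : a * m * a ∈ M := by
    have hle : M ≤ M.comap (MulAut.conj a).toMonoidHom := (Subgroup.closure_le _).mpr fun w ⟨i, hi⟩ => by
      show a * w * a⁻¹ ∈ M
      rw [← hi, hainv]
      have e : a * c i * a = (t ^ i)⁻¹ * b * t ^ i := by
        calc a * (t ^ i * b * (t ^ i)⁻¹) * a = (a * t ^ i * a) * (a * b * a) * (a * t ^ i * a)⁻¹ := by
              calc a * (t ^ i * b * (t ^ i)⁻¹) * a = a * (t ^ i * (a * a) * b * (a * a) * (t ^ i)⁻¹) * a := by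
                    rw [haa, mul_one, mul_one]
                _ = _ := by rw [mul_inv_rev, mul_inv_rev, hainv]; group
          _ = _ := by rw [htia, hab, mul_assoc b, haa, mul_one, inv_inv]
      rw [e]
      have : ∃ j, (t ^ i)⁻¹ = t ^ j := ⟨n * i - i, eq_comm.mp (eq_inv_of_mul_eq_one_left (by
        rw [← pow_add, Nat.sub_add_cancel (Nat.le_mul_of_pos_left i (by omega)), pow_mul, htn, one_pow]))⟩
      obtain ⟨j, hj⟩ := this
      rw [show t ^ i = (t ^ j)⁻¹ by rw [← hj, inv_inv], inv_inv]
      exact hcM j
    have := hle hmM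
    rw [Subgroup.mem_comap] at this
    simpa [hainv] using this
  have hzM : z ∈ M := hQM n
  have hbM : b ∈ M := hc0 ▸ hcM 0
  have hza : Commute z a := by
    show z * a = a * z
    have e : a * z * a = z := by
      rw [← hzeq]
      have hbm : Commute m (a * m * a) := hMcomm _ hmM _ hamaM
      calc a * (b * m * (a * m * a)) * a = (a * b) * m * a * m * (a * a) := by group
        _ = b * ((a * m * a) * m) := by rw [hab, haa]; group
        _ = b * m * (a * m * a) := by rw [← hbm.eq]; group
    calc z * a = a * z * a * a := by rw [e]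
      _ = a * z := by rw [mul_assoc, haa, mul_one]
  have he' : a * b = z * (m * a * m) := by
    have hzz : z * z = 1 := by
      have hsq : ∀ x ∈ M, x * x = 1 := fun x hx => by
        induction hx using Subgroup.closure_induction with
        | mem x hx =>
          obtain ⟨i, rfl⟩ := hx
          show t ^ i * b * (t ^ i)⁻¹ * (t ^ i * b * (t ^ i)⁻¹) = 1
          calc t ^ i * b * (t ^ i)⁻¹ * (t ^ i * b * (t ^ i)⁻¹) = t ^ i * (b * b) * (t ^ i)⁻¹ := by group
            _ = 1 := by rw [hbb]; group
        | one => simp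
        | mul x y hx hy h1 h2 =>
          calc x * y * (x * y) = x * (y * x) * y := by group
            _ = (x * x) * (y * y) := by rw [(hMcomm y hy x hx).eq]; group
            _ = 1 := by rw [h1, h2, one_mul]
        | inv x _ h1 => rw [← mul_inv_rev, h1, inv_one]
      exact hsq z hzM
    have h1 : b = z * (m * (a * m * a)) := by
      have hbz : b * z = m * (a * m * a) := by
        rw [← hzeq, mul_assoc b m, ← mul_assoc b b, hbb, one_mul]
      rw [← hbz, (hMcomm b hbM z hzM).eq, ← mul_assoc, hzz, one_mul]
    rw [h1, ← mul_assoc, ← hza.eq, mul_assoc z]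
    congr 1
    have hbm : Commute m (a * m * a) := hMcomm _ hmM _ hamaM
    calc a * (m * (a * m * a)) = a * (a * m * a * m) := by rw [hbm.eq]
      _ = (a * a) * (m * a * m) := by group
      _ = m * a * m := by rw [haa, one_mul]
  have hmm : m⁻¹ = m := by
    have hsq : m * m = 1 := by
      have hq : Commute b (Q (h + 1)) := hMcomm _ hbM _ (hQM (h + 1))
      have hqq : Q (h + 1) * Q (h + 1) = 1 := by
        have : ∀ k, Q k * Q k = 1 := fun k => by
          induction k with
          | zero => exact one_mul 1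
          | succ k ih =>
            have hck : c k * c k = 1 := by
              show t ^ k * b * (t ^ k)⁻¹ * (t ^ k * b * (t ^ k)⁻¹) = 1
              calc t ^ k * b * (t ^ k)⁻¹ * (t ^ k * b * (t ^ k)⁻¹) = t ^ k * (b * b) * (t ^ k)⁻¹ := by group
                _ = 1 := by rw [hbb]; group
            rw [hQs]
            calc Q k * c k * (Q k * c k) = Q k * (c k * Q k) * c k := by group
              _ = (Q k * Q k) * (c k * c k) := by rw [(hMcomm _ (hcM k) _ (hQM k)).eq]; group
              _ = 1 := by rw [ih, hck, one_mul]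
        exact this (h + 1)
      calc m * m = b * (Q (h + 1) * b) * Q (h + 1) := by rw [hm]; group
        _ = (b * b) * (Q (h + 1) * Q (h + 1)) := by rw [← hq.eq]; group
        _ = 1 := by rw [hbb, hqq, one_mul]
    exact inv_eq_of_mul_eq_one_right hsq
  rcases eq_or_ne z 1 with hz1 | hz1
  · apply hne
    rw [he', hz1, one_mul]
    have := hMK hmM
    change ReflTransGen (OddAdj D) a (m * a * m⁻¹) at this
    rwa [hmm] at this
  · -- `z` centralizes a dihedral group of odd order
    set u := m * t * m⁻¹ with hu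
    have hzm : Commute z m := hMcomm _ hzM _ hmM
    have hzu : Commute z u := (hzm.mul_right hzt).mul_right hzm.inv_right
    have huo : orderOf u = n := by rw [hu, ← MulAut.conj_apply, MulEquiv.orderOf_eq]
    have hprod : a * b * (m * p * m⁻¹) = z * u := by
      rw [he', hu, ht]
      calc z * (m * a * m) * (m * p * m⁻¹) = z * (m * a * (m * m) * p * m⁻¹) := by group
        _ = z * (m * (a * p) * m⁻¹) := by rw [show m * m = 1 by (nth_rewrite 1 [← hmm]; exact inv_mul_cancel m)]; group
    have hzo : orderOf z = 2 := by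
      refine orderOf_eq_prime ?_ hz1
      rw [pow_two]
      have h1 : (a * b) * (a * b) = 1 := mul_self hD he
      have hzmam : Commute z (m * a * m) := (hzm.mul_right hza).mul_right hzm
      rw [he'] at h1
      have hmam : (m * a * m) * (m * a * m) = 1 := by
        have hmm' : m * m = 1 := by nth_rewrite 1 [← hmm]; exact inv_mul_cancel m
        calc (m * a * m) * (m * a * m) = m * a * (m * m) * a * m := by group
          _ = 1 := by rw [hmm', mul_one, mul_assoc m a a, haa, mul_one, hmm']
      calc z * z = z * z * ((m * a * m) * (m * a * m)) := by rw [hmam, mul_one]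
        _ = z * (z * (m * a * m)) * (m * a * m) := by group
        _ = z * (m * a * m * z) * (m * a * m) := by rw [hzmam.eq]
        _ = z * (m * a * m) * (z * (m * a * m)) := by group
        _ = 1 := h1
    have ho : orderOf (a * b * (m * p * m⁻¹)) = 2 * n := by
      rw [hprod, hzu.orderOf_mul_eq_mul_orderOf_of_coprime, hzo, huo]
      rw [hzo, huo, Nat.coprime_two_left]
      exact ⟨h, hh⟩
    have hp2 := hD.conj_mem p hp' m
    rcases hD.pair (a * b) he _ hp2 with e | e | ⟨e, -⟩
    · have : (a * b * (m * p * m⁻¹)) ^ 2 = 1 := by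
        calc (a * b * (m * p * m⁻¹)) ^ 2 = (a * b) * ((m * p * m⁻¹) * (a * b)) * (m * p * m⁻¹) := by rw [pow_two]; group
          _ = ((a * b) * (a * b)) * ((m * p * m⁻¹) * (m * p * m⁻¹)) := by rw [← e]; group
          _ = 1 := by rw [mul_self hD he, mul_self hD hp2, one_mul]
      have := Nat.le_of_dvd (by norm_num) (orderOf_dvd_of_pow_eq_one this)
      omega
    · rw [ho] at e
      exact Nat.not_even_iff_odd.mpr e (even_two_mul n)
    · omega

/-- Two non-isolated members with product in `D` lie in one component. -/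
theorem line_reach' (hD : IsRootInvolutionSet D) {a b : G} (ha : a ∈ D) (hb : b ∈ D) (hab : a * b = b * a)
    (he : a * b ∈ D) (hpa : ∃ p, OddAdj D a p) (hpb : ∃ q, OddAdj D b q) : ReflTransGen (OddAdj D) a b := by
  obtain ⟨p, hp⟩ := hpa
  obtain ⟨q, hq⟩ := hpb
  rcases line_reach hD hb hab he hp with h | h
  · exact h
  rcases line_reach hD ha hab.symm (hab ▸ he) hq with h' | h'
  · exact reach_symm h'
  · rw [← hab] at h'
    exact h.trans (reach_symm h')

end CfsgLib.RootInv
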