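/-
Root involutions: a commuting pair with product in the set is a commutator.
-/
import Mathlib
import Cfsg.Agent.Lib.RootSub.RootInv

set_option autoImplicit false

namespace CfsgLib.RootInv

open Cfsg Relation

universe u
variable {G : Type u} [Group G] {D : Set G}

/-- No element centralizing two opposite members translates one of them into the set. -/
theorem no_translate (hD : IsRootInvolutionSet D) {x y z : G} (hxy : OddAdj D x y) (hz1 : z ≠ 1)
    (hzx : Commute z x) (hzy : Commute z y) (hmem : z * x ∈ D) : False := by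
  have hx := hxy.1
  have hy := hxy.2.1
  have hz2 : z ^ 2 = 1 := by
    have h1 := mul_self hD hmem
    rw [← pow_two, hzx.mul_pow, pow_two x, mul_self hD hx, mul_one] at h1
    exact h1
  have hzo : orderOf z = 2 := orderOf_eq_prime hz2 hz1
  obtain ⟨h, hh⟩ := hxy.2.2.2
  have h0 : h ≠ 0 := fun e => by
    rw [e] at hh
    have : x * y = 1 := orderOf_eq_one_iff.mp (hh.trans (by norm_num))
    exact hxy.2.2.1 (by rw [← inv_eq hD hx, inv_eq_of_mul_eq_one_right this])
  have hzxy : Commute z (x * y) := hzx.mul_right hzy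
  have ho : orderOf (z * x * y) = 2 * (2 * h + 1) := by
    rw [mul_assoc, hzxy.orderOf_mul_eq_mul_orderOf_of_coprime, hzo, hh]
    rw [hzo, hh, Nat.coprime_two_left]
    exact ⟨h, rfl⟩
  rcases hD.pair _ hmem y hy with e | e | ⟨e, -⟩
  · have h2 : (z * x * y) ^ 2 = 1 := by
      rw [show z * x * y = (z * x) * y from rfl, (show Commute (z * x) y from e).mul_pow, pow_two, pow_two,
        mul_self hD hmem, mul_self hD hy, one_mul]
    have := Nat.le_of_dvd (by norm_num) (orderOf_dvd_of_pow_eq_one h2)
    omega
  · rw [ho] at e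
    exact Nat.not_even_iff_odd.mpr e (even_two_mul _)
  · omega

/-- A member commuting with its conjugate under another member: the product is trivial or a member. -/
theorem prod_mem (hD : IsRootInvolutionSet D) {u q : G} (hu : u ∈ D) (hq : q ∈ D) (h : Commute u (q * u * q)) :
    u * (q * u * q) = 1 ∨ u * (q * u * q) ∈ D := by
  have e : u * (q * u * q) = (u * q) ^ 2 := by rw [pow_two]; group
  rw [e]
  rcases hD.pair u hu q hq with e' | e' | ⟨-, e'⟩
  · left
    rw [(show Commute u q from e').mul_pow, pow_two, pow_two, mul_self hD hu, mul_self hD hq, one_mul]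
  · left
    have hw : (q * u * q) * (q * u * q) = 1 := by
      calc (q * u * q) * (q * u * q) = q * u * (q * q) * u * q := by group
        _ = q * (u * u) * q := by rw [mul_self hD hq]; group
        _ = 1 := by rw [mul_self hD hu, mul_one, mul_self hD hq]
    have h4 : (u * q) ^ 4 = 1 := by
      calc (u * q) ^ 4 = ((u * q) ^ 2) ^ 2 := by rw [← pow_mul]
        _ = (u * (q * u * q)) ^ 2 := by rw [e]
        _ = 1 := by rw [h.mul_pow, pow_two, pow_two, mul_self hD hu, hw, one_mul]
    have hd : orderOf (u * q) ∣ 4 := orderOf_dvd_of_pow_eq_one h4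
    have hc : (orderOf (u * q)).Coprime (2 ^ 2) := (Nat.coprime_two_right.mpr e').pow_right 2
    rw [orderOf_eq_one_iff.mp (hc.eq_one_of_dvd hd), one_pow]
  · exact Or.inr e'

theorem commute_conj_of_not_odd (hD : IsRootInvolutionSet D) {u q : G} (hu : u ∈ D) (hq : q ∈ D)
    (h : ¬ OddAdj D u q) : Commute u (q * u * q) := by
  have hqi := inv_eq hD hq
  have hui := inv_eq hD hu
  rcases hD.pair u hu q hq with e | e | ⟨e, -⟩
  · rw [show q * u * q = u by rw [← e, mul_assoc, mul_self hD hq, mul_one]]
  · have huq : u = q := by_contra fun hne => h ⟨hu, hq, hne, e⟩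
    subst huq
    rw [mul_self hD hu, one_mul]
  · have h4 : (u * q * u * q) * (u * q * u * q) = 1 := by
      rw [← show (u * q) ^ 4 = (u * q * u * q) * (u * q * u * q) by simp only [pow_succ, pow_zero, one_mul]; group,
        ← e, pow_orderOf_eq_one]
    show u * (q * u * q) = q * u * q * u
    calc u * (q * u * q) = u * q * u * q := by group
      _ = (u * q * u * q)⁻¹ := eq_inv_of_mul_eq_one_left h4
      _ = q⁻¹ * u⁻¹ * q⁻¹ * u⁻¹ := by group
      _ = q * u * q * u := by rw [hqi, hui]

private theorem ac1 {X : Type u} [CommMonoid X] (A B C R : X) : A * R * (B * (R * C * A)) = B * C * (A * A) * (R * R) := by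
  ac_rfl

variable [Finite G]

set_option maxHeartbeats 1600000 in

/-- If `b` forms a line with `a` and is not opposite to an opposite `p` of `a`, then `b` is a commutator of `a`. -/
theorem flip (hD : IsRootInvolutionSet D) {a b p : G} (hb : b ∈ D) (hab : a * b = b * a)
    (he : a * b ∈ D) (hp : OddAdj D a p) (hbp : ¬ OddAdj D b p) :
    ∃ v ∈ D, v * b = b * v ∧ a * v * a * v = b := by
  classical
  have ha := hp.1
  have hp' := hp.2.1
  have haa := mul_self hD ha
  have hainv := inv_eq hD ha
  have hpp := mul_self hD hp'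
  have hbb := mul_self hD hb
  have hb1 := ne_one hD hb
  obtain ⟨h, hh⟩ := hp.2.2.2
  set t := p * a with ht
  have hto : orderOf t = 2 * h + 1 := by rw [ht, orderOf_mul_comm, hh]
  have hh1 : h ≠ 0 := fun e => by
    rw [e] at hto
    have : t = 1 := orderOf_eq_one_iff.mp (hto.trans (by norm_num))
    exact hp.2.2.1 (by rw [← inv_eq hD hp', inv_eq_of_mul_eq_one_right this])
  set n : ℤ := 2 * h + 1 with hn
  have htn : t ^ n = 1 := by
    rw [show n = ((2 * h + 1 : ℕ) : ℤ) by rw [hn]; push_cast; ring, zpow_natCast, ← hto, pow_orderOf_eq_one]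
  have hta : a * t * a⁻¹ = t⁻¹ := by
    rw [ht, mul_inv_rev, hainv, inv_eq hD hp', ← mul_assoc, mul_assoc (a * p), haa, mul_one]
  have hat : ∀ k : ℤ, a * t ^ k * a = t ^ (-k) := fun k => by
    nth_rewrite 2 [← hainv]
    rw [← conj_zpow, hta, inv_zpow, zpow_neg]
  let c : ℤ → G := fun i => t ^ i * b * (t ^ i)⁻¹
  let q : ℤ → G := fun i => t ^ i * a
  have hc0 : c 0 = b := by simp [c]
  have hq0 : q 0 = a := by simp [q]
  have hq1 : q 1 = p := by
    show t ^ (1 : ℤ) * a = p
    rw [zpow_one, ht, mul_assoc, haa, mul_one]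
  have hcD : ∀ i, c i ∈ D := fun i => hD.conj_mem b hb _
  have hcn : ∀ i, c (i + n) = c i := fun i => by
    show t ^ (i + n) * b * (t ^ (i + n))⁻¹ = _
    rw [zpow_add, htn, mul_one]
  have hqD : ∀ k, q k ∈ D := fun k => by
    have e : q k = t ^ (k * (h + 1)) * a * (t ^ (k * (h + 1)))⁻¹ := by
      have e2 : t ^ (k * (h + 1)) * t ^ (k * (h + 1)) = t ^ k := by
        rw [← zpow_add, show k * (↑h + 1) + k * (↑h + 1) = n * k + k by rw [hn]; ring, zpow_add, zpow_mul, htn,
          one_zpow, one_mul]
      set X := t ^ (k * (h + 1)) with hX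
      have hXa : a * X * a = X⁻¹ := by rw [hX, hat, zpow_neg]
      show t ^ k * a = _
      rw [← e2, ← hXa]
      calc X * X * a = X * ((a * a) * X) * a := by rw [haa, one_mul]
        _ = X * a * (a * X * a) := by group
    rw [e]; exact hD.conj_mem a ha _
  have hqc : ∀ k i, q k * c i * q k = c (k - i) := by
    intro k i
    calc q k * c i * q k = t ^ k * (a * (t ^ i * b * (t ^ i)⁻¹) * (t ^ k * a)) := by simp only [q, c]; group
      _ = t ^ k * ((a * t ^ i * a) * (a * b * a) * (a * t ^ i * a)⁻¹ * (a * t ^ k * a)) := by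
          congr 1
          calc a * (t ^ i * b * (t ^ i)⁻¹) * (t ^ k * a)
              = a * (t ^ i * (a * a) * b * (a * a) * (t ^ i)⁻¹ * (a * a) * t ^ k) * a := by
                rw [haa]; group
            _ = _ := by rw [mul_inv_rev, mul_inv_rev, hainv]; group
      _ = t ^ k * (t ^ (-i) * b * (t ^ (-i))⁻¹ * t ^ (-k)) := by
          rw [hat, hat, hab, mul_assoc b a a, haa, mul_one]
      _ = c (k - i) := by simp only [c]; group
  have hac : ∀ i, a * c i * a = c (-i) := fun i => by
    have := hqc 0 i
    rwa [hq0, zero_sub] at this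
  have hshift : ∀ j i, t ^ j * c i * (t ^ j)⁻¹ = c (j + i) := fun j i => by simp only [c]; group
  have hcj : ∀ {i j : ℤ}, Commute (c 0) (c (j - i)) → Commute (c i) (c j) := by
    intro i j hcm
    show c i * c j = c j * c i
    rw [show c i = t ^ i * c 0 * (t ^ i)⁻¹ by rw [hshift, add_zero],
      show c j = t ^ i * c (j - i) * (t ^ i)⁻¹ by rw [hshift]; ring_nf]
    calc t ^ i * c 0 * (t ^ i)⁻¹ * (t ^ i * c (j - i) * (t ^ i)⁻¹) = t ^ i * (c 0 * c (j - i)) * (t ^ i)⁻¹ := by group
      _ = _ := by rw [hcm.eq]; group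
  have hsym : ∀ {k : ℤ}, Commute (c 0) (c k) → Commute (c 0) (c (-k)) := fun {k} hk => by
    have h1 : Commute (c (-k)) (c 0) := hcj (i := -k) (j := 0) (by rwa [zero_sub, neg_neg])
    exact h1.symm
  -- `a` is not opposite to a member commuting with `b`
  have hkey : ∀ x ∈ D, Commute b x → Commute x (a * x * a) := fun x hx hbx =>
    commute_conj_of_not_odd hD hx ha fun ho =>
      no_translate hD (odd_symm ho) hb1 (show Commute b a from hab.symm) hbx (hab ▸ he)
  -- all conjugates of `b` commute
  have hall : ∀ N : ℕ, ∀ k : ℕ, k ≤ N → Commute (c 0) (c k) := by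
    have h0 : Commute (c 0) (c 0) := Commute.refl _
    have h1 : Commute (c 0) (c 1) := by
      have e : c 1 = p * b * p := by rw [← hc0, ← hq1, hqc, sub_zero]
      rw [e, hc0]
      exact commute_conj_of_not_odd hD hb hp' hbp
    have hdouble : ∀ k : ℕ, Commute (c 0) (c k) → Commute (c k) (c (-(k : ℤ))) := fun k hk => by
      rw [← hac]
      exact hkey _ (hcD _) (hc0 ▸ hk)
    intro N
    induction N with
    | zero => intro k hk; rw [Nat.le_zero.mp hk]; exact_mod_cast h0
    | succ N ih =>
      intro k hk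
      rcases Nat.lt_or_ge k (N + 1) with hlt | hge
      · exact ih k (by omega)
      obtain rfl : k = N + 1 := by omega
      rcases Nat.eq_zero_or_pos N with rfl | hN
      · exact_mod_cast h1
      obtain ⟨u, v, huv, hu, hv⟩ : ∃ u v : ℕ, u + v = N + 1 ∧ (v = u ∨ v = u + 1) ∧ v ≤ N :=
        ⟨(N + 1) / 2, N + 1 - (N + 1) / 2, by omega, by omega, by omega⟩
      rcases hu with rfl | rfl
      · have h2 : Commute (c (-(v : ℤ))) (c v) := (hdouble v (ih v hv)).symm
        have e : ((N + 1 : ℕ) : ℤ) = (v : ℤ) - (-(v : ℤ)) := by omega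
        rw [e]
        have h3 : Commute (t ^ (v : ℤ) * c (-(v : ℤ)) * (t ^ (v : ℤ))⁻¹) (t ^ (v : ℤ) * c v * (t ^ (v : ℤ))⁻¹) :=
          h2.map (MulAut.conj (t ^ (v : ℤ))).toMonoidHom
        rw [hshift, hshift, add_neg_cancel] at h3
        rwa [sub_neg_eq_add]
      set A := c u with hA
      set B := c ((u + 1 : ℕ) : ℤ) with hB
      set A' := c (-(u : ℤ)) with hA'
      set B' := c (-((u + 1 : ℕ) : ℤ)) with hB'
      have hAA : A * A = 1 := mul_self hD (hcD _)
      have hBB : B * B = 1 := mul_self hD (hcD _)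
      have hA'A' : A' * A' = 1 := mul_self hD (hcD _)
      have hB'B' : B' * B' = 1 := mul_self hD (hcD _)
      have hABc : Commute A B := hcj (by
        rw [show ((u + 1 : ℕ) : ℤ) - u = ((1 : ℕ) : ℤ) by omega]; exact ih 1 hN)
      have hA'B' : Commute A' B' := hcj (by
        rw [show -((u + 1 : ℕ) : ℤ) - -(u : ℤ) = -((1 : ℕ) : ℤ) by omega]; exact hsym (ih 1 hN))
      have hAA' : Commute A A' := hdouble u (ih u (by omega))
      have hBB' : Commute B B' := hdouble (u + 1) (ih (u + 1) hv)
      suffices hgoal : Commute B A' by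
        have h3 : Commute (t ^ (u : ℤ) * A' * (t ^ (u : ℤ))⁻¹) (t ^ (u : ℤ) * B * (t ^ (u : ℤ))⁻¹) :=
          hgoal.symm.map (MulAut.conj (t ^ (u : ℤ))).toMonoidHom
        rw [hA', hB, hshift, hshift, add_neg_cancel] at h3
        rw [show ((N + 1 : ℕ) : ℤ) = (u : ℤ) + ((u + 1 : ℕ) : ℤ) by omega]
        exact h3
      -- the product `A B`
      have hE : Commute (A * B) (A' * B') := by
        by_cases hAB1 : A * B = 1
        · rw [hAB1]; exact Commute.one_left _
        have hρ : q ((u : ℤ) + ((u + 1 : ℕ) : ℤ)) * A * q ((u : ℤ) + ((u + 1 : ℕ) : ℤ)) = B := by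
          rw [hA, hqc, add_sub_cancel_left]
        have hmem : A * B ∈ D := by
          have := prod_mem hD (hcD u) (hqD ((u : ℤ) + ((u + 1 : ℕ) : ℤ))) (by rw [← hA, hρ]; exact hABc)
          rw [← hA, hρ] at this
          exact this.resolve_left hAB1
        have hbA : Commute b A := hc0 ▸ ih u (by omega)
        have hbB : Commute b B := hc0 ▸ ih (u + 1) hv
        have h4 := hkey _ hmem (hbA.mul_right hbB)
        have e : a * (A * B) * a = A' * B' := by
          rw [hA', hB', ← hac, ← hac, ← hA, ← hB]
          calc a * (A * B) * a = a * A * (a * a) * B * a := by rw [haa]; group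
            _ = _ := by group
        rwa [e] at h4
      set δ := B * A' * B * A' with hδ
      have hAi : A⁻¹ = A := inv_eq_of_mul_eq_one_right hAA
      have hBi : B⁻¹ = B := inv_eq_of_mul_eq_one_right hBB
      have hA'i : A'⁻¹ = A' := inv_eq_of_mul_eq_one_right hA'A'
      have hB'i : B'⁻¹ = B' := inv_eq_of_mul_eq_one_right hB'B'
      have hZ : δ = A * B' * A * B' := by
        have e1 : B * A' = A' * (A * B' * A * B') * B := by
          calc B * A' = A * (A * B * (A' * B')) * B' := by
                calc B * A' = (A * A) * B * A' * (B' * B') := by rw [hAA, hB'B', one_mul, mul_one]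
                  _ = _ := by group
            _ = A * (A' * B' * (A * B)) * B' := by rw [hE.eq]
            _ = (A * A') * B' * A * (B * B') := by group
            _ = (A' * A) * B' * A * (B' * B) := by rw [hAA'.eq, hBB'.eq]
            _ = _ := by group
        calc δ = (B * A') * B * A' := hδ
          _ = A' * (A * B' * A * B') * (B * B) * A' := by rw [e1]; group
          _ = A' * (A * B' * A * B') * A' := by rw [hBB, mul_one]
          _ = A * B' * A * B' := by
            have hc' : Commute A' (A * B' * A * B') := ((hAA'.symm.mul_right hA'B').mul_right hAA'.symm).mul_right hA'B'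
            rw [hc'.eq, mul_assoc, hA'A', mul_one]
      have hδB : Commute δ B := by rw [hZ]; exact ((hABc.mul_left hBB'.symm).mul_left hABc).mul_left hBB'.symm
      have hδ2 : δ⁻¹ = δ := by
        have e1 : B * δ * B = δ⁻¹ := by
          calc B * δ * B = (B * B) * A' * B * A' * B := by rw [hδ]; group
            _ = A'⁻¹ * B⁻¹ * A'⁻¹ * B⁻¹ := by rw [hBB, one_mul, hA'i, hBi]
            _ = δ⁻¹ := by rw [hδ]; group
        rw [← e1, ← hδB.eq, mul_assoc, hBB, mul_one]
      by_contra hno
      have hδ1 : δ ≠ 1 := fun e => hno (by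
        show B * A' = A' * B
        calc B * A' = (B * A' * B * A') * (A'⁻¹ * B⁻¹) := by group
          _ = A' * B := by rw [← hδ, e, one_mul, hA'i, hBi])
      have hρB : p * B * p = A' := by
        rw [← hq1, hB, hqc, hA']
        congr 1
        omega
      have hodd : OddAdj D B p := by
        by_contra ho
        exact hno (hρB ▸ commute_conj_of_not_odd hD (hcD _) hp' ho)
      have hρA : p * A' * p = B := by
        rw [← hρB]
        calc p * (p * B * p) * p = (p * p) * B * (p * p) := by group
          _ = B := by rw [hpp, one_mul, mul_one]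
      have hδp : Commute δ p := by
        have e : p * δ * p = δ⁻¹ := by
          calc p * δ * p = p * B * (p * p) * A' * (p * p) * B * (p * p) * A' * p := by rw [hδ, hpp]; group
            _ = (p * B * p) * (p * A' * p) * (p * B * p) * (p * A' * p) := by group
            _ = A'⁻¹ * B⁻¹ * A'⁻¹ * B⁻¹ := by rw [hρB, hρA, hA'i, hBi]
            _ = δ⁻¹ := by rw [hδ]; group
        show δ * p = p * δ
        calc δ * p = (p * δ * p) * p := by rw [e, hδ2]
          _ = p * δ := by rw [mul_assoc, hpp, mul_one]
      refine no_translate hD hodd hδ1 hδB hδp ?_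
      rw [show δ * B = B * δ from hδB.eq, show B * δ = A' * B * A'⁻¹ by
        rw [hA'i]
        calc B * δ = (B * B) * A' * B * A' := by rw [hδ]; group
          _ = A' * B * A' := by rw [hBB, one_mul]]
      exact hD.conj_mem _ (hcD _) _
  have hcc : ∀ i j, Commute (c i) (c j) := by
    intro i j
    apply hcj
    obtain ⟨k, hk | hk⟩ := Int.eq_nat_or_neg (j - i)
    · rw [hk]; exact hall k k le_rfl
    · rw [hk]; exact hsym (hall k k le_rfl)
  set M := Subgroup.closure (Set.range c) with hM
  have hMcomm : ∀ x ∈ M, ∀ y ∈ M, Commute x y := fun x hx y hy => by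
    have h1 : M ≤ Subgroup.centralizer (Set.range c) := (Subgroup.closure_le _).mpr fun z ⟨i, hi⟩ =>
      Subgroup.mem_centralizer_iff.mpr fun w ⟨j, hj⟩ => hj ▸ hi ▸ (hcc j i).eq
    have h2 : M ≤ Subgroup.centralizer ({x} : Set G) := (Subgroup.closure_le _).mpr fun z hz =>
      Subgroup.mem_centralizer_singleton_iff.mpr (Subgroup.mem_centralizer_iff.mp (h1 hx) z hz)
    exact (Subgroup.mem_centralizer_singleton_iff.mp (h2 hy)).symm
  have hcM : ∀ i, c i ∈ M := fun i => Subgroup.subset_closure ⟨i, rfl⟩
  have hbM : b ∈ M := hc0 ▸ hcM 0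
  letI : CommGroup M := { (inferInstance : Group M) with mul_comm := fun x y => Subtype.ext (hMcomm _ x.2 _ y.2).eq }
  let cM : ℤ → M := fun i => ⟨c i, hcM i⟩
  have hMsq : ∀ x : M, x * x = 1 := by
    rintro ⟨x, hx⟩
    apply Subtype.ext
    show x * x = 1
    induction hx using Subgroup.closure_induction with
    | mem x hx => obtain ⟨i, rfl⟩ := hx; exact mul_self hD (hcD i)
    | one => exact one_mul 1
    | mul x y hx hy h1 h2 =>
      calc x * y * (x * y) = x * (y * x) * y := by group
        _ = (x * x) * (y * y) := by rw [(hMcomm y hy x hx).eq]; group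
        _ = 1 := by rw [h1, h2, one_mul]
    | inv x _ h1 => rw [← mul_inv_rev, h1, inv_one]
  have hMinv : ∀ x : M, x⁻¹ = x := fun x => inv_eq_of_mul_eq_one_right (hMsq x)
  have hTmem : ∀ x : M, t * (x : G) * t⁻¹ ∈ M := by
    rintro ⟨x, hx⟩
    have hle : M ≤ M.comap (MulAut.conj t).toMonoidHom := (Subgroup.closure_le _).mpr fun w ⟨i, hi⟩ => by
      show t * w * t⁻¹ ∈ M
      have e := hshift 1 i
      rw [zpow_one] at e
      rw [← hi, e]
      exact hcM _
    exact hle hx
  let T : M →* M := MonoidHom.mk' (fun x => ⟨t * (x : G) * t⁻¹, hTmem x⟩) fun x y => Subtype.ext (by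
    show t * ((x : G) * y) * t⁻¹ = (t * x * t⁻¹) * (t * y * t⁻¹); group)
  have hTc : ∀ i, T (cM i) = cM (i + 1) := fun i => Subtype.ext (by
    show t * c i * t⁻¹ = c (i + 1)
    have e := hshift 1 i
    rw [zpow_one, add_comm] at e
    exact e)
  let Q : ℕ → M := fun k => ∏ i ∈ Finset.range k, cM i
  have hTQ : ∀ k, T (Q k) * cM 0 = Q (k + 1) := fun k => by
    show T (∏ i ∈ Finset.range k, cM i) * cM 0 = ∏ i ∈ Finset.range (k + 1), cM i
    rw [Finset.prod_range_succ', map_prod]
    simp only [hTc, Nat.cast_add, Nat.cast_one, Nat.cast_zero]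
  set N := 2 * h + 1 with hN
  have hnN : (N : ℤ) = n := by rw [hN, hn]; push_cast; ring
  have hcN : cM (N : ℤ) = cM 0 := Subtype.ext (by
    show c (N : ℤ) = c 0
    rw [hnN, ← hcn 0, zero_add])
  set z := Q N with hz
  have hTz : T z = z := by
    have h1 := hTQ N
    rw [show Q (N + 1) = Q N * cM N from Finset.prod_range_succ _ _, hcN] at h1
    exact mul_right_cancel h1
  set R := Q (h + 1) with hR
  set m := cM 0 * R with hm
  have hamem : ∀ x : M, a * (x : G) * a ∈ M := by
    rintro ⟨x, hx⟩
    have hle : M ≤ M.comap (MulAut.conj a).toMonoidHom := (Subgroup.closure_le _).mpr fun w ⟨i, hi⟩ => by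
      show a * w * a⁻¹ ∈ M
      rw [← hi, hainv, hac]
      exact hcM _
    have := hle hx
    rw [Subgroup.mem_comap] at this
    simpa [hainv] using this
  let J : M →* M := MonoidHom.mk' (fun x => ⟨a * (x : G) * a, hamem x⟩) fun x y => Subtype.ext (by
    show a * ((x : G) * y) * a = (a * x * a) * (a * y * a)
    calc a * ((x : G) * y) * a = a * x * (a * a) * y * a := by rw [haa]; group
      _ = _ := by group)
  have hJc : ∀ i, J (cM i) = cM (-i) := fun i => Subtype.ext (hac i)
  -- `z = b m (a m a)`
  have hzeq : z = cM 0 * m * J m := by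
    have hJR : ∀ k, k < N → Q (N - k) * J (cM 0 * Q (k + 1)) = z := by
      intro k
      induction k with
      | zero =>
        intro _
        rw [show Q 1 = cM 0 from Finset.prod_range_one _, hMsq, map_one, mul_one, Nat.sub_zero]
      | succ k ih =>
        intro hk
        rw [show Q (k + 1 + 1) = Q (k + 1) * cM ((k + 1 : ℕ) : ℤ) from Finset.prod_range_succ _ _, ← mul_assoc,
          map_mul, hJc, mul_left_comm, mul_comm, mul_assoc, mul_comm (cM (-((k + 1 : ℕ) : ℤ)))] 
        have e : cM (-((k + 1 : ℕ) : ℤ)) = cM ((N - (k + 1) : ℕ) : ℤ) := Subtype.ext (by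
          show c _ = c _
          rw [← hcn (-((k + 1 : ℕ) : ℤ))]
          congr 1
          omega)
        rw [e]
        have e2 : Q (N - k) = Q (N - (k + 1)) * cM ((N - (k + 1) : ℕ) : ℤ) := by
          rw [show N - k = N - (k + 1) + 1 by omega]; exact Finset.prod_range_succ _ _
        rw [← ih (by omega), e2]
        simp only [mul_comm, mul_left_comm, mul_assoc]
    have := hJR h (by omega)
    rw [show N - h = h + 1 by omega] at this
    rw [← this, ← hm, hm, ← mul_assoc (cM 0) (cM 0) R, hMsq, one_mul]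
  have hJ2 : ∀ x : M, J (J x) = x := fun x => Subtype.ext (by
    show a * (a * (x : G) * a) * a = x
    calc a * (a * (x : G) * a) * a = (a * a) * x * (a * a) := by group
      _ = x := by rw [haa, one_mul, mul_one])
  have hJz : J z = z := by
    rw [hzeq, map_mul, map_mul, hJc, neg_zero, hJ2]
    exact mul_right_comm _ _ _
  have hza : Commute (z : G) a := by
    have h1 : a * (z : G) * a = z := congrArg Subtype.val hJz
    show (z : G) * a = a * z
    calc (z : G) * a = a * z * a * a := by rw [h1]
      _ = a * z := by rw [mul_assoc, haa, mul_one]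
  have hzt : Commute (z : G) t := by
    have h1 : t * (z : G) * t⁻¹ = z := congrArg Subtype.val hTz
    exact (mul_inv_eq_iff_eq_mul.mp h1).symm
  have hzp : Commute (z : G) p := by
    rw [show p = t * a by rw [ht, mul_assoc, haa, mul_one]]
    exact hzt.mul_right hza
  have hbeq : cM 0 = z * (m * J m) := by
    rw [hzeq, mul_assoc (cM 0), mul_assoc (cM 0), hMsq (m * J m), mul_one]
  have hbG : b = (z : G) * ((m : G) * (a * (m : G) * a)) := hc0.symm.trans (congrArg Subtype.val hbeq)
  have hmm : (m : G) * m = 1 := congrArg Subtype.val (hMsq m)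
  have hmi : (m : G)⁻¹ = m := inv_eq_of_mul_eq_one_right hmm
  have hzm : Commute (z : G) m := hMcomm _ z.2 _ m.2
  have hz1 : z = 1 := by
    by_contra hz1
    have hodd' := odd_conj hD (m : G) hp
    refine no_translate hD hodd' (fun e => hz1 (Subtype.ext e)) ((hzm.mul_right hza).mul_right hzm.inv_right)
      ((hzm.mul_right hzp).mul_right hzm.inv_right) ?_
    rw [hmi]
    suffices e : (z : G) * (m * a * m) = a * b by rw [e]; exact he
    rw [hbG, ← mul_assoc a, ← hza.eq, mul_assoc (z : G)]
    congr 1
    have hbm : Commute (m : G) (a * m * a) := hMcomm _ m.2 _ (hamem m)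
    calc (m : G) * a * m = (a * a) * (m * a * m) := by rw [haa, one_mul]
      _ = a * (a * m * a * m) := by group
      _ = a * (m * (a * m * a)) := by rw [← hbm.eq]
  -- `m` is a member
  have hψ : Function.Injective fun x : M => x * T x := by
    intro x y hxy
    have hfix : ∀ w : M, T w = w → w = 1 := by
      intro w hw
      -- the norm map is trivial
      have hnorm : ∀ x : M, ∏ i ∈ Finset.range N, (T^[i]) x = 1 := by
        have hTi : ∀ (i : ℕ) (j : ℤ), (T^[i]) (cM j) = cM ((i : ℤ) + j) := by
          intro i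
          induction i with
          | zero => intro j; simp
          | succ i ih =>
            intro j
            rw [Function.iterate_succ_apply', ih, hTc]
            congr 1
            push_cast; ring
        have hTN : ∀ k : ℤ, (∏ i ∈ Finset.range N, cM ((i : ℤ) + k)) = ∏ i ∈ Finset.range N, cM ((i : ℤ) + (k + 1)) := by
          intro k
          have h1 := Finset.prod_range_succ (fun i => cM ((i : ℤ) + k)) N
          rw [Finset.prod_range_succ'] at h1
          have e : cM ((N : ℤ) + k) = cM ((0 : ℕ) + k) := Subtype.ext (by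
            show c _ = c _
            rw [hnN, add_comm, hcn, Nat.cast_zero, zero_add])
          rw [e] at h1
          rw [← mul_right_cancel h1]
          refine Finset.prod_congr rfl fun i _ => ?_
          congr 1
          push_cast; ring
        have hgen : ∀ j : ℤ, ∏ i ∈ Finset.range N, cM ((i : ℤ) + j) = 1 := by
          intro j
          induction j using Int.induction_on with
          | zero => simp only [add_zero]; exact hz1
          | succ j ih => rw [← hTN, ih]
          | pred j ih => rw [hTN, sub_add_cancel, ih]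
        rintro ⟨x, hx⟩
        induction hx using Subgroup.closure_induction with
        | mem x hx =>
          obtain ⟨j, rfl⟩ := hx
          rw [show (⟨c j, _⟩ : M) = cM j from rfl]
          simp only [hTi, hgen]
        | one =>
          rw [show (⟨1, _⟩ : M) = 1 from rfl]
          simp only [iterate_map_one, Finset.prod_const_one]
        | mul x y hx hy h1 h2 =>
          rw [show (⟨x * y, _⟩ : M) = (⟨x, hx⟩ : M) * ⟨y, hy⟩ from rfl]
          simp only [iterate_map_mul, Finset.prod_mul_distrib, h1, h2, one_mul]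
        | inv x hx h1 =>
          rw [show (⟨x⁻¹, _⟩ : M) = (⟨x, hx⟩ : M)⁻¹ from rfl]
          simp only [iterate_map_inv, Finset.prod_inv_distrib, h1, inv_one]
      have h1 := hnorm w
      have hi : ∀ i : ℕ, (T^[i]) w = w := fun i => Function.iterate_fixed hw i
      simp only [hi, Finset.prod_const, Finset.card_range] at h1
      rw [hN, pow_succ, pow_mul, pow_two, hMsq, one_pow, one_mul] at h1
      exact h1
    have e : T (x * y) = x * y := by
      have h9 : (x * y) * (T x * T y) = 1 := by
        rw [mul_mul_mul_comm]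
        show (x * T x) * (y * T y) = 1
        rw [show x * T x = y * T y from hxy, hMsq]
      rw [map_mul, ← inv_eq_of_mul_eq_one_right h9, hMinv]
    exact (mul_eq_one_iff_eq_inv.mp (hfix _ e)).trans (hMinv y)
  let S0 : Set M := {w | (w = 1 ∨ (w : G) ∈ D) ∧ ∃ r : ℤ, q r * (w : G) * q r = w}
  have hqq : ∀ r, q r * q r = 1 := fun r => mul_self hD (hqD r)
  have hclosed : ∀ w ∈ S0, w * T w ∈ S0 := by
    rintro w ⟨hw, r, hr⟩
    have hsw : q (r + 1) * (w : G) * q (r + 1) = (T w : G) := by
      show t ^ (r + 1) * a * (w : G) * (t ^ (r + 1) * a) = t * (w : G) * t⁻¹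
      have e1 : t ^ (r + 1) * a = t * q r := by simp only [q]; group
      have e2 : t ^ (r + 1) * a = q r * t⁻¹ := by
        show t ^ (r + 1) * a = t ^ r * a * t⁻¹
        rw [← hta]
        calc t ^ (r + 1) * a = t ^ r * (t * a) := by rw [zpow_add_one, mul_assoc]
          _ = t ^ r * ((a * a) * (t * a)) := by rw [haa, one_mul]
          _ = _ := by nth_rewrite 3 [← hainv]; group
      nth_rewrite 1 [e1]
      rw [e2]
      calc t * q r * (w : G) * (q r * t⁻¹) = t * (q r * w * q r) * t⁻¹ := by group
        _ = _ := by rw [hr]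
    refine ⟨?_, r + 1, ?_⟩
    · rcases hw with rfl | hwD
      · exact Or.inl (by simp)
      · rcases prod_mem hD hwD (hqD (r + 1)) (by rw [hsw]; exact hMcomm _ w.2 _ (T w).2) with e | e
        · exact Or.inl (Subtype.ext (by rw [hsw] at e; exact e))
        · exact Or.inr (by rw [hsw] at e; exact e)
    · show q (r + 1) * ((w : G) * (T w : G)) * q (r + 1) = (w : G) * (T w : G)
      rw [(hMcomm _ w.2 _ (T w).2).eq, ← hsw]
      calc q (r + 1) * ((q (r + 1) * (w : G) * q (r + 1)) * w) * q (r + 1)
          = (q (r + 1) * q (r + 1)) * w * (q (r + 1) * (w : G) * q (r + 1)) := by group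
        _ = (w : G) * (q (r + 1) * w * q (r + 1)) := by rw [hqq, one_mul]
        _ = _ := (hMcomm _ w.2 _ (hsw ▸ (T w).2)).eq
  have hψm : m * T m = cM 1 * cM ((h + 1 : ℕ) : ℤ) := by
    have h2 : T R * cM 0 = R * cM ((h + 1 : ℕ) : ℤ) := (hTQ (h + 1)).trans (Finset.prod_range_succ _ _)
    have h3 : T R = R * cM ((h + 1 : ℕ) : ℤ) * cM 0 := by
      rw [← h2, mul_assoc, hMsq, mul_one]
    rw [hm, map_mul, hTc, zero_add, h3]
    calc cM 0 * R * (cM 1 * (R * cM ((h + 1 : ℕ) : ℤ) * cM 0))
        = cM 1 * cM ((h + 1 : ℕ) : ℤ) * (cM 0 * cM 0) * (R * R) := ac1 _ _ _ _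
      _ = _ := by rw [hMsq, hMsq, mul_one, mul_one]
  have hS0 : m * T m ∈ S0 := by
    rw [hψm]
    set k : ℤ := ((h + 1 : ℕ) : ℤ) with hk
    refine ⟨?_, 1 + k, ?_⟩
    · have e : q (1 + k) * c 1 * q (1 + k) = c k := by rw [hqc, add_sub_cancel_left]
      rcases prod_mem hD (hcD 1) (hqD (1 + k)) (by rw [e]; exact hcc _ _) with e' | e'
      · exact Or.inl (Subtype.ext (by rw [e] at e'; exact e'))
      · exact Or.inr (by rw [e] at e'; exact e')
    · show q (1 + k) * (c 1 * c k) * q (1 + k) = c 1 * c k
      calc q (1 + k) * (c 1 * c k) * q (1 + k) = q (1 + k) * c 1 * (q (1 + k) * q (1 + k)) * c k * q (1 + k) := by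
            rw [hqq]; group
        _ = (q (1 + k) * c 1 * q (1 + k)) * (q (1 + k) * c k * q (1 + k)) := by group
        _ = c 1 * c k := by rw [hqc, hqc, add_sub_cancel_left, add_sub_cancel_right, (hcc k 1).eq]
  let e := Equiv.ofBijective _ ⟨hψ, Finite.surjective_of_injective hψ⟩
  have hmS : m ∈ S0 := by
    have key : ∀ j : ℕ, (e ^ j) (m * T m) ∈ S0 := by
      intro j
      induction j with
      | zero => simpa using hS0
      | succ j ih =>
        rw [pow_succ', Equiv.Perm.mul_apply]
        exact hclosed _ ih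
    have h1 := key (orderOf e - 1)
    have h2 : (e ^ (orderOf e - 1)) (m * T m) = m := by
      show (e ^ (orderOf e - 1)) (e m) = m
      rw [← Equiv.Perm.mul_apply, ← pow_succ, Nat.sub_add_cancel (orderOf_pos e), pow_orderOf_eq_one]
      rfl
    rwa [h2] at h1
  have hbm2 : b = (m : G) * (a * (m : G) * a) := by
    rw [hbG, hz1]
    exact one_mul _
  refine ⟨(m : G), hmS.1.resolve_left fun e1 => hb1 ?_, (hMcomm _ m.2 _ hbM).eq, ?_⟩
  · rw [hbm2, e1]
    simp [haa]
  · rw [hbm2, (hMcomm _ m.2 _ (hamem m)).eq]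

end CfsgLib.RootInv
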