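/-
Root involutions with the same opposite members.
-/
import Mathlib
import Cfsg.Agent.Lib.RootSub.RootFlip
import Cfsg.Agent.S0199

set_option autoImplicit false

namespace CfsgLib.RootInv

open Cfsg Relation
open scoped commutatorElement

universe u
variable {G : Type u} [Group G] {D : Set G}

theorem mem_oddPartners {a b : G} (ha : a ∈ D) : b ∈ oddPartners D a ↔ OddAdj D a b :=
  ⟨fun h => ⟨ha, h.1, fun e => h.2.1 e.symm, h.2.2⟩, fun h => ⟨h.2.1, fun e => h.2.2.1 e.symm, h.2.2.2⟩⟩

theorem conj_oddPartners (hD : IsRootInvolutionSet D) {a : G} (ha : a ∈ D) (g : G) :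
    oddPartners D (g * a * g⁻¹) = (fun x => g * x * g⁻¹) '' oddPartners D a := by
  ext x
  rw [mem_oddPartners (hD.conj_mem a ha g)]
  constructor
  · intro h
    refine ⟨g⁻¹ * x * g, (mem_oddPartners ha).mpr ?_, by group⟩
    have := odd_conj hD g⁻¹ h
    rwa [inv_inv, show g⁻¹ * (g * a * g⁻¹) * g = a by group] at this
  · rintro ⟨y, hy, rfl⟩
    exact odd_conj hD g ((mem_oddPartners ha).mp hy)

theorem conj_of_odd (hD : IsRootInvolutionSet D) {a b : G} (h : OddAdj D a b) : ∃ g : G, b = g * a * g⁻¹ := by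
  obtain ⟨k, hk⟩ := h.2.2.2
  have haa := mul_self hD h.1
  set t := a * b with ht
  have hb : b = a * t := by rw [ht, ← mul_assoc, haa, one_mul]
  have hbb := mul_self hD h.2.1
  have hta : a * t * a⁻¹ = t⁻¹ := by
    rw [ht, mul_inv_rev, inv_eq hD h.1, inv_eq hD h.2.1, ← mul_assoc, haa, one_mul]
  refine ⟨t ^ (k : ℤ), ?_⟩
  have e1 : a * t ^ (k : ℤ) * a⁻¹ = (t ^ (k : ℤ))⁻¹ := by rw [← conj_zpow, hta, inv_zpow]
  have e2 : t ^ (k : ℤ) * t ^ (k : ℤ) = t⁻¹ := by
    rw [← zpow_add]
    refine eq_inv_of_mul_eq_one_left ?_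
    rw [← zpow_add_one, show (k : ℤ) + k + 1 = ((2 * k + 1 : ℕ) : ℤ) by push_cast; ring, zpow_natCast, ← hk,
      pow_orderOf_eq_one]
  calc b = a * t := hb
    _ = t⁻¹ * a := by rw [← hta]; group
    _ = t ^ (k : ℤ) * t ^ (k : ℤ) * a := by rw [e2]
    _ = t ^ (k : ℤ) * a * (a⁻¹ * t ^ (k : ℤ) * a) := by group
    _ = t ^ (k : ℤ) * a * (t ^ (k : ℤ))⁻¹ := by
      rw [← e1, inv_eq hD h.1]

theorem conj_of_connected (hD : IsRootInvolutionSet D) (hc : IsConnectedSet (OddAdj D) D) {a b : G} (ha : a ∈ D)
    (hb : b ∈ D) : ∃ g : G, b = g * a * g⁻¹ := by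
  have hr := hc a ha b hb
  clear hb
  induction hr with
  | refl => exact ⟨1, by group⟩
  | tail _ h ih =>
    obtain ⟨g, rfl⟩ := ih
    obtain ⟨x, e⟩ := conj_of_odd hD h
    exact ⟨x * g, by rw [e]; group⟩

variable [Finite G]

theorem eq_of_subset (hD : IsRootInvolutionSet D) (hc : IsConnectedSet (OddAdj D) D) {a b : G} (ha : a ∈ D)
    (hb : b ∈ D) (h : oddPartners D a ⊆ oddPartners D b) : oddPartners D a = oddPartners D b := by
  refine Set.eq_of_subset_of_ncard_le h (le_of_eq ?_) (Set.toFinite _)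
  obtain ⟨g, rfl⟩ := conj_of_connected hD hc ha hb
  rw [conj_oddPartners hD ha, Set.ncard_image_of_injective _ fun x y e => mul_left_cancel (mul_right_cancel e)]

theorem exists_diff (hD : IsRootInvolutionSet D) (hc : IsConnectedSet (OddAdj D) D) {a b : G} (ha : a ∈ D)
    (hb : b ∈ D) (h : oddPartners D a ≠ oddPartners D b) : ∃ p, OddAdj D a p ∧ ¬ OddAdj D b p := by
  by_contra hno
  push Not at hno
  exact h (eq_of_subset hD hc ha hb fun p hp => (mem_oddPartners hb).mpr (hno p ((mem_oddPartners ha).mp hp)))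

/-- Two members acting as transvections on a four-group generate a dihedral group of order six. -/
theorem order_three (hD : IsRootInvolutionSet D) {x y u v : G} (hx : x ∈ D) (hy : y ∈ D) (hu1 : u ≠ 1) (hv1 : v ≠ 1)
    (huu : u * u = 1) (huv : u ≠ v) (hc : Commute u v) (hu : u ∈ D) (hxu : x * u * x = u * v) (hxv : Commute x v)
    (hyv : y * v * y = v * u) (hyu : Commute y u) : orderOf (x * y) = 3 := by
  have hxx := mul_self hD hx
  have hyy := mul_self hD hy
  have hxi := inv_eq hD hx
  have hyi := inv_eq hD hy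
  set w := x * y with hw
  have hwu : w * u * w⁻¹ = u * v := by
    calc w * u * w⁻¹ = x * (y * u) * y⁻¹ * x⁻¹ := by rw [hw]; group
      _ = x * u * x := by rw [hyu.eq, hxi]; group
      _ = u * v := hxu
  have hwv : w * v * w⁻¹ = u := by
    have hxvu : x * (v * u) * x = v * (u * v) := by
      calc x * (v * u) * x = (x * v) * u * x := by group
        _ = v * (x * u * x) := by rw [hxv.eq]; group
        _ = v * (u * v) := by rw [hxu]
    calc w * v * w⁻¹ = x * (y * v * y⁻¹) * x⁻¹ := by rw [hw]; group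
      _ = v * (u * v) := by rw [hyi, hyv, hxi, hxvu]
      _ = u := by
        have hvv : v * v = 1 := by
          have h1 : (u * v) * (u * v) = 1 := by
            rw [← hxu]
            calc x * u * x * (x * u * x) = x * u * (x * x) * u * x := by group
              _ = x * (u * u) * x := by rw [hxx]; group
              _ = 1 := by rw [huu, mul_one, hxx]
          calc v * v = (u * u) * (v * v) := by rw [huu, one_mul]
            _ = u * (u * v) * v := by group
            _ = u * (v * u) * v := by rw [hc.eq]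
            _ = (u * v) * (u * v) := by group
            _ = 1 := h1
        rw [hc.eq, ← mul_assoc, hvv, one_mul]
  have hw2 : w ^ 2 * u * (w ^ 2)⁻¹ = u * v * u := by
    calc w ^ 2 * u * (w ^ 2)⁻¹ = w * (w * u * w⁻¹) * w⁻¹ := by rw [pow_two]; group
      _ = w * (u * v) * w⁻¹ := by rw [hwu]
      _ = (w * u * w⁻¹) * (w * v * w⁻¹) := by group
      _ = u * v * u := by rw [hwu, hwv]
  have huvu : u * v * u = v := by rw [hc.eq, mul_assoc, huu, mul_one]
  have hw3u : w ^ 3 * u * (w ^ 3)⁻¹ = u := by
    calc w ^ 3 * u * (w ^ 3)⁻¹ = w * (w ^ 2 * u * (w ^ 2)⁻¹) * w⁻¹ := by rw [show w ^ 3 = w * w ^ 2 from pow_succ' w 2]; group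
      _ = w * v * w⁻¹ := by rw [hw2, huvu]
      _ = u := hwv
  have hw3v : w ^ 3 * v * (w ^ 3)⁻¹ = v := by
    calc w ^ 3 * v * (w ^ 3)⁻¹ = w ^ 2 * (w * v * w⁻¹) * (w ^ 2)⁻¹ := by rw [show w ^ 3 = w ^ 2 * w from pow_succ w 2]; group
      _ = v := by rw [hwv, hw2, huvu]
  rcases hD.pair x hx y hy with e | e | ⟨e, -⟩
  · exfalso
    have h2 : w ^ 2 = 1 := by rw [hw, (show Commute x y from e).mul_pow, pow_two, pow_two, hxx, hyy, one_mul]
    rw [h2, one_mul, inv_one, mul_one, huvu] at hw2
    exact huv hw2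
  · by_contra hne
    set z := w ^ 3 with hz
    have hzx : x * z * x⁻¹ = z⁻¹ := by
      rw [hz, ← conj_pow, hxi, hw, show x * (x * y) * x = (x * x) * (y * x) by group, hxx, one_mul]
      rw [show y * x = (x * y)⁻¹ by rw [mul_inv_rev, hxi, hyi], inv_pow]
    set x' := z * x * z⁻¹ with hx'
    have hx'x : x' * x = z * z := by
      calc x' * x = z * (x * z⁻¹ * x⁻¹) * (x * x) := by rw [hx']; group
        _ = z * z := by rw [show x * z⁻¹ * x⁻¹ = (x * z * x⁻¹)⁻¹ by group, hzx, inv_inv, hxx, mul_one]
    have hzne : z ≠ 1 := fun e1 => by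
      have hd := orderOf_dvd_of_pow_eq_one e1
      rcases (Nat.dvd_prime Nat.prime_three).mp hd with h1 | h1
      · have hw1 : w = 1 := orderOf_eq_one_iff.mp h1
        rw [hw1, one_mul, inv_one, mul_one] at hwv
        exact huv hwv.symm
      · exact hne h1
    have hodd : Odd (orderOf (z * z)) := by
      rw [show z * z = w ^ 6 by rw [hz, ← pow_add]]
      exact Odd.of_dvd_nat e (orderOf_pow_dvd 6)
    have hzz1 : z * z ≠ 1 := fun e1 => hzne (by
      have h2 : orderOf z ∣ 2 := orderOf_dvd_of_pow_eq_one (by rw [pow_two]; exact e1)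
      have h3 : Odd (orderOf z) := Odd.of_dvd_nat e (orderOf_pow_dvd 3)
      exact orderOf_eq_one_iff.mp (((Nat.coprime_two_right.mpr h3)).eq_one_of_dvd h2))
    have hadj : OddAdj D x' x := by
      refine ⟨hD.conj_mem x hx z, hx, fun e1 => hzz1 ?_, by rw [hx'x]; exact hodd⟩
      rw [← hx'x, e1, hxx]
    have hvz : Commute v z := (mul_inv_eq_iff_eq_mul.mp hw3v).symm
    refine no_translate hD (odd_symm hadj) hv1 hxv.symm ((hvz.mul_right hxv.symm).mul_right hvz.inv_right) ?_
    rw [show v * x = u * x * u⁻¹ by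
      rw [inv_eq hD hu]
      calc v * x = u * (u * v) * x := by rw [← mul_assoc, huu, one_mul]
        _ = u * (x * u * x) * x := by rw [hxu]
        _ = u * x * u := by rw [show u * (x * u * x) * x = u * x * u * (x * x) by group, hxx, mul_one]]
    exact hD.conj_mem x hx u
  · exfalso
    have h4 : w ^ 4 = 1 := by rw [← e]; exact pow_orderOf_eq_one w
    have : w * u * w⁻¹ = u := by
      calc w * u * w⁻¹ = w * (w ^ 3 * u * (w ^ 3)⁻¹) * w⁻¹ := by rw [hw3u]
        _ = (w * w ^ 3) * u * (w * w ^ 3)⁻¹ := by group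
        _ = u := by rw [← pow_succ', h4, one_mul, inv_one, mul_one]
    rw [hwu] at this
    exact hv1 (mul_left_cancel (a := u) (this.trans (mul_one u).symm))

variable (hD : IsRootInvolutionSet D) (hc : IsConnectedSet (OddAdj D) D)
include hD hc

/-- A line two of whose members have the same opposite members has all three alike. -/
theorem line_same {e f : G} (he : e ∈ D) (hf : f ∈ D) (hef : e * f = f * e) (hefD : e * f ∈ D)
    (h : oddPartners D (e * f) = oddPartners D e) : oddPartners D f = oddPartners D e := by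
  by_contra hne
  obtain ⟨p, hp, hp'⟩ := exists_diff hD hc hf he hne
  obtain ⟨v, hv, hve, hvf⟩ := flip hD he hef.symm (hef ▸ hefD) hp hp'
  have hvi := inv_eq hD hv
  have e1 : v * f * v⁻¹ = e * f := by
    calc v * f * v⁻¹ = f⁻¹ * (f * v * f * v) := by rw [hvi]; group
      _ = e * f := by rw [hvf, inv_eq hD hf, hef]
  have e2 : v * e * v⁻¹ = e := by rw [hve, mul_inv_cancel_right]
  have e3 := conj_oddPartners hD hf v
  have e4 := conj_oddPartners hD he v
  rw [e1, h] at e3
  rw [e2] at e4
  exact hne ((Set.image_injective.mpr fun x y e => mul_left_cancel (mul_right_cancel e)) (e3.symm.trans e4))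

/-- Members with the same opposite members commute. -/
theorem commute_of_sameOdd {d e : G} (hd : d ∈ D) (he : e ∈ D) (h : oddPartners D d = oddPartners D e) :
    d * e = e * d := by
  set E := {x | x ∈ D ∧ oddPartners D x = oddPartners D d} with hE
  have hpair : ∀ x ∈ E, ∀ y ∈ E, ¬ x * y = y * x → orderOf (x * y) = 4 ∧ (x * y) ^ 2 ∈ E := by
    intro x hx y hy hne
    rcases hD.pair x hx.1 y hy.1 with e' | e' | ⟨e4, hf⟩
    · exact absurd e' hne
    · exfalso
      have hxy : x ≠ y := fun e0 => hne (by rw [e0])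
      have : y ∈ oddPartners D y := by
        rw [hy.2, ← hx.2]
        exact (mem_oddPartners hx.1).mpr ⟨hx.1, hy.1, hxy, e'⟩
      exact this.2.1 rfl
    · refine ⟨e4, hf, ?_⟩
      set f := (x * y) ^ 2 with hf'
      have hxx := mul_self hD hx.1
      have hyy := mul_self hD hy.1
      have hxf : x * f = y * x * y⁻¹ := by
        rw [inv_eq hD hy.1, hf', pow_two]
        calc x * (x * y * (x * y)) = (x * x) * y * x * y := by group
          _ = y * x * y := by rw [hxx, one_mul]
      have hfx : f * x = y * x * y⁻¹ := by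
        rw [← inv_eq hD hf, inv_eq hD hy.1, hf', pow_two, mul_inv_rev, mul_inv_rev, inv_eq hD hx.1, inv_eq hD hy.1]
        calc y * x * (y * x) * x = y * x * y * (x * x) := by group
          _ = y * x * y := by rw [hxx, mul_one]
      refine (line_same hD hc hx.1 hf (hxf.trans hfx.symm) (hxf ▸ hD.conj_mem x hx.1 y) ?_).trans hx.2
      rw [hxf, conj_oddPartners hD hx.1 y, hx.2, ← hy.2, ← conj_oddPartners hD hy.1 y, mul_inv_cancel_right]
  set T := Subgroup.closure E with hT
  haveI : Fact (Nat.Prime 2) := ⟨Nat.prime_two⟩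
  have hTp : IsPGroup 2 T := by
    suffices hle : T ≤ (pCore 2 T).map T.subtype from
      ((CfsgLib.isPGroup_pCore (G := T) 2).map T.subtype).to_le hle
    refine (Subgroup.closure_le _).mpr fun w hw => ?_
    set w' : T := ⟨w, Subgroup.subset_closure hw⟩ with hw'
    have hconj : ∀ g ∈ T, ∀ x ∈ E, g * x * g⁻¹ ∈ E := by
      intro g hg
      have hgen : ∀ y ∈ E, ∀ x ∈ E, y * x * y⁻¹ ∈ E := fun y hy x hx => ⟨hD.conj_mem x hx.1 y, by
        rw [conj_oddPartners hD hx.1, hx.2, ← hy.2, ← conj_oddPartners hD hy.1, mul_inv_cancel_right]⟩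
      induction hg using Subgroup.closure_induction'' with
      | mem y hy => exact hgen y hy
      | inv_mem y hy =>
        intro x hx
        rw [inv_eq hD hy.1]
        exact hgen y hy x hx
      | one => intro x hx; simpa using hx
      | mul y z _ _ h1 h2 =>
        intro x hx
        rw [show y * z * x * (y * z)⁻¹ = y * (z * x * z⁻¹) * y⁻¹ by group]
        exact h1 _ (h2 x hx)
    have hw2 : IsPGroup 2 (Subgroup.zpowers w') := IsPGroup.of_card (n := 1) (by
      rw [Nat.card_zpowers, ← Subgroup.orderOf_coe, pow_one]; exact hD.orderOf_eq w hw.1)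
    obtain ⟨N, hN, hNp, hle⟩ := Cfsg.Agent.S0199.result (Subgroup.zpowers w') hw2 fun g => by
      rw [MonoidHom.map_zpowers]
      show IsPGroup 2 (Subgroup.zpowers w' ⊔ Subgroup.zpowers (g * w' * g⁻¹) : Subgroup T)
      set y' := g * w' * g⁻¹ with hy'
      have hy : (y' : G) ∈ E := hconj g g.2 w hw
      have hww : w' * w' = 1 := Subtype.ext (mul_self hD hw.1)
      have hyy : y' * y' = 1 := Subtype.ext (mul_self hD hy.1)
      have hwi : w'⁻¹ = w' := inv_eq_of_mul_eq_one_right hww
      have hyi : y'⁻¹ = y' := inv_eq_of_mul_eq_one_right hyy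
      have h4 : (w' * y') ^ 4 = 1 := by
        apply Subtype.ext
        show (w * (y' : G)) ^ 4 = 1
        by_cases hcm : w * (y' : G) = (y' : G) * w
        · rw [(show Commute w (y' : G) from hcm).mul_pow, show w ^ 4 = (w ^ 2) ^ 2 by rw [← pow_mul],
            show (y' : G) ^ 4 = ((y' : G) ^ 2) ^ 2 by rw [← pow_mul], pow_two w, pow_two (y' : G), mul_self hD hw.1,
            mul_self hD hy.1, one_pow, one_mul]
        · rw [← (hpair w hw _ hy hcm).1, pow_orderOf_eq_one]
      have e' : Subgroup.zpowers w' ⊔ Subgroup.zpowers y' = Subgroup.zpowers w' ⊔ Subgroup.zpowers (w' * y') := by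
        refine le_antisymm (sup_le le_sup_left (Subgroup.zpowers_le.mpr ?_))
          (sup_le le_sup_left (Subgroup.zpowers_le.mpr (mul_mem (Subgroup.mem_sup_left (Subgroup.mem_zpowers w'))
            (Subgroup.mem_sup_right (Subgroup.mem_zpowers y')))))
        have h9 : w'⁻¹ * (w' * y') ∈ Subgroup.zpowers w' ⊔ Subgroup.zpowers (w' * y') :=
          mul_mem (inv_mem (Subgroup.mem_sup_left (Subgroup.mem_zpowers w'))) (Subgroup.mem_sup_right (Subgroup.mem_zpowers _))
        rwa [inv_mul_cancel_left] at h9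
      rw [e']
      have ht : IsPGroup 2 (Subgroup.zpowers (w' * y')) := by
        obtain ⟨j, -, hj⟩ := (Nat.dvd_prime_pow Nat.prime_two).mp
          (show orderOf (w' * y') ∣ 2 ^ 2 from orderOf_dvd_of_pow_eq_one h4)
        exact IsPGroup.of_card (n := j) (by rw [Nat.card_zpowers, hj])
      refine IsPGroup.to_sup_of_normal_right' hw2 ht ?_
      have hm : w' * (w' * y') * w'⁻¹ = (w' * y')⁻¹ := by
        rw [mul_inv_rev, hwi, hyi, ← mul_assoc, hww, one_mul]
      rw [Subgroup.zpowers_le, Subgroup.mem_normalizer_iff]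
      intro x
      constructor
      · rintro ⟨i, rfl⟩
        refine ⟨-i, ?_⟩
        show (w' * y') ^ (-i) = w' * (w' * y') ^ i * w'⁻¹
        rw [← conj_zpow, hm, inv_zpow, zpow_neg]
      · rintro ⟨i, hi⟩
        refine ⟨-i, ?_⟩
        show (w' * y') ^ (-i) = x
        have e2 : x = w'⁻¹ * (w' * y') ^ i * w' := by rw [show (w' * y') ^ i = w' * x * w'⁻¹ from hi]; group
        rw [e2, hwi]
        nth_rewrite 4 [← hwi]
        rw [← conj_zpow, hm, inv_zpow, zpow_neg]
    exact ⟨w', le_sSup (s := {N : Subgroup T | N.Normal ∧ IsPGroup 2 N}) ⟨hN, hNp⟩ (hle (Subgroup.mem_zpowers w')), rfl⟩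
  haveI : Group.IsNilpotent T := hTp.isNilpotent
  obtain ⟨n, hn⟩ := (Subgroup.isNilpotent_iff_lowerCentralSeries T).mp inferInstance
  -- a member central in the class
  obtain ⟨c, hcE, hcc⟩ : ∃ c ∈ E, ∀ y ∈ E, c * y = y * c := by
    by_contra hno
    push Not at hno
    have hall : ∀ k, ∃ c ∈ E, c ∈ T.lowerCentralSeries k := by
      intro k
      induction k with
      | zero => exact ⟨d, ⟨hd, rfl⟩, Subgroup.subset_closure ⟨hd, rfl⟩⟩
      | succ k ih =>
        obtain ⟨c, hcE, hck⟩ := ih
        obtain ⟨y, hy, hne⟩ := hno c hcE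
        refine ⟨_, (hpair c hcE y hy hne).2, ?_⟩
        rw [Subgroup.lowerCentralSeries_succ]
        have h1 := Subgroup.commutator_mem_commutator hck (Subgroup.subset_closure hy : y ∈ T)
        rw [commutatorElement_def, inv_eq hD hcE.1, inv_eq hD hy.1] at h1
        rw [pow_two]
        simpa [mul_assoc] using h1
    obtain ⟨c, hcE, hck⟩ := hall n
    rw [hn, Subgroup.mem_bot] at hck
    exact ne_one hD hcE.1 hck
  obtain ⟨g, hg⟩ := conj_of_connected hD hc hcE.1 hd
  have hmaps : Set.MapsTo (fun w => g * w * g⁻¹) E E := fun w hw => ⟨hD.conj_mem w hw.1 g, by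
    rw [conj_oddPartners hD hw.1, hw.2, ← hcE.2, ← conj_oddPartners hD hcE.1, ← hg]
    exact hcE.2.symm⟩
  have hinj : Function.Injective fun w : G => g * w * g⁻¹ := fun x y e => mul_left_cancel (mul_right_cancel e)
  have himg : (fun w => g * w * g⁻¹) '' E = E := Set.eq_of_subset_of_ncard_le hmaps.image_subset
    (by rw [Set.ncard_image_of_injective _ hinj]) (Set.toFinite _)
  obtain ⟨w, hw, hwe⟩ : e ∈ (fun w => g * w * g⁻¹) '' E := by rw [himg]; exact ⟨he, h.symm⟩
  rw [← hwe, hg]
  calc g * c * g⁻¹ * (g * w * g⁻¹) = g * (c * w) * g⁻¹ := by group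
    _ = g * (w * c) * g⁻¹ := by rw [hcc w hw]
    _ = g * w * g⁻¹ * (g * c * g⁻¹) := by group

/-- Same opposite members implies same commuting members. -/
theorem sameComm_of_sameOdd {d e : G} (hd : d ∈ D) (he : e ∈ D) (h : oddPartners D d = oddPartners D e) :
    commutingMembers D d ⊆ commutingMembers D e := by
  rintro x ⟨hx, hxd⟩
  refine ⟨hx, ?_⟩
  by_contra hne
  have hxx := mul_self hD hx
  rcases hD.pair e he x hx with e' | e' | ⟨e4, hf⟩
  · exact hne e'.symm
  · have hex : e ≠ x := fun e0 => hne (by rw [e0])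
    have hmem : x ∈ oddPartners D d := h ▸ (mem_oddPartners he).mpr ⟨he, hx, hex, e'⟩
    have h2 : (d * x) ^ 2 = 1 := by
      rw [(show Commute d x from hxd.symm).mul_pow, pow_two, pow_two, mul_self hD hd, hxx, one_mul]
    have := (Nat.coprime_two_right.mpr hmem.2.2).eq_one_of_dvd (orderOf_dvd_of_pow_eq_one h2)
    exact hmem.2.1 (by rw [← inv_eq hD hd, inv_eq_of_mul_eq_one_right (orderOf_eq_one_iff.mp this)])
  · set f := (e * x) ^ 2 with hf'
    have hee := mul_self hD he
    have hef : e * f = x * e * x⁻¹ := by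
      rw [inv_eq hD hx, hf', pow_two]
      calc e * (e * x * (e * x)) = (e * e) * x * e * x := by group
        _ = x * e * x := by rw [hee, one_mul]
    have hfe : f * e = x * e * x⁻¹ := by
      rw [← inv_eq hD hf, inv_eq hD hx, hf', pow_two, mul_inv_rev, mul_inv_rev, inv_eq hD he, inv_eq hD hx]
      calc x * e * (x * e) * e = x * e * x * (e * e) := by group
        _ = x * e * x := by rw [hee, mul_one]
    have hxf : x * f = f * x := by
      calc x * f = x * (f⁻¹) := by rw [inv_eq hD hf]
        _ = (x * x) * e * x * e := by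
          rw [hf', pow_two, mul_inv_rev, mul_inv_rev, inv_eq hD he, inv_eq hD hx]; group
        _ = e * x * e * (x * x) := by rw [hxx, one_mul, mul_one]
        _ = f * x := by rw [hf', pow_two]; group
    have hsame : oddPartners D f = oddPartners D e := by
      refine line_same hD hc he hf (hef.trans hfe.symm) (hef ▸ hD.conj_mem e he x) ?_
      rw [hef, conj_oddPartners hD he x, ← h, ← conj_oddPartners hD hd x,
        show x * d * x⁻¹ = d by rw [hxd, mul_inv_cancel_right]]
    have hfx : oddPartners D f ≠ oddPartners D x := fun e0 =>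
      hne (commute_of_sameOdd hD hc hx he (e0.symm.trans hsame))
    obtain ⟨p, hp, hp'⟩ := exists_diff hD hc hf hx hfx
    have hfxD : f * x ∈ D := by
      rw [show f * x = e * x * e⁻¹ by
        rw [inv_eq hD he, hf', pow_two]
        calc e * x * (e * x) * x = e * x * e * (x * x) := by group
          _ = e * x * e := by rw [hxx, mul_one]]
      exact hD.conj_mem x hx e
    obtain ⟨v, hv, hvx, hvf⟩ := flip hD hx hxf.symm hfxD hp hp'
    have hff := mul_self hD hf
    have hxf1 : x ≠ f := fun e0 => by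
      rw [← e0, hxx] at hfxD
      exact ne_one hD hfxD rfl
    have e1 : e * x * e = x * f := by
      rw [hxf, hf', pow_two]
      calc e * x * e = e * x * e * (x * x) := by rw [hxx, mul_one]
        _ = e * x * (e * x) * x := by group
    have e2 : v * f * v = f * x := by
      calc v * f * v = (f * f) * v * f * v := by rw [hff, one_mul]
        _ = f * (f * v * f * v) := by group
        _ = f * x := by rw [hvf]
    have h3 := order_three hD he hv (ne_one hD hx) (ne_one hD hf) hxx hxf1 hxf hx e1
      (hef.trans hfe.symm) e2 hvx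
    have hev : e ≠ v := fun e0 => by
      rw [e0, mul_self hD hv, orderOf_one] at h3
      omega
    have hvmem : v ∈ oddPartners D f := hsame ▸ (mem_oddPartners he).mpr ⟨he, hv, hev, h3 ▸ ⟨1, rfl⟩⟩
    have h4 : orderOf (f * v) ∣ 4 := orderOf_dvd_of_pow_eq_one (by
      calc (f * v) ^ 4 = (f * v * f * v) ^ 2 := by simp only [pow_succ, pow_zero, one_mul]; group
        _ = 1 := by rw [hvf, pow_two, hxx])
    have := ((Nat.coprime_two_right.mpr hvmem.2.2).pow_right 2).eq_one_of_dvd (h4.trans (by norm_num))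
    apply ne_one hD hx
    rw [← hvf, show f * v * f * v = (f * v) ^ 2 by rw [pow_two]; group, orderOf_eq_one_iff.mp this, one_pow]

omit hc in
/-- Same commuting members implies same opposite members. -/
theorem sameOdd_of_sameComm {d e : G} (hd : d ∈ D) (he : e ∈ D) (h : commutingMembers D d = commutingMembers D e) :
    oddPartners D d ⊆ oddPartners D e := by
  intro x hx
  have hdx := (mem_oddPartners hd).mp hx
  have hxD := hdx.2.1
  have hxx := mul_self hD hxD
  rw [mem_oddPartners he]
  rcases hD.pair e he x hxD with e' | e' | ⟨e4, hf⟩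
  · exfalso
    have hm : x ∈ commutingMembers D d := h ▸ ⟨hxD, e'.symm⟩
    have h2 : (d * x) ^ 2 = 1 := by
      rw [(show Commute d x from hm.2.symm).mul_pow, pow_two, pow_two, mul_self hD hd, hxx, one_mul]
    have := (Nat.coprime_two_right.mpr hdx.2.2.2).eq_one_of_dvd (orderOf_dvd_of_pow_eq_one h2)
    exact hdx.2.2.1 (by rw [← inv_eq hD hd, inv_eq_of_mul_eq_one_right (orderOf_eq_one_iff.mp this)])
  · refine ⟨he, hxD, fun e0 => ?_, e'⟩
    subst e0
    have hm : e ∈ commutingMembers D d := h ▸ ⟨he, rfl⟩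
    have h2 : (d * e) ^ 2 = 1 := by
      rw [(show Commute d e from hm.2.symm).mul_pow, pow_two, pow_two, mul_self hD hd, mul_self hD he, one_mul]
    have := (Nat.coprime_two_right.mpr hdx.2.2.2).eq_one_of_dvd (orderOf_dvd_of_pow_eq_one h2)
    exact hdx.2.2.1 (by rw [← inv_eq hD hd, inv_eq_of_mul_eq_one_right (orderOf_eq_one_iff.mp this)])
  · exfalso
    set f := (e * x) ^ 2 with hf'
    have hee := mul_self hD he
    have hfi : f⁻¹ = x * e * (x * e) := by
      rw [hf', pow_two, mul_inv_rev, mul_inv_rev, inv_eq hD he, inv_eq hD hxD]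
    have hxf : x * f = f * x := by
      calc x * f = x * f⁻¹ := by rw [inv_eq hD hf]
        _ = (x * x) * e * x * e := by rw [hfi]; group
        _ = e * x * e * (x * x) := by rw [hxx, one_mul, mul_one]
        _ = f * x := by rw [hf', pow_two]; group
    have hfe : f * e = e * f := by
      calc f * e = f⁻¹ * e := by rw [inv_eq hD hf]
        _ = x * e * x * (e * e) := by rw [hfi]; group
        _ = (e * e) * x * e * x := by rw [hee, one_mul, mul_one]
        _ = e * f := by rw [hf', pow_two]; group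
    have hfd : f * d = d * f := (h.symm ▸ (⟨hf, hfe⟩ : f ∈ commutingMembers D e) : f ∈ commutingMembers D d).2
    refine no_translate hD (odd_symm hdx) (ne_one hD hf) hxf.symm hfd ?_
    rw [show f * x = e * x * e⁻¹ by
      rw [inv_eq hD he, hf', pow_two]
      calc e * x * (e * x) * x = e * x * e * (x * x) := by group
        _ = e * x * e := by rw [hxx, mul_one]]
    exact hD.conj_mem x hxD e

end CfsgLib.RootInv
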