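import Cfsg.Agent.Lib.Bender.Q.OfOdd
import Cfsg.Agent.Lib.Bender.GoodAll
import Cfsg.Agent.Lib.Bender.ConsSimple
import Cfsg.Agent.S5048

/-!
Involution sets whose commuting graph is disconnected.

If members in different components of the commuting graph have products of odd order, the components are the points
of an action satisfying hypothesis Q.  For root involutions this gives the groups with a disconnected commuting graph
(S5044), given the theorem on hypothesis Q.
-/

set_option autoImplicit false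
set_option linter.unusedSectionVars false
set_option linter.style.haveILetI false

namespace CfsgLib.RootComm

open Cfsg MulAction Relation
open CfsgLib.Bender.TwoClosed (IsInv)

universe u

/-- An invariant set of involutions in which members in different commuting components have odd products. -/
structure Odd2 (X : Type u) [Group X] (D : Set X) : Prop where
  inv : ∀ d ∈ D, IsInv d
  conj : ∀ d ∈ D, ∀ g : X, g * d * g⁻¹ ∈ D
  odd : ∀ a ∈ D, ∀ b ∈ D, ¬ ReflTransGen (CommAdj D) a b → Odd (orderOf (a * b))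

variable {X : Type u} [Group X] {D : Set X}

theorem reach_symm {a b : X} (h : ReflTransGen (CommAdj D) a b) : ReflTransGen (CommAdj D) b a := by
  induction h with
  | refl => exact ReflTransGen.refl
  | tail _ h ih => exact ReflTransGen.head ⟨h.2.1, h.1, h.2.2.1.symm, h.2.2.2.symm⟩ ih

theorem reach_of_commute {a b : X} (ha : a ∈ D) (hb : b ∈ D) (h : a * b = b * a) : ReflTransGen (CommAdj D) a b := by
  rcases eq_or_ne a b with rfl | hne
  · exact ReflTransGen.refl
  · exact ReflTransGen.single ⟨ha, hb, hne, h⟩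

theorem reach_conj (hD : Odd2 X D) (g : X) {a b : X} (h : ReflTransGen (CommAdj D) a b) :
    ReflTransGen (CommAdj D) (g * a * g⁻¹) (g * b * g⁻¹) := by
  induction h with
  | refl => exact ReflTransGen.refl
  | @tail b c _ h ih =>
    refine ih.tail ⟨hD.conj _ h.1 g, hD.conj _ h.2.1 g,
      fun e => h.2.2.1 (mul_left_cancel (mul_right_cancel e)), ?_⟩
    calc g * b * g⁻¹ * (g * c * g⁻¹) = g * (b * c) * g⁻¹ := by group
      _ = g * (c * b) * g⁻¹ := by rw [h.2.2.2]
      _ = g * c * g⁻¹ * (g * b * g⁻¹) := by group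

/-- The elements fixing the component of `a`. -/
def stab (hD : Odd2 X D) (a : X) : Subgroup X where
  carrier := {g | ReflTransGen (CommAdj D) a (g * a * g⁻¹)}
  one_mem' := by show ReflTransGen _ _ _; simpa using ReflTransGen.refl
  mul_mem' := by
    intro x y hx hy
    show ReflTransGen _ _ _
    have := reach_conj hD x hy
    rw [show x * (y * a * y⁻¹) * x⁻¹ = x * y * a * (x * y)⁻¹ by group] at this
    exact hx.trans this
  inv_mem' := by
    intro x hx
    show ReflTransGen _ _ _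
    have := reach_conj hD x⁻¹ hx
    rw [show x⁻¹ * (x * a * x⁻¹) * x⁻¹⁻¹ = a by group] at this
    exact reach_symm this

theorem mem_stab {hD : Odd2 X D} {a g : X} : g ∈ stab hD a ↔ ReflTransGen (CommAdj D) a (g * a * g⁻¹) := Iff.rfl

theorem mem_stab_of_reach (hD : Odd2 X D) {a d : X} (h : ReflTransGen (CommAdj D) a d) : d ∈ stab hD a := by
  refine mem_stab.mpr (h.trans ?_)
  have := reach_conj hD d (reach_symm h)
  rwa [mul_inv_cancel_right] at this

/-- Two members with odd product are conjugate in the group they generate. -/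
theorem exists_conj_mem (hD : Odd2 X D) {a b : X} (ha : a ∈ D) (hb : b ∈ D) (ho : Odd (orderOf (a * b))) :
    ∃ g ∈ Subgroup.closure ({a, b} : Set X), g * a * g⁻¹ = b := by
  obtain ⟨l, hl⟩ := ho
  have ha' := hD.inv a ha
  have hb' := hD.inv b hb
  obtain ⟨t, ht⟩ : ∃ t, t = a * b := ⟨_, rfl⟩
  rw [← ht] at hl
  have hta : a * t * a⁻¹ = t⁻¹ := by
    rw [ht, mul_inv_rev, ha'.inv, hb'.inv, ← mul_assoc, ha'.2, one_mul]
  refine ⟨t ^ l, ?_, ?_⟩
  · rw [ht]
    exact pow_mem (mul_mem (Subgroup.subset_closure (by simp)) (Subgroup.subset_closure (by simp))) l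
  have h := conj_pow (i := l) (a := a) (b := t)
  rw [hta, inv_pow] at h
  have h1 : a * (t ^ l)⁻¹ = t ^ l * a := by
    rw [h, ha'.inv, ← mul_assoc, ← mul_assoc, ha'.2, one_mul]
  have h2 : t ^ (l + l) * t = 1 := by
    rw [← pow_succ, ← two_mul, ← hl, pow_orderOf_eq_one]
  calc t ^ l * a * (t ^ l)⁻¹ = t ^ l * (a * (t ^ l)⁻¹) := mul_assoc _ _ _
    _ = t ^ (l + l) * a := by rw [h1, ← mul_assoc, ← pow_add]
    _ = t ^ (l + l) * (t * b) := by rw [ht, mul_assoc a b b, hb'.2, mul_one]
    _ = b := by rw [← mul_assoc, h2, one_mul]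

theorem reach_of_mem_stab (hD : Odd2 X D) {a d : X} (ha : a ∈ D) (hd : d ∈ D) (h : d ∈ stab hD a) :
    ReflTransGen (CommAdj D) a d := by
  by_contra hn
  obtain ⟨g, hg, rfl⟩ := exists_conj_mem hD ha hd (hD.odd a ha d hd hn)
  refine hn (mem_stab.mp ((Subgroup.closure_le (stab hD a)).mpr ?_ hg))
  rintro s (rfl | rfl)
  · exact mem_stab_of_reach hD ReflTransGen.refl
  · exact h

/-- With a disconnected commuting graph all members are conjugate. -/
theorem isConj (hD : Odd2 X D) (hnc : ¬ IsConnectedSet (CommAdj D) D) {a b : X} (ha : a ∈ D) (hb : b ∈ D) :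
    ∃ g : X, g * a * g⁻¹ = b := by
  have key : ∀ {x y : X}, x ∈ D → y ∈ D → ¬ ReflTransGen (CommAdj D) x y → ∃ g : X, g * x * g⁻¹ = y :=
    fun hx hy h => by
      obtain ⟨g, -, hg⟩ := exists_conj_mem hD hx hy (hD.odd _ hx _ hy h)
      exact ⟨g, hg⟩
  by_cases h : ReflTransGen (CommAdj D) a b
  · obtain ⟨c, hc, hac⟩ : ∃ c ∈ D, ¬ ReflTransGen (CommAdj D) a c := by
      by_contra hall
      push Not at hall
      exact hnc fun x hx y hy => (reach_symm (hall x hx)).trans (hall y hy)
    obtain ⟨g, hg⟩ := key ha hc hac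
    obtain ⟨g', hg'⟩ := key hc hb fun h' => hac (h.trans (reach_symm h'))
    exact ⟨g' * g, by rw [← hg', ← hg]; group⟩
  · exact key ha hb h

variable [Finite X]

/-- A simple group generated by such a set with a disconnected commuting graph has a strongly embedded subgroup,
given the theorem on hypothesis Q. -/
theorem stronglyEmbedded [IsSimpleGroup X] (hD : Odd2 X D) (hgen : Subgroup.closure D = ⊤)
    (hnc : ¬ IsConnectedSet (CommAdj D) D)
    (hQ : ∀ (G Ω : Type u) [Group G] [Finite G] [MulAction G Ω] [FaithfulSMul G Ω] (Z : Set G),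
      CfsgLib.Bender.Q.Hyp G Ω Z → ∀ x ∈ Subgroup.closure Z, IsInv x → ∃! c : Ω, x • c = c) :
    ∃ H : Subgroup X, IsStronglyEmbedded H := by
  obtain ⟨a, ha, b, hb, hab⟩ : ∃ a ∈ D, ∃ b ∈ D, ¬ ReflTransGen (CommAdj D) a b := by
    by_contra h
    push Not at h
    exact hnc fun x hx y hy => h x hx y hy
  set K := stab hD a with hK
  have hbK : b ∉ K := fun h => hab (reach_of_mem_stab hD ha hb h)
  have hKtop : K ≠ ⊤ := fun e => hbK (e ▸ Subgroup.mem_top b)
  have hcore : K.normalCore = ⊥ := (IsSimpleGroup.eq_bot_or_eq_top_of_normal _ inferInstance).resolve_right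
    fun e => hKtop (top_le_iff.mp (e.symm.le.trans K.normalCore_le))
  haveI := CfsgLib.Bender.faithful hcore
  have hfix : ∀ {d : X}, d ∈ D → ∀ g : X, d • (g : X ⧸ K) = (g : X ⧸ K) ↔
      ReflTransGen (CommAdj D) (g * a * g⁻¹) d := by
    intro d hd g
    rw [CfsgLib.Bender.Assembly.fix_iff]
    have hgd : g⁻¹ * d * g ∈ D := by simpa using hD.conj d hd g⁻¹
    refine ⟨fun h => ?_, fun h => mem_stab_of_reach hD ?_⟩
    · have := reach_conj hD g (reach_of_mem_stab hD ha hgd h)
      rwa [show g * (g⁻¹ * d * g) * g⁻¹ = d by group] at this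
    · have := reach_conj hD g⁻¹ h
      rwa [show g⁻¹ * (g * a * g⁻¹) * g⁻¹⁻¹ = a by group, inv_inv] at this
  have hhyp : CfsgLib.Bender.Q.Hyp X (X ⧸ K) D := by
    refine CfsgLib.Bender.Q.Hyp.of_odd hD.inv hD.conj (fun d hd => ?_) (fun c => ?_)
      ⟨⟨(b : X ⧸ K), (1 : X), fun e => hbK ?_⟩⟩ (fun y hy z hz c e hc he hne => ?_)
    · obtain ⟨g, hg⟩ := isConj hD hnc ha hd
      refine ⟨(g : X ⧸ K), (hfix hd g).mpr (by rw [hg]), fun c hc => ?_⟩
      induction c using QuotientGroup.induction_on with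
      | _ k =>
        refine QuotientGroup.eq.mpr (mem_stab.mpr ?_)
        have h1 := ((hfix hd k).mp hc).trans (reach_symm ((hfix hd g).mp ((hfix hd g).mpr (by rw [hg]))))
        have h2 := reach_conj hD k⁻¹ h1
        rw [show k⁻¹ * (k * a * k⁻¹) * k⁻¹⁻¹ = a by group] at h2
        rwa [show k⁻¹ * g * a * (k⁻¹ * g)⁻¹ = k⁻¹ * (g * a * g⁻¹) * k⁻¹⁻¹ by group]
    · induction c using QuotientGroup.induction_on with
      | _ k => exact ⟨_, hD.conj a ha k, (hfix (hD.conj a ha k) k).mpr ReflTransGen.refl⟩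
    · have := QuotientGroup.eq.mp e
      rw [mul_one] at this
      exact inv_mem_iff.mp this
    · refine hD.odd y hy z hz fun h => hne ?_
      induction c using QuotientGroup.induction_on with
      | _ k =>
        induction e using QuotientGroup.induction_on with
        | _ l =>
          refine QuotientGroup.eq.mpr (mem_stab.mpr ?_)
          have h1 := (((hfix hy k).mp hc).trans h).trans (reach_symm ((hfix hz l).mp he))
          have h2 := reach_conj hD k⁻¹ h1
          rw [show k⁻¹ * (k * a * k⁻¹) * k⁻¹⁻¹ = a by group] at h2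
          rwa [show k⁻¹ * l * a * (k⁻¹ * l)⁻¹ = k⁻¹ * (l * a * l⁻¹) * k⁻¹⁻¹ by group]
  refine ⟨K, hKtop, ?_, fun g hg => ?_⟩
  · refine even_iff_two_dvd.mpr ?_
    rw [← CfsgLib.Bender.Assembly.orderOf_two (hD.inv a ha)]
    exact Subgroup.orderOf_dvd_natCard _ (mem_stab_of_reach hD ReflTransGen.refl)
  · by_contra hne
    rw [Nat.not_odd_iff_even] at hne
    haveI : Fact (Nat.Prime 2) := ⟨Nat.prime_two⟩
    obtain ⟨x, hx⟩ := exists_prime_orderOf_dvd_card' (G := ↥(K ⊓ K.map (MulAut.conj g).toMonoidHom)) 2 hne.two_dvd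
    have hxi : IsInv (x : X) := CfsgLib.Bender.Assembly.isInv_of_orderOf ((Subgroup.orderOf_coe x).trans hx)
    obtain ⟨hx1, k, hk, hxk⟩ := x.2
    have h1 : (x : X) • ((1 : X) : X ⧸ K) = ((1 : X) : X ⧸ K) :=
      CfsgLib.Bender.Assembly.fix_iff.mpr (by simpa using hx1)
    have h2 : (x : X) • ((g : X) : X ⧸ K) = ((g : X) : X ⧸ K) := by
      refine CfsgLib.Bender.Assembly.fix_iff.mpr ?_
      rw [← hxk]
      show g⁻¹ * (g * k * g⁻¹) * g ∈ K
      rwa [show g⁻¹ * (g * k * g⁻¹) * g = k by group]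
    have := (hQ X (X ⧸ K) D hhyp x (hgen ▸ Subgroup.mem_top _) hxi).unique h1 h2
    exact hg (by simpa using QuotientGroup.eq.mp this)

section Root

variable {G : Type u} [Group G] {E : Set G}

/-- Members of a root involution set in different commuting components have odd products. -/
theorem odd2_of_root (hE : IsRootInvolutionSet E) : Odd2 G E where
  inv d hd := ⟨CfsgLib.RootInv.ne_one hE hd, CfsgLib.RootInv.mul_self hE hd⟩
  conj d hd g := hE.conj_mem d hd g
  odd a ha b hb hn := by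
    rcases hE.pair a ha b hb with h | h | ⟨h, hf⟩
    · exact absurd (reach_of_commute ha hb h) hn
    · exact h
    · exfalso
      have haa := CfsgLib.RootInv.mul_self hE ha
      have hbb := CfsgLib.RootInv.mul_self hE hb
      have hi : ((a * b) ^ 2)⁻¹ = (a * b) ^ 2 := inv_eq_of_mul_eq_one_right (by
        rw [← pow_add]; show (a * b) ^ 4 = 1
        rw [← h, pow_orderOf_eq_one])
      have e1 : a * (a * b) ^ 2 = (a * b) ^ 2 * a := by
        nth_rewrite 2 [← hi]
        rw [pow_two, mul_inv_rev, mul_inv_rev, CfsgLib.RootInv.inv_eq hE ha, CfsgLib.RootInv.inv_eq hE hb]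
        calc a * (a * b * (a * b)) = (a * a) * (b * a * b) := by group
          _ = b * a * b * (a * a) := by rw [haa, one_mul, mul_one]
          _ = _ := by group
      have e2 : (a * b) ^ 2 * b = b * (a * b) ^ 2 := by
        nth_rewrite 2 [← hi]
        rw [pow_two, mul_inv_rev, mul_inv_rev, CfsgLib.RootInv.inv_eq hE ha, CfsgLib.RootInv.inv_eq hE hb]
        calc a * b * (a * b) * b = a * b * a * (b * b) := by group
          _ = (b * b) * (a * b * a) := by rw [hbb, one_mul, mul_one]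
          _ = _ := by group
      exact hn ((reach_of_commute ha hf e1).trans (reach_of_commute hf hb e2))

variable [Finite G]

/-- The quotient by the preimage of the centre: simple, members survive, a strongly embedded subgroup. -/
theorem quot (hE : IsRootInvolutionSet E) (hEE : (E ∩ commutingProducts E).Nonempty)
    (hnc : ¬ IsConnectedSet (CommAdj E) E)
    (hQ : ∀ (G Ω : Type u) [Group G] [Finite G] [MulAction G Ω] [FaithfulSMul G Ω] (Z : Set G),
      CfsgLib.Bender.Q.Hyp G Ω Z → ∀ x ∈ Subgroup.closure Z, IsInv x → ∃! c : Ω, x • c = c) :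
    IsSimpleGroup (G ⧸ twoZCore G) ∧ (∀ d ∈ E, QuotientGroup.mk' (twoZCore G) d ≠ 1) ∧
      ∃ H : Subgroup (G ⧸ twoZCore G), IsStronglyEmbedded H := by
  have hO := odd2_of_root hE
  have hfar : ∀ x ∈ E, ∃ c ∈ E, ¬ ReflTransGen (CommAdj E) x c := fun x hx => by
    by_contra h
    push Not at h
    exact hnc fun y hy z hz => (reach_symm (h y hy)).trans (h z hz)
  have hF : IsConnectedSet (OddAdj E) E := by
    have step : ∀ {x y : G}, x ∈ E → y ∈ E → ¬ ReflTransGen (CommAdj E) x y → OddAdj E x y := fun hx hy h =>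
      ⟨hx, hy, fun e => h (e ▸ ReflTransGen.refl), hO.odd _ hx _ hy h⟩
    intro x hx y hy
    by_cases h : ReflTransGen (CommAdj E) x y
    · obtain ⟨c, hc, hxc⟩ := hfar x hx
      exact (ReflTransGen.single (step hx hc hxc)).tail (step hc hy fun h' => hxc (h.trans (reach_symm h')))
    · exact ReflTransGen.single (step hx hy h)
  haveI := (Cfsg.Agent.S5048.main hE hF hEE).2
  set π := QuotientGroup.mk' (twoZCore G) with hπ
  have hπs : Function.Surjective π := QuotientGroup.mk'_surjective _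
  have hnt : ∀ d ∈ E, π d ≠ 1 := by
    intro d hd h
    have htop : Subgroup.closure E ≤ twoZCore G := (Subgroup.closure_le _).mpr fun e he => by
      obtain ⟨g, rfl⟩ := isConj hO hnc hd he
      exact Subgroup.Normal.conj_mem inferInstance d ((QuotientGroup.eq_one_iff d).mp h) g
    rw [hE.generates] at htop
    haveI := (inferInstance : IsSimpleGroup (G ⧸ twoZCore G)).toNontrivial
    exact QuotientGroup.nontrivial_iff.mp inferInstance (top_le_iff.mp htop)
  -- congruent members lie in one component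
  have hcong : ∀ a ∈ E, ∀ b ∈ E, π a = π b → ReflTransGen (CommAdj E) a b := by
    intro a ha b hb hab
    by_contra hn
    obtain ⟨c₀, hc₀, a₀, ha₀, b₀, hb₀, hcm, -, rfl⟩ := hEE
    obtain ⟨g, hg⟩ := isConj hO hnc ha₀ ha
    have hy : g * b₀ * g⁻¹ ∈ E := hE.conj_mem b₀ hb₀ g
    have hw : g * (a₀ * b₀) * g⁻¹ ∈ E := hE.conj_mem _ hc₀ g
    have hay : a * (g * b₀ * g⁻¹) = g * (a₀ * b₀) * g⁻¹ := by rw [← hg]; group
    have hcomm : a * (g * b₀ * g⁻¹) = (g * b₀ * g⁻¹) * a := by
      rw [hay, hcm, ← hg]; group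
    have hby : ¬ ReflTransGen (CommAdj E) b (g * b₀ * g⁻¹) := fun h =>
      hn ((reach_of_commute ha hy hcomm).trans (reach_symm h))
    obtain ⟨l, hl⟩ := hO.odd b hb _ hy hby
    apply hnt _ hw
    have h1 : π (b * (g * b₀ * g⁻¹)) = π (g * (a₀ * b₀) * g⁻¹) := by rw [map_mul, ← hab, ← map_mul, hay]
    have h2 : π (g * (a₀ * b₀) * g⁻¹) ^ (2 * l + 1) = 1 := by
      rw [← h1, ← map_pow, ← hl, pow_orderOf_eq_one, map_one]
    have h3 : π (g * (a₀ * b₀) * g⁻¹) ^ 2 = 1 := by
      rw [pow_two, ← map_mul, CfsgLib.RootInv.mul_self hE hw, map_one]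
    rwa [pow_succ, pow_mul, h3, one_pow, one_mul] at h2
  have himg : ∀ {a b : G}, ReflTransGen (CommAdj E) a b → ReflTransGen (CommAdj (π '' E)) (π a) (π b) := by
    intro a b h
    induction h with
    | refl => exact ReflTransGen.refl
    | tail _ h ih =>
      exact ih.trans (reach_of_commute ⟨_, h.1, rfl⟩ ⟨_, h.2.1, rfl⟩ (by rw [← map_mul, h.2.2.2, map_mul]))
  have hback : ∀ a ∈ E, ∀ y : G ⧸ twoZCore G, ReflTransGen (CommAdj (π '' E)) (π a) y →
      ∀ b ∈ E, π b = y → ReflTransGen (CommAdj E) a b := by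
    intro a ha y h
    induction h with
    | refl => exact fun b hb e => hcong a ha b hb e.symm
    | tail _ h ih =>
      intro b hb e
      obtain ⟨d, hd, hdy⟩ := h.1
      refine (ih d hd hdy).trans ?_
      by_contra hn
      obtain ⟨l, hl⟩ := hO.odd d hd b hb hn
      have hdb : π d * π b = π b * π d := by rw [hdy, e]; exact h.2.2.2
      have h3 : (π d * π b) ^ 2 = 1 := by
        rw [(show Commute (π d) (π b) from hdb).mul_pow, pow_two, pow_two, ← map_mul, ← map_mul,
          CfsgLib.RootInv.mul_self hE hd, CfsgLib.RootInv.mul_self hE hb, map_one, one_mul]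
      have h2 : (π d * π b) ^ (2 * l + 1) = 1 := by
        rw [← map_mul, ← map_pow, ← hl, pow_orderOf_eq_one, map_one]
      rw [pow_succ, pow_mul, h3, one_pow, one_mul] at h2
      refine h.2.2.1 ?_
      rw [← hdy, ← e]
      exact (mul_eq_one_iff_eq_inv.mp h2).trans (by rw [← map_inv, CfsgLib.RootInv.inv_eq hE hb])
  have hD' : Odd2 (G ⧸ twoZCore G) (π '' E) := by
    refine ⟨?_, ?_, ?_⟩
    · rintro _ ⟨d, hd, rfl⟩
      exact ⟨hnt d hd, by rw [← map_mul, CfsgLib.RootInv.mul_self hE hd, map_one]⟩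
    · rintro _ ⟨d, hd, rfl⟩ g
      obtain ⟨g, rfl⟩ := hπs g
      exact ⟨g * d * g⁻¹, hE.conj_mem d hd g, by rw [map_mul, map_mul, map_inv]⟩
    · rintro _ ⟨a, ha, rfl⟩ _ ⟨b, hb, rfl⟩ hn
      rw [← map_mul]
      exact (hO.odd a ha b hb fun h => hn (himg h)).of_dvd_nat (orderOf_map_dvd _ _)
  have hgen : Subgroup.closure (π '' E) = ⊤ := by
    rw [← MonoidHom.map_closure, hE.generates, Subgroup.map_top_of_surjective _ hπs]
  have hnc' : ¬ IsConnectedSet (CommAdj (π '' E)) (π '' E) := fun h =>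
    hnc fun a ha b hb => hback a ha _ (h _ ⟨a, ha, rfl⟩ _ ⟨b, hb, rfl⟩) b hb rfl
  exact ⟨inferInstance, hnt, stronglyEmbedded hD' hgen hnc' hQ⟩

/-- S5044, given the theorem on hypothesis Q. -/
theorem dichotomy (hE : IsRootInvolutionSet E) (hEE : (E ∩ commutingProducts E).Nonempty)
    (hnc : ¬ IsConnectedSet (CommAdj E) E)
    (hQ : ∀ (G Ω : Type u) [Group G] [Finite G] [MulAction G Ω] [FaithfulSMul G Ω] (Z : Set G),
      CfsgLib.Bender.Q.Hyp G Ω Z → ∀ x ∈ Subgroup.closure Z, IsInv x → ∃! c : Ω, x • c = c) :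
    (∃ (F : Type) (_ : Field F) (_ : Fintype F), CharP F 2 ∧ 4 ≤ Fintype.card F ∧
      Nonempty (G ⧸ twoZCore G ≃* Matrix.ProjectiveSpecialLinearGroup (Fin 2) F)) ∨
    Lie.IsoSuzuki (G ⧸ twoZCore G) ∨
    (∃ (F : Type) (_ : Field F) (_ : Fintype F) (q : ℕ), CharP F 2 ∧ Fintype.card F = q ^ 2 ∧ 4 ≤ q ∧
      Nonempty (G ⧸ twoZCore G ≃* PSU 3 F q)) := by
  obtain ⟨hs, -, H, hH⟩ := quot hE hEE hnc hQ
  haveI := hs
  rcases CfsgLib.Bender.isBenderGroup_of_stronglyEmbedded (CfsgLib.Bender.Assembly.benderHyp CfsgLib.Bender.Assembly.goodAll)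
      CfsgLib.Bender.Assembly.suzukiHyp hH with ⟨F, i1, i2, ⟨n, hn, hc⟩, hf⟩ | h | ⟨F, i1, i2, n, hn, hc, hf⟩
  · exact Or.inl ⟨F, i1, i2, CfsgLib.Bender.charP_two_of_card hc (by omega),
      hc ▸ CfsgLib.Bender.four_le_two_pow hn, hf⟩
  · exact Or.inr (Or.inl h)
  · exact Or.inr (Or.inr ⟨F, i1, i2, 2 ^ n,
      CfsgLib.Bender.charP_two_of_card (n := n * 2) (hc.trans (pow_mul 2 n 2).symm) (by omega),
      hc, CfsgLib.Bender.four_le_two_pow hn, hf⟩)

end Root

end CfsgLib.RootComm
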