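/-
Rank one groups: regularity of a unipotent subgroup and double transitivity on the unipotent subgroups.
-/
import Mathlib
import Cfsg.Prelude.Def_RootSubgroups

set_option autoImplicit false

namespace CfsgLib.RootSub

open Cfsg
open scoped commutatorElement

universe u

variable {G : Type u} [Group G] {A B C D : Subgroup G}

theorem conjBy_mem_iff {g x : G} : x ∈ conjBy A g ↔ g⁻¹ * x * g ∈ A := by
  simp only [Subgroup.mem_map, MulEquiv.coe_toMonoidHom, MulAut.conj_apply]
  constructor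
  · rintro ⟨y, hy, rfl⟩
    rwa [show g⁻¹ * (g * y * g⁻¹) * g = y by group]
  · exact fun h => ⟨_, h, by group⟩

theorem conjBy_mem {g x : G} (hx : x ∈ A) : g * x * g⁻¹ ∈ conjBy A g := ⟨x, hx, rfl⟩

theorem conjBy_one : conjBy A 1 = A := by ext x; simp [conjBy_mem_iff]

theorem conjBy_conjBy (g h : G) : conjBy (conjBy A g) h = conjBy A (h * g) := by
  ext x; simp only [conjBy_mem_iff, mul_inv_rev, mul_assoc]

theorem conjBy_injective (g : G) : Function.Injective (fun A : Subgroup G => conjBy A g) :=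
  Subgroup.map_injective (MulAut.conj g).injective

theorem conjBy_eq_self_iff {g : G} : conjBy A g = A ↔ g ∈ Subgroup.normalizer (A : Set G) := by
  rw [Subgroup.mem_normalizer_iff, SetLike.ext_iff]
  constructor
  · intro h x
    rw [← h (g * x * g⁻¹), conjBy_mem_iff, show g⁻¹ * (g * x * g⁻¹) * g = x by group]
  · intro h x
    rw [conjBy_mem_iff, h, show g * (g⁻¹ * x * g) * g⁻¹ = x by group]

theorem conjBy_self {g : G} (hg : g ∈ A) : conjBy A g = A :=
  conjBy_eq_self_iff.mpr (Subgroup.le_normalizer hg)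

theorem conjBy_eq_conjBy_iff {g h : G} : conjBy A g = conjBy A h ↔ h⁻¹ * g ∈ Subgroup.normalizer (A : Set G) := by
  rw [← conjBy_eq_self_iff, ← conjBy_conjBy]
  constructor
  · intro e; rw [e, conjBy_conjBy, inv_mul_cancel, conjBy_one]
  · intro e
    have := congrArg (fun K => conjBy K h) e
    simpa [conjBy_conjBy] using this

theorem inf_normalizer_eq_bot (h : IsRankOnePair A B) : A ⊓ Subgroup.normalizer (B : Set G) = ⊥ := by
  rw [Subgroup.eq_bot_iff_forall]
  rintro a ⟨ha, ha'⟩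
  by_contra ha1
  obtain ⟨b, hb, -, e⟩ := h.cond_left a ha ha1
  rw [(conjBy_eq_self_iff (g := a⁻¹)).mpr (inv_mem ha')] at e
  refine h.ne ?_
  have := congrArg (fun K => conjBy K b) e
  simpa [conjBy_conjBy, conjBy_one, conjBy_self hb] using this

theorem eq_one_of_normalizes (h : IsRankOnePair A B) {a : G} (ha : a ∈ A)
    (hn : a ∈ Subgroup.normalizer (B : Set G)) : a = 1 := by
  have : a ∈ A ⊓ Subgroup.normalizer (B : Set G) := ⟨ha, hn⟩
  rwa [inf_normalizer_eq_bot h, Subgroup.mem_bot] at this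

theorem conjBy_inj_left (h : IsRankOnePair A B) {a a' : G} (ha : a ∈ A) (ha' : a' ∈ A)
    (e : conjBy B a = conjBy B a') : a = a' :=
  (inv_mul_eq_one.mp (eq_one_of_normalizes h (mul_mem (inv_mem ha') ha) (conjBy_eq_conjBy_iff.mp e))).symm

theorem ne_bot_left (h : IsRankOnePair A B) : A ≠ ⊥ := by
  intro hA
  refine h.ne (hA.trans (Eq.symm ?_))
  rw [Subgroup.eq_bot_iff_forall]
  intro b hb
  by_contra hb1
  obtain ⟨a, ha, ha1, -⟩ := h.cond_right b hb hb1
  rw [hA, Subgroup.mem_bot] at ha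
  exact ha1 ha

theorem mem_unipotent_iff : C ∈ unipotentSubgroups A B ↔ ∃ x ∈ A ⊔ B, C = conjBy A x := Iff.rfl

theorem left_mem_unipotent : A ∈ unipotentSubgroups A B := ⟨1, one_mem _, conjBy_one.symm⟩

theorem conjBy_mem_unipotent {x : G} (hx : x ∈ A ⊔ B) (hC : C ∈ unipotentSubgroups A B) :
    conjBy C x ∈ unipotentSubgroups A B := by
  obtain ⟨y, hy, rfl⟩ := hC
  exact ⟨x * y, mul_mem hx hy, conjBy_conjBy y x⟩

theorem conjBy_right_mem (h : IsRankOnePair A B) {a : G} (ha : a ∈ A) : conjBy B a ∈ unipotentSubgroups A B := by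
  refine conjBy_mem_unipotent (Subgroup.mem_sup_left ha) ?_
  obtain ⟨⟨a₁, ha₁⟩, hne⟩ := Subgroup.ne_bot_iff_exists_ne_one.mp (ne_bot_left h)
  have ha₁' : a₁ ≠ 1 := fun e => hne (Subtype.ext e)
  obtain ⟨b, hb, -, e⟩ := h.cond_left a₁ ha₁ ha₁'
  refine ⟨a₁ * b⁻¹, mul_mem (Subgroup.mem_sup_left ha₁) (Subgroup.mem_sup_right (inv_mem hb)), ?_⟩
  have := congrArg (fun K => conjBy K a₁) e
  simp only [conjBy_conjBy, mul_inv_cancel, conjBy_one] at this
  exact this.symm

theorem right_mem_unipotent (h : IsRankOnePair A B) : B ∈ unipotentSubgroups A B := by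
  have := conjBy_right_mem h (one_mem A)
  rwa [conjBy_one] at this

theorem eq_or_conj_right (h : IsRankOnePair A B) (hC : C ∈ unipotentSubgroups A B) :
    C = A ∨ ∃ a ∈ A, C = conjBy B a := by
  obtain ⟨x, hx, rfl⟩ := hC
  revert hx
  intro hx
  -- the set `{A} ∪ B^A` is invariant
  let T : Subgroup G → Prop := fun C => C = A ∨ ∃ a ∈ A, C = conjBy B a
  have hstepA : ∀ a ∈ A, ∀ K, T K → T (conjBy K a) := by
    rintro a ha K (rfl | ⟨a', ha', rfl⟩)
    · exact Or.inl (conjBy_self ha)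
    · exact Or.inr ⟨a * a', mul_mem ha ha', conjBy_conjBy a' a⟩
  have hbA : ∀ b ∈ B, T (conjBy A b) := fun b hb => by
    by_cases hb1 : b = 1
    · exact Or.inl (by rw [hb1, conjBy_one])
    obtain ⟨a, ha, -, e⟩ := h.cond_right b⁻¹ (inv_mem hb) (inv_ne_one.mpr hb1)
    rw [inv_inv] at e
    exact Or.inr ⟨a⁻¹, inv_mem ha, e.symm⟩
  have hstepB : ∀ b ∈ B, ∀ K, T K → T (conjBy K b) := by
    rintro b hb K (rfl | ⟨a', ha', rfl⟩)
    · exact hbA b hb
    · by_cases ha1 : a' = 1
      · exact Or.inr ⟨1, one_mem _, by rw [ha1, conjBy_one, conjBy_self hb]⟩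
      obtain ⟨b', hb', -, e⟩ := h.cond_left a'⁻¹ (inv_mem ha') (inv_ne_one.mpr ha1)
      rw [inv_inv] at e
      rw [← e, conjBy_conjBy]
      exact hbA _ (mul_mem hb (inv_mem hb'))
  suffices (∀ K, T K → T (conjBy K x)) ∧ (∀ K, T K → T (conjBy K x⁻¹)) from this.1 A (Or.inl rfl)
  rw [Subgroup.sup_eq_closure] at hx
  induction hx using Subgroup.closure_induction with
  | mem y hy =>
    rcases hy with hy | hy
    · exact ⟨hstepA y hy, hstepA _ (inv_mem hy)⟩
    · exact ⟨hstepB y hy, hstepB _ (inv_mem hy)⟩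
  | one => simp only [inv_one]; exact ⟨fun K hK => by rwa [conjBy_one], fun K hK => by rwa [conjBy_one]⟩
  | mul y z _ _ ihy ihz =>
    exact ⟨fun K hK => by rw [← conjBy_conjBy]; exact ihy.1 _ (ihz.1 _ hK),
      fun K hK => by rw [mul_inv_rev, ← conjBy_conjBy]; exact ihz.2 _ (ihy.2 _ hK)⟩
  | inv y _ ih => exact ⟨ih.2, by rw [inv_inv]; exact ih.1⟩

theorem unipotent_conj_left (h : IsRankOnePair A B) (hC : C ∈ unipotentSubgroups A B) (hne : C ≠ A) :
    ∃ a ∈ A, C = conjBy B a := (eq_or_conj_right h hC).resolve_left hne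

theorem conjBy_right_ne (h : IsRankOnePair A B) {a : G} (ha : a ∈ A) : conjBy B a ≠ A := fun e =>
  h.ne (conjBy_injective a (show conjBy A a = conjBy B a by rw [conjBy_self ha, e]))

theorem exists_map_pair (h : IsRankOnePair A B) (hC : C ∈ unipotentSubgroups A B) (hD : D ∈ unipotentSubgroups A B)
    (hne : C ≠ D) : ∃ x ∈ A ⊔ B, conjBy A x = C ∧ conjBy B x = D := by
  obtain ⟨y, hy, rfl⟩ := hC
  have hD' : conjBy D y⁻¹ ∈ unipotentSubgroups A B := conjBy_mem_unipotent (inv_mem hy) hD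
  have hne' : conjBy D y⁻¹ ≠ A := fun e => hne (by
    rw [← congrArg (fun K => conjBy K y) e, conjBy_conjBy, mul_inv_cancel, conjBy_one])
  obtain ⟨a, ha, e⟩ := unipotent_conj_left h hD' hne'
  refine ⟨y * a, mul_mem hy (Subgroup.mem_sup_left ha), ?_, ?_⟩
  · rw [← conjBy_conjBy, conjBy_self ha]
  · rw [← conjBy_conjBy, ← e, conjBy_conjBy, mul_inv_cancel, conjBy_one]

theorem isRankOnePair_conjBy (h : IsRankOnePair A B) (x : G) : IsRankOnePair (conjBy A x) (conjBy B x) := by
  have key : ∀ {P Q : Subgroup G}, RankOneCondition P Q → RankOneCondition (conjBy P x) (conjBy Q x) := by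
    intro P Q hc a ha ha1
    obtain ⟨p, hp, rfl⟩ := ha
    have hp1 : p ≠ 1 := fun e => ha1 (by simp [e])
    obtain ⟨q, hq, hq1, e⟩ := hc p hp hp1
    refine ⟨x * q * x⁻¹, conjBy_mem hq, fun h1 => hq1 (mul_left_cancel (a := x) ((mul_inv_eq_one.mp h1).trans (mul_one x).symm)), ?_⟩
    have e' := congrArg (fun K => conjBy K x) e
    simp only [conjBy_conjBy] at e' ⊢
    rw [show (x * q * x⁻¹)⁻¹ * x = x * q⁻¹ by group,
      show ((MulAut.conj x).toMonoidHom p)⁻¹ * x = x * p⁻¹ by simp only [MulEquiv.coe_toMonoidHom, MulAut.conj_apply]; group]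
    exact e'
  have hA := h.nilpotent_left
  have hB := h.nilpotent_right
  exact ⟨fun e => h.ne (conjBy_injective x e), Group.nilpotent_of_mulEquiv (A.equivMapOfInjective _ (MulAut.conj x).injective),
    Group.nilpotent_of_mulEquiv (B.equivMapOfInjective _ (MulAut.conj x).injective), key h.cond_left, key h.cond_right⟩

theorem eq_of_normalizes (h : IsRankOnePair A B) (hC : C ∈ unipotentSubgroups A B) (hD : D ∈ unipotentSubgroups A B)
    {x : G} (hx : x ∈ C) (hx1 : x ≠ 1) (hn : x ∈ Subgroup.normalizer (D : Set G)) : D = C := by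
  by_contra hne
  obtain ⟨y, -, rfl, rfl⟩ := exists_map_pair h hC hD (Ne.symm hne)
  exact hx1 (eq_one_of_normalizes (isRankOnePair_conjBy h y) hx hn)

end CfsgLib.RootSub
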