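/-
Elements of a rank one pair do not commute; normalising by commuting.
-/
import Mathlib
import Cfsg.Agent.Lib.RootSub.RankOne

set_option autoImplicit false

namespace CfsgLib.RootSub

open Cfsg

universe u

variable {G : Type u} [Group G] {A B : Subgroup G}

theorem mem_normalizer_of_commute_all {x : G} (h : ∀ a ∈ A, x * a = a * x) : x ∈ Subgroup.normalizer (A : Set G) :=
  Subgroup.centralizer_le_normalizer (A : Set G) (Subgroup.mem_centralizer_iff.mpr fun a ha => (h a ha).symm)

theorem not_commute (h : IsRankOnePair A B) {a b : G} (ha : a ∈ A) (ha1 : a ≠ 1) (hb : b ∈ B) (hb1 : b ≠ 1) :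
    a * b ≠ b * a := fun e => by
  have hmem : a ∈ conjBy A b := by
    rw [conjBy_mem_iff]
    rw [show b⁻¹ * a * b = a by rw [mul_assoc, e, inv_mul_cancel_left]]
    exact ha
  have hD := eq_of_normalizes h left_mem_unipotent (conjBy_mem_unipotent (Subgroup.mem_sup_right hb) left_mem_unipotent)
    ha ha1 (Subgroup.le_normalizer hmem)
  exact hb1 (eq_one_of_normalizes (RankOnePair_symm h) hb (conjBy_eq_self_iff.mp hD))

theorem eq_of_unipotent_commute {C : Subgroup G} (h : IsRankOnePair A B) (hC : C ∈ unipotentSubgroups A B)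
    {c : G} (hc : c ∈ C) (hc1 : c ≠ 1) (hcA : ∀ a ∈ A, c * a = a * c) : A = C :=
  eq_of_normalizes h hC left_mem_unipotent hc hc1 (mem_normalizer_of_commute_all hcA)

end CfsgLib.RootSub
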