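/-
Members of a set of abstract root subgroups against a rank one subgroup.
-/
import Mathlib
import Cfsg.Agent.Lib.RootSub.RankOne

set_option autoImplicit false

namespace CfsgLib.RootSub

open Cfsg
open scoped commutatorElement

universe u

variable {G : Type u} [Group G] {S : Set (Subgroup G)} {A B C E P Q : Subgroup G}

theorem mem_unipotent_of_rankOne (h : IsRankOnePair P Q) (hCE : IsRankOnePair C E) (hE : E ∈ unipotentSubgroups P Q)
    {x : G} (hx : x ∈ C) (hx1 : x ≠ 1) (hU : conjBy E x⁻¹ ∈ unipotentSubgroups P Q) : C ∈ unipotentSubgroups P Q := by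
  obtain ⟨e, he, -, heq⟩ := hCE.cond_left x hx hx1
  have hEle : E ≤ P ⊔ Q := by
    obtain ⟨y, hy, rfl⟩ := hE
    intro z hz
    rw [conjBy_mem_iff] at hz
    have := mul_mem (mul_mem hy (Subgroup.mem_sup_left (T := Q) hz)) (inv_mem hy)
    simpa [mul_assoc] using this
  have := conjBy_mem_unipotent (hEle he) hU
  rw [← heq, conjBy_conjBy, mul_inv_cancel, conjBy_one] at this
  exact this

theorem normalizes_of_not_rankOne (hS : IsRootSubgroupSet S) (hA : A ∈ S) (hE : E ∈ S) (hnr : ¬ IsRankOnePair A E)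
    (h : IsRankOnePair P Q) (hEU : E ∈ unipotentSubgroups P Q) {x : G} (hx : x ∈ A)
    (hxU : conjBy E x ∈ unipotentSubgroups P Q) : x ∈ Subgroup.normalizer (E : Set G) := by
  rcases hS.pair A hA E hE with hc | hr | hc
  · rw [Subgroup.commutator_eq_bot_iff_le_centralizer] at hc
    rw [Subgroup.mem_normalizer_iff]
    intro y
    have hcomm : ∀ e ∈ E, x * e * x⁻¹ = e := fun e he => by
      rw [← hc hx e he, mul_inv_cancel_right]
    refine ⟨fun hy => (hcomm y hy).symm ▸ hy, fun hy => ?_⟩
    have := hcomm _ hy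
    have e2 : x * y * x⁻¹ = y := mul_left_cancel (mul_right_cancel this)
    rwa [e2] at hy
  · exact absurd hr hnr
  · obtain ⟨-, hcen, -, -⟩ := hc
    obtain ⟨⟨e, he⟩, hne⟩ := Subgroup.ne_bot_iff_exists_ne_one.mp (hS.ne_bot E hE)
    have he1 : e ≠ 1 := fun h1 => hne (Subtype.ext h1)
    have hab := hS.commutative E hE
    have hcomm : ∀ y ∈ conjBy E x, e * y = y * e := fun y hy => by
      obtain ⟨f, hf, rfl⟩ := hy
      simp only [MulEquiv.coe_toMonoidHom, MulAut.conj_apply]
      have h1 := hcen ⁅x, f⁆ (Subgroup.commutator_mem_commutator hx hf) e (Subgroup.mem_sup_right he)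
      have h2 : f * e = e * f := congrArg Subtype.val (hab.is_comm.comm (⟨f, hf⟩ : E) ⟨e, he⟩)
      rw [show x * f * x⁻¹ = ⁅x, f⁆ * f by rw [commutatorElement_def]; group]
      calc e * (⁅x, f⁆ * f) = (e * ⁅x, f⁆) * f := by group
        _ = (⁅x, f⁆ * e) * f := by rw [h1]
        _ = ⁅x, f⁆ * (e * f) := by group
        _ = _ := by rw [← h2]; group
    have hn : e ∈ Subgroup.normalizer (conjBy E x : Set G) := by
      rw [← conjBy_eq_self_iff]
      ext y
      rw [conjBy_mem_iff]
      refine ⟨fun hy => ?_, fun hy => ?_⟩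
      · have := hcomm _ hy
        have e2 : e⁻¹ * y * e = y := by
          have h3 : e * (e⁻¹ * y * e) = (e⁻¹ * y * e) * e := this
          rw [show e * (e⁻¹ * y * e) = y * e by group] at h3
          exact (mul_right_cancel h3).symm
        rwa [e2] at hy
      · rwa [mul_assoc, ← hcomm y hy, inv_mul_cancel_left]
    exact conjBy_eq_self_iff.mp (eq_of_normalizes h hEU hxU he he1 hn)

end CfsgLib.RootSub
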