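/-
The commutator case for two abstract root subgroups.
-/
import Mathlib
import Cfsg.Agent.Lib.RootSub.RootSet
import Cfsg.Agent.Lib.RootSub.Central
import Cfsg.Agent.S5025
import Cfsg.Agent.S5028

set_option autoImplicit false

namespace CfsgLib.RootSub

open Cfsg
open scoped commutatorElement

universe u

variable {G : Type u} [Group G] {S : Set (Subgroup G)} {A B C D : Subgroup G}

theorem commute_of_comm_eq_bot (h : ⁅A, B⁆ = ⊥) {a b : G} (ha : a ∈ A) (hb : b ∈ B) : a * b = b * a :=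
  (Subgroup.mem_centralizer_iff.mp (Subgroup.commutator_eq_bot_iff_le_centralizer.mp h ha) b hb).symm

theorem comm_eq_bot_of_commute (h : ∀ a ∈ A, ∀ b ∈ B, a * b = b * a) : ⁅A, B⁆ = ⊥ :=
  Subgroup.commutator_eq_bot_iff_le_centralizer.mpr fun a ha =>
    Subgroup.mem_centralizer_iff.mpr fun b hb => (h a ha b hb).symm

theorem normalizes_of_forall {N : Subgroup G} {H : Subgroup G} (h : ∀ a ∈ H, ∀ n ∈ N, a * n * a⁻¹ ∈ N) :
    H ≤ Subgroup.normalizer (N : Set G) := fun a ha => by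
  rw [Subgroup.mem_normalizer_iff]
  intro n
  refine ⟨h a ha n, fun hn => ?_⟩
  have := h a⁻¹ (inv_mem ha) _ hn
  simpa [mul_assoc] using this

theorem conj_mem_of_normalizes {N : Subgroup G} {a n : G} (ha : a ∈ Subgroup.normalizer (N : Set G)) (hn : n ∈ N) :
    a * n * a⁻¹ ∈ N := (Subgroup.mem_normalizer_iff.mp ha n).mp hn

theorem left_normalizes_comm (A B : Subgroup G) : A ≤ Subgroup.normalizer ((⁅A, B⁆ : Subgroup G) : Set G) :=
  normalizes_of_forall fun a ha n hn => by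
    induction hn using Subgroup.closure_induction with
    | mem x hx =>
      obtain ⟨p, hp, q, hq, rfl⟩ := hx
      rw [show a * ⁅p, q⁆ * a⁻¹ = ⁅a * p, q⁆ * ⁅a, q⁆⁻¹ by simp only [commutatorElement_def]; group]
      exact mul_mem (Subgroup.commutator_mem_commutator (mul_mem ha hp) hq)
        (inv_mem (Subgroup.commutator_mem_commutator ha hq))
    | one => simp
    | mul x y _ _ h1 h2 =>
      rw [show a * (x * y) * a⁻¹ = (a * x * a⁻¹) * (a * y * a⁻¹) by group]
      exact mul_mem h1 h2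
    | inv x _ h1 =>
      rw [show a * x⁻¹ * a⁻¹ = (a * x * a⁻¹)⁻¹ by group]
      exact inv_mem h1

theorem right_normalizes_comm (A B : Subgroup G) : B ≤ Subgroup.normalizer ((⁅A, B⁆ : Subgroup G) : Set G) := by
  rw [Subgroup.commutator_comm]
  exact left_normalizes_comm B A

theorem rcc_symm (h : RootCommutatorCase S A B) : RootCommutatorCase S B A := by
  obtain ⟨h1, h2, h3, h4⟩ := h
  have e : ⁅B, A⁆ = ⁅A, B⁆ := Subgroup.commutator_comm _ _
  have key : ∀ {P : Subgroup G} (f g : G → G), (∀ x, f x = (g x)⁻¹) →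
      Subgroup.closure (f '' (P : Set G)) = Subgroup.closure (g '' (P : Set G)) := by
    intro P f g hfg
    apply le_antisymm <;> refine (Subgroup.closure_le _).mpr ?_ <;> rintro _ ⟨x, hx, rfl⟩
    · rw [hfg]
      exact inv_mem (Subgroup.subset_closure ⟨x, hx, rfl⟩)
    · rw [← inv_inv (g x), ← hfg]
      exact inv_mem (Subgroup.subset_closure ⟨x, hx, rfl⟩)
  refine ⟨by rw [e]; exact h1, fun c hc x hx => h2 c (e ▸ hc) x (by rwa [sup_comm]), fun b hb hb1 => ?_, fun a ha ha1 => ?_⟩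
  · rw [e, ← h4 b hb hb1]
    exact key _ _ fun x => by group
  · rw [e, ← h3 a ha ha1]
    exact key _ _ fun x => by group

/-- If the commutator of two root subgroups is a root subgroup, they are in the commutator case. -/
theorem rcc_of_mem (hS : IsRootSubgroupSet S) (hA : A ∈ S) (hB : B ∈ S) (hC : ⁅A, B⁆ ∈ S) :
    RootCommutatorCase S A B := by
  rcases hS.pair A hA B hB with h | h | h
  · exact absurd h (hS.ne_bot _ hC)
  · exfalso
    set N := A ⊔ ⁅A, B⁆ with hN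
    have hZ : ∀ z ∈ ⁅A, ⁅A, B⁆⁆, ∀ x ∈ N, z * x = x * z := by
      rcases hS.pair A hA _ hC with h' | h' | h'
      · intro z hz x _
        rw [h', Subgroup.mem_bot] at hz
        rw [hz, one_mul, mul_one]
      · obtain ⟨⟨a, ha⟩, ha1⟩ := Subgroup.ne_bot_iff_exists_ne_one.mp (hS.ne_bot A hA)
        exact absurd (Subtype.ext (eq_one_of_normalizes h' ha (left_normalizes_comm A B ha))) ha1
      · exact h'.2.1
    have hBN : B ≤ Subgroup.normalizer (N : Set G) := normalizes_of_forall fun b hb n hn => by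
      rw [hN, Subgroup.sup_eq_closure] at hn
      induction hn using Subgroup.closure_induction with
      | mem x hx =>
        rcases hx with hx | hx
        · rw [show b * x * b⁻¹ = ⁅b, x⁆ * x by simp only [commutatorElement_def]; group]
          exact mul_mem (Subgroup.mem_sup_right (Subgroup.commutator_comm B A ▸ Subgroup.commutator_mem_commutator hb hx))
            (Subgroup.mem_sup_left hx)
        · exact Subgroup.mem_sup_right (conj_mem_of_normalizes (right_normalizes_comm A B hb) hx)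
      | one => simp
      | mul x y _ _ h1 h2 =>
        rw [show b * (x * y) * b⁻¹ = (b * x * b⁻¹) * (b * y * b⁻¹) by group]
        exact mul_mem h1 h2
      | inv x _ h1 =>
        rw [show b * x⁻¹ * b⁻¹ = (b * x * b⁻¹)⁻¹ by group]
        exact inv_mem h1
    obtain ⟨x, hx, hBx⟩ := mem_unipotent_iff.mp (right_mem_unipotent h)
    have hxN : x ∈ Subgroup.normalizer (N : Set G) := (sup_le (le_sup_left.trans Subgroup.le_normalizer) hBN) hx
    have hBle : B ≤ N := fun b hb => by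
      rw [hBx] at hb
      obtain ⟨a, ha, rfl⟩ := hb
      exact conj_mem_of_normalizes hxN (Subgroup.mem_sup_left ha)
    have hcomm : ∀ y ∈ N, ∀ a ∈ A, ⁅a, y⁆ ∈ ⁅A, ⁅A, B⁆⁆ := by
      intro y hy
      rw [hN, Subgroup.sup_eq_closure] at hy
      induction hy using Subgroup.closure_induction with
      | mem x hx =>
        intro a ha
        rcases hx with hx | hx
        · rw [show ⁅a, x⁆ = 1 by
            rw [commutatorElement_eq_one_iff_mul_comm]
            exact congrArg Subtype.val ((hS.commutative A hA).is_comm.comm ⟨a, ha⟩ ⟨x, hx⟩)]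
          exact one_mem _
        · exact Subgroup.commutator_mem_commutator ha hx
      | one => intro a _; simp
      | mul x y hx _ h1 h2 =>
        intro a ha
        rw [show ⁅a, x * y⁆ = ⁅a, x⁆ * (x * ⁅a, y⁆ * x⁻¹) by simp only [commutatorElement_def]; group,
          ← hZ _ (h2 a ha) x (by rw [hN, Subgroup.sup_eq_closure]; exact hx), mul_inv_cancel_right]
        exact mul_mem (h1 a ha) (h2 a ha)
      | inv x hx h1 =>
        intro a ha
        rw [show ⁅a, x⁻¹⁆ = x⁻¹ * ⁅a, x⁆⁻¹ * x by simp only [commutatorElement_def]; group, mul_assoc,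
          hZ _ (inv_mem (h1 a ha)) x (by rw [hN, Subgroup.sup_eq_closure]; exact hx), inv_mul_cancel_left]
        exact inv_mem (h1 a ha)
    have hCZ : ⁅A, B⁆ ≤ ⁅A, ⁅A, B⁆⁆ := (Subgroup.closure_le _).mpr (by
      rintro _ ⟨a, ha, b, hb, rfl⟩
      exact hcomm b (hBle hb) a ha)
    apply hS.ne_bot _ hC
    rw [eq_bot_iff]
    refine hCZ.trans (le_of_eq ?_)
    exact comm_eq_bot_of_commute fun a ha c hc => (hZ c (hCZ hc) a (Subgroup.mem_sup_left ha)).symm
  · exact h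

/-- In the commutator case commutation with a fixed non-identity element is onto. -/
theorem rcc_surj (h : RootCommutatorCase S A B) {a : G} (ha : a ∈ A) (ha1 : a ≠ 1) {c : G} (hc : c ∈ ⁅A, B⁆) :
    ∃ b ∈ B, a * b * a⁻¹ * b⁻¹ = c := by
  rw [← h.2.2.1 a ha ha1] at hc
  induction hc using Subgroup.closure_induction with
  | mem x hx => obtain ⟨b, hb, e⟩ := hx; exact ⟨b, hb, e⟩
  | one => exact ⟨1, one_mem _, by group⟩
  | mul x y _ _ h1 h2 =>
    obtain ⟨b₁, hb₁, rfl⟩ := h1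
    obtain ⟨b₂, hb₂, rfl⟩ := h2
    refine ⟨b₁ * b₂, mul_mem hb₁ hb₂, ?_⟩
    have hcc := h.2.1 (a * b₂ * a⁻¹ * b₂⁻¹) (Subgroup.commutator_mem_commutator ha hb₂) b₁ (Subgroup.mem_sup_right hb₁)
    calc a * (b₁ * b₂) * a⁻¹ * (b₁ * b₂)⁻¹ = (a * b₁ * a⁻¹) * ((a * b₂ * a⁻¹ * b₂⁻¹) * b₁⁻¹) := by group
      _ = (a * b₁ * a⁻¹) * (b₁⁻¹ * (a * b₂ * a⁻¹ * b₂⁻¹)) := by
        congr 1
        exact (show Commute (a * b₂ * a⁻¹ * b₂⁻¹) b₁ from hcc).inv_right.eq
      _ = (a * b₁ * a⁻¹ * b₁⁻¹) * (a * b₂ * a⁻¹ * b₂⁻¹) := by group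
  | inv x _ h1 =>
    obtain ⟨b, hb, rfl⟩ := h1
    refine ⟨b⁻¹, inv_mem hb, ?_⟩
    have hcc := h.2.1 (a * b * a⁻¹ * b⁻¹)⁻¹ (inv_mem (Subgroup.commutator_mem_commutator ha hb)) b (Subgroup.mem_sup_right hb)
    calc a * b⁻¹ * a⁻¹ * b⁻¹⁻¹ = b⁻¹ * ((a * b * a⁻¹ * b⁻¹)⁻¹ * b) := by rw [inv_inv]; group
      _ = b⁻¹ * (b * (a * b * a⁻¹ * b⁻¹)⁻¹) := by rw [hcc]
      _ = (a * b * a⁻¹ * b⁻¹)⁻¹ := inv_mul_cancel_left _ _

/-- Every translate of a non-identity element by the commutator is a conjugate of it. -/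
theorem rcc_conj (h : RootCommutatorCase S A B) {a : G} (ha : a ∈ A) (ha1 : a ≠ 1) {c : G} (hc : c ∈ ⁅A, B⁆) :
    ∃ b ∈ B, b * a * b⁻¹ = a * c := by
  obtain ⟨b, hb, e⟩ := rcc_surj h ha ha1 (inv_mem hc)
  refine ⟨b, hb, ?_⟩
  rw [← (h.2.1 c hc a (Subgroup.mem_sup_left ha)), show c = (a * b * a⁻¹ * b⁻¹)⁻¹ by rw [e, inv_inv]]
  group

theorem exists_partner_of_not_isolated (hA : ¬ IsIsolatedIn (FAdj S) S A) (hAS : A ∈ S) :
    ∃ B ∈ S, IsRankOnePair A B := by
  by_contra hno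
  push Not at hno
  exact hA ⟨hAS, fun B => ⟨fun h => hno B h.2.1 h.2.2, fun h => hno B h.1 (RankOnePair_symm h.2.2)⟩⟩

theorem not_isolated (hA : A ∈ S) (hB : B ∈ S) (h : IsRankOnePair A B) : ¬ IsIsolatedIn (FAdj S) S A :=
  fun hi => (hi.2 B).1 ⟨hA, hB, h⟩

theorem not_isolated_conj (hS : IsRootSubgroupSet S) (hA : ¬ IsIsolatedIn (FAdj S) S A) (hAS : A ∈ S) (g : G) :
    ¬ IsIsolatedIn (FAdj S) S (conjBy A g) := by
  obtain ⟨B, hB, h⟩ := exists_partner_of_not_isolated hA hAS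
  exact not_isolated (hS.conj_mem A hAS g) (hS.conj_mem B hB g) (isRankOnePair_conjBy h g)

theorem eq_of_mem_mem (hS : IsRootSubgroupSet S) (hA : ¬ IsIsolatedIn (FAdj S) S A) (hAS : A ∈ S) (hB : B ∈ S)
    {x : G} (hxA : x ∈ A) (hxB : x ∈ B) (hx : x ≠ 1) : A = B := by
  refine (Cfsg.Agent.S5028.result hS hA hAS B hB).resolve_left fun e => hx ?_
  rw [← Subgroup.mem_bot, ← e]
  exact ⟨hxA, hxB⟩

theorem conjBy_le_sup (A B : Subgroup G) {b : G} (hb : b ∈ B) : conjBy A b ≤ A ⊔ ⁅A, B⁆ := by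
  rintro _ ⟨a, ha, rfl⟩
  show b * a * b⁻¹ ∈ _
  rw [show b * a * b⁻¹ = ⁅b, a⁆ * a by simp only [commutatorElement_def]; group]
  exact mul_mem (Subgroup.mem_sup_right (Subgroup.commutator_comm B A ▸ Subgroup.commutator_mem_commutator hb ha))
    (Subgroup.mem_sup_left ha)

theorem exists_mul_of_mem_sup (h : RootCommutatorCase S A B) {x : G} (hx : x ∈ A ⊔ ⁅A, B⁆) :
    ∃ a ∈ A, ∃ c ∈ ⁅A, B⁆, x = a * c := by
  rw [Subgroup.sup_eq_closure] at hx
  induction hx using Subgroup.closure_induction with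
  | mem x hx =>
    rcases hx with hx | hx
    · exact ⟨x, hx, 1, one_mem _, (mul_one x).symm⟩
    · exact ⟨1, one_mem _, x, hx, (one_mul x).symm⟩
  | one => exact ⟨1, one_mem _, 1, one_mem _, (mul_one 1).symm⟩
  | mul x y _ _ h1 h2 =>
    obtain ⟨a, ha, c, hc, rfl⟩ := h1
    obtain ⟨a', ha', c', hc', rfl⟩ := h2
    refine ⟨a * a', mul_mem ha ha', c * c', mul_mem hc hc', ?_⟩
    calc a * c * (a' * c') = a * (c * a') * c' := by group
      _ = a * (a' * c) * c' := by rw [h.2.1 c hc a' (Subgroup.mem_sup_left ha')]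
      _ = a * a' * (c * c') := by group
  | inv x _ h1 =>
    obtain ⟨a, ha, c, hc, rfl⟩ := h1
    refine ⟨a⁻¹, inv_mem ha, c⁻¹, inv_mem hc, ?_⟩
    rw [mul_inv_rev, h.2.1 c⁻¹ (inv_mem hc) a⁻¹ (Subgroup.mem_sup_left (inv_mem ha))]

/-- In the commutator case with a non-isolated first member, the first member meets the commutator trivially. -/
theorem rcc_fixed (hS : IsRootSubgroupSet S) (hA : ¬ IsIsolatedIn (FAdj S) S A) (hAS : A ∈ S)
    (h : RootCommutatorCase S A B) {a b : G} (ha : a ∈ A) (ha1 : a ≠ 1) (hb : b ∈ B) (e : a * b = b * a) : b = 1 := by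
  by_contra hb1
  have hne : A ≠ ⁅A, B⁆ := fun e' => hS.ne_bot _ h.1 (comm_eq_bot_of_commute fun x hx y hy =>
    h.2.1 x (e' ▸ hx) y (Subgroup.mem_sup_right hy))
  have hAb : conjBy A b = A := (eq_of_mem_mem hS hA hAS (hS.conj_mem A hAS b) ha
    (by rw [conjBy_mem_iff, mul_assoc, e, inv_mul_cancel_left]; exact ha) ha1).symm
  refine hS.ne_bot _ h.1 ?_
  rw [← h.2.2.2 b hb hb1, Subgroup.closure_eq_bot_iff]
  rintro _ ⟨x, hx, rfl⟩
  by_contra hx1
  refine hne (eq_of_mem_mem hS hA hAS h.1 ?_ (Subgroup.commutator_mem_commutator hx hb) hx1)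
  show x * b * x⁻¹ * b⁻¹ ∈ A
  rw [show x * b * x⁻¹ * b⁻¹ = x * (b * x⁻¹ * b⁻¹) by group]
  exact mul_mem hx (hAb ▸ conjBy_mem (inv_mem hx))

end CfsgLib.RootSub
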