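/-
Generic numerators: Euclid algorithms all of whose steps drop the degree by one.
-/
import Mathlib

set_option autoImplicit false

open Polynomial

namespace CfsgLib.RootSub.GenericPade

variable {k : Type*} [Field k]

/-- No combination `A r + B P` with `A` of degree `< a` has degree below `deg P - a`. -/
def Generic (P : k[X]) (a : ℕ) (r : k[X]) : Prop :=
  ∀ A B : k[X], A.degree < a → (A ≠ 0 ∨ B ≠ 0) → ((P.natDegree - a : ℕ) : WithBot ℕ) ≤ (A * r + B * P).degree

/-- The top coefficients of the remainders of `X ^ j * r`. -/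
noncomputable def padeMat (P : k[X]) (a : ℕ) (r : k[X]) : Matrix (Fin a) (Fin a) k :=
  Matrix.of fun i j => ((X ^ (j : ℕ) * r) %ₘ P).coeff (P.natDegree - a + i)

theorem padeMat_mulVec {P : k[X]} (a : ℕ) (r : k[X]) (v : Fin a → k) (i : Fin a) :
    (padeMat P a r).mulVec v i = (((∑ j, C (v j) * X ^ (j : ℕ)) * r) %ₘ P).coeff (P.natDegree - a + i) := by
  have h : ((∑ j, C (v j) * X ^ (j : ℕ)) * r) %ₘ P = ∑ j, v j • ((X ^ (j : ℕ) * r) %ₘ P) := by
    rw [Finset.sum_mul]
    show modByMonicHom P _ = _
    rw [map_sum]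
    refine Finset.sum_congr rfl fun j _ => ?_
    rw [mul_assoc, ← smul_eq_C_mul, map_smul]
    rfl
  rw [h, finsetSum_coeff]
  simp [padeMat, Matrix.mulVec, dotProduct, mul_comm]

theorem generic_iff {P : k[X]} (hP : P.Monic) {a : ℕ} (ha : a ≤ P.natDegree) (r : k[X]) :
    Generic P a r ↔ (padeMat P a r).det ≠ 0 := by
  have hPd : P.degree = (P.natDegree : WithBot ℕ) := degree_eq_natDegree hP.ne_zero
  constructor
  · intro h hdet
    obtain ⟨v, hv0, hv⟩ := Matrix.exists_mulVec_eq_zero_iff.mpr hdet
    set A : k[X] := ∑ j, C (v j) * X ^ (j : ℕ) with hA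
    have hAd : A.degree < a := degree_sum_fin_lt v
    have hA0 : A ≠ 0 := fun e => hv0 (funext fun j => by
      have := congrArg (fun p => p.coeff (j : ℕ)) e
      simpa [A, finsetSum_coeff, coeff_C_mul_X_pow, Fin.val_inj] using this)
    have h' := h A (-((A * r) /ₘ P)) hAd (Or.inl hA0)
    rw [show A * r + -((A * r) /ₘ P) * P = (A * r) %ₘ P by
      linear_combination -(modByMonic_add_div (A * r) P)] at h'
    refine absurd h' (not_le.mpr ?_)
    rw [degree_lt_iff_coeff_zero]
    intro m hm
    by_cases hm' : m < P.natDegree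
    · have e := congrFun hv ⟨m - (P.natDegree - a), by omega⟩
      rw [padeMat_mulVec] at e
      simp only [Pi.zero_apply] at e
      rwa [show P.natDegree - a + (m - (P.natDegree - a)) = m by omega, ← hA] at e
    · refine coeff_eq_zero_of_degree_lt ((degree_modByMonic_lt _ hP).trans_le ?_)
      rw [hPd]; exact_mod_cast (by omega : P.natDegree ≤ m)
  · intro hdet A B hA hne
    by_contra hlt
    rw [not_le] at hlt
    have hlt' : (A * r + B * P).degree < P.degree := hlt.trans_le (by rw [hPd]; exact_mod_cast Nat.sub_le _ _)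
    have hmod : (A * r) %ₘ P = A * r + B * P :=
      (div_modByMonic_unique (-B) (A * r + B * P) hP ⟨by ring, hlt'⟩).2
    have hsum : (∑ j : Fin a, C (A.coeff j) * X ^ (j : ℕ)) = A := by
      ext m
      simp only [finsetSum_coeff, coeff_C_mul_X_pow]
      by_cases hm : m < a
      · rw [Finset.sum_eq_single (⟨m, hm⟩ : Fin a) (fun j _ hj => if_neg (fun e => hj (Fin.ext e.symm)))
          (fun hn => absurd (Finset.mem_univ _) hn), if_pos rfl]
      · rw [Finset.sum_eq_zero fun (j : Fin a) _ => if_neg (by omega)]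
        exact (coeff_eq_zero_of_degree_lt (hA.trans_le (by exact_mod_cast (by omega : a ≤ m)))).symm
    have hv : (padeMat P a r).mulVec (fun j => A.coeff j) = 0 := funext fun i => by
      rw [padeMat_mulVec, hsum, hmod, Pi.zero_apply]
      exact coeff_eq_zero_of_degree_lt (hlt.trans_le (by exact_mod_cast Nat.le_add_right _ _))
    have h0 := Matrix.eq_zero_of_mulVec_eq_zero hdet hv
    have hA0 : A = 0 := by
      rw [← hsum]
      exact Finset.sum_eq_zero fun j _ => by rw [show A.coeff j = 0 from congrFun h0 j, map_zero, zero_mul]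
    rcases hne with h | h
    · exact h hA0
    · rw [hA0, zero_mul, zero_add, degree_mul, hPd, degree_eq_natDegree h] at hlt'
      have : B.natDegree + P.natDegree < P.natDegree := by exact_mod_cast hlt'
      omega

/-- A witness for one condition. -/
theorem exists_generic {P : k[X]} (hP : P.Monic) {a : ℕ} (ha : a ≤ P.natDegree) :
    Generic P a (P /ₘ X ^ a) := by
  intro A B hA hne
  set r := P /ₘ X ^ a with hr
  set e := P %ₘ X ^ a with he
  have hX : (X ^ a : k[X]).Monic := monic_X_pow a
  have hPe : P = X ^ a * r + e := by rw [hr, he]; linear_combination -(modByMonic_add_div P (X ^ a))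
  have hrd : r.natDegree = P.natDegree - a := by rw [hr, natDegree_divByMonic _ hX, natDegree_X_pow]
  have hed : e.degree < a := (degree_modByMonic_lt _ hX).trans_le (by rw [degree_X_pow])
  have hr0 : r ≠ 0 := fun h0 => by
    rw [h0, mul_zero, zero_add] at hPe
    rw [← hPe, degree_eq_natDegree hP.ne_zero] at hed
    exact absurd (by exact_mod_cast hed : P.natDegree < a) (by omega)
  have hrd' : r.degree = ((P.natDegree - a : ℕ) : WithBot ℕ) := by rw [degree_eq_natDegree hr0, hrd]
  have hsplit : A * r + B * P = r * (A + B * X ^ a) + B * e := by linear_combination B * hPe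
  rw [hsplit]
  by_cases hB : B = 0
  · subst hB
    have hA0 : A ≠ 0 := hne.resolve_right (by simp)
    rw [zero_mul, zero_mul, add_zero, add_zero, degree_mul, hrd', degree_eq_natDegree hA0]
    exact_mod_cast Nat.le_add_right _ _
  have hBd : (B * X ^ a).degree = ((B.natDegree + a : ℕ) : WithBot ℕ) := by
    rw [degree_mul, degree_X_pow, degree_eq_natDegree hB]; norm_cast
  have hsum : (A + B * X ^ a).degree = ((B.natDegree + a : ℕ) : WithBot ℕ) := by
    rw [degree_add_eq_right_of_degree_lt (by rw [hBd]; exact hA.trans_le (by exact_mod_cast Nat.le_add_left _ _)), hBd]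
  have hmain : (r * (A + B * X ^ a)).degree = ((P.natDegree + B.natDegree : ℕ) : WithBot ℕ) := by
    rw [degree_mul, hrd', hsum, ← Nat.cast_add]; congr 1; omega
  have hlt : (B * e).degree < (r * (A + B * X ^ a)).degree := by
    rw [hmain]
    by_cases he0 : e = 0
    · rw [he0, mul_zero, degree_zero]; exact WithBot.bot_lt_coe _
    · rw [degree_eq_natDegree he0] at hed
      have : e.natDegree < a := by exact_mod_cast hed
      rw [degree_mul, degree_eq_natDegree he0, degree_eq_natDegree hB]
      exact_mod_cast (by omega : B.natDegree + e.natDegree < P.natDegree + B.natDegree)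
  rw [degree_add_eq_left_of_degree_lt hlt, hmain]
  exact_mod_cast (by omega : P.natDegree - a ≤ P.natDegree + B.natDegree)

/-- The condition along a line. -/
noncomputable def linePoly (P : k[X]) (a : ℕ) (r e : k[X]) : k[X] :=
  Matrix.det (Matrix.of fun i j => C (padeMat P a r i j) + X * C (padeMat P a e i j))

theorem eval_linePoly (P : k[X]) (a : ℕ) (r e : k[X]) (s : k) :
    (linePoly P a r e).eval s = (padeMat P a (r + s • e)).det := by
  rw [linePoly, ← coe_evalRingHom, RingHom.map_det]
  congr 1
  ext i j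
  simp only [RingHom.mapMatrix_apply, Matrix.map_apply, Matrix.of_apply, padeMat, coe_evalRingHom, eval_add, eval_mul,
    eval_C, eval_X, mul_add, mul_smul_comm, add_modByMonic, smul_modByMonic, coeff_add, coeff_smul, smul_eq_mul]

theorem exists_common [Infinite k] {ι : Type*} (S : Finset ι) (P : ι → k[X]) (a : ι → ℕ) (n : ℕ)
    (hP : ∀ i ∈ S, (P i).Monic) (ha : ∀ i ∈ S, a i ≤ (P i).natDegree) (hn : ∀ i ∈ S, (P i).natDegree ≤ n + a i) :
    ∃ r : k[X], r.natDegree ≤ n ∧ ∀ i ∈ S, Generic (P i) (a i) r := by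
  classical
  induction S using Finset.induction with
  | empty => exact ⟨0, by simp, by simp⟩
  | @insert x T hx ih =>
    obtain ⟨r₁, hr₁, h₁⟩ := ih (fun i hi => hP i (Finset.mem_insert_of_mem hi)) (fun i hi => ha i (Finset.mem_insert_of_mem hi))
      (fun i hi => hn i (Finset.mem_insert_of_mem hi))
    have hxS := Finset.mem_insert_self x T
    set r₂ := P x /ₘ X ^ a x with hr₂def
    have h₂ : Generic (P x) (a x) r₂ := exists_generic (hP x hxS) (ha x hxS)
    have hr₂ : r₂.natDegree ≤ n := by
      rw [hr₂def, natDegree_divByMonic _ (monic_X_pow _), natDegree_X_pow]; have := hn x hxS; omega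
    set Q := linePoly (P x) (a x) r₁ (r₂ - r₁) * ∏ i ∈ T, linePoly (P i) (a i) r₁ (r₂ - r₁) with hQ
    have hQ0 : Q ≠ 0 := by
      refine mul_ne_zero (fun e => ?_) (Finset.prod_ne_zero_iff.mpr fun i hi e => ?_)
      · have := congrArg (eval 1) e
        rw [eval_linePoly, one_smul, add_sub_cancel, eval_zero] at this
        exact (generic_iff (hP x hxS) (ha x hxS) _).mp h₂ this
      · have := congrArg (eval 0) e
        rw [eval_linePoly, zero_smul, add_zero, eval_zero] at this
        exact (generic_iff (hP i (Finset.mem_insert_of_mem hi)) (ha i (Finset.mem_insert_of_mem hi)) _).mp (h₁ i hi) this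
    obtain ⟨s, hs⟩ := exists_eval_ne_zero_of_natDegree_lt_card Q hQ0 ((Cardinal.natCast_lt_aleph0).trans_le (Cardinal.aleph0_le_mk k))
    rw [hQ, eval_mul, mul_ne_zero_iff, eval_prod, Finset.prod_ne_zero_iff] at hs
    refine ⟨r₁ + s • (r₂ - r₁), ?_, fun i hi => ?_⟩
    · refine natDegree_add_le_of_degree_le hr₁ ((natDegree_smul_le _ _).trans (natDegree_sub_le_of_le hr₂ hr₁) |>.trans (by simp))
    · rw [generic_iff (hP i hi) (ha i hi), ← eval_linePoly]
      rcases Finset.mem_insert.mp hi with rfl | hi
      · exact hs.1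
      · exact hs.2 i hi

/-- Closure properties of the set of reachable vectors. -/
theorem reach {K : Type*} [Field K] [Algebra k K] (α : K) (f : k[X]) (hfm : f.Monic) (hf : aeval α f = 0)
    (r₀ : k[X]) (hr₀ : r₀.natDegree ≤ f.natDegree) (hg1 : ∀ a ≤ f.natDegree, Generic f a r₀)
    (hg2 : ∀ a ≤ f.natDegree, Generic (X * f) (a + 1) r₀) (V : K → K → Prop)
    (h0 : ∀ c : k, c ≠ 0 → V (algebraMap k K c) 0)
    (hup : ∀ r q, ∀ c : k, V r q → V (r + algebraMap k K c * q) q)
    (hlo : ∀ r q, ∀ c : k, V r q → V r (q + algebraMap k K c * α * r))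
    (hsc : ∀ r q, ∀ u w : k, u ≠ 0 → w ≠ 0 → V r q → V (algebraMap k K u * r) (algebraMap k K w * q)) :
    V (aeval α r₀) 0 := by
  set n := f.natDegree with hn
  have hXf : (X * f).natDegree = n + 1 := by rw [natDegree_X_mul hfm.ne_zero]
  suffices key : ∀ m i, i + m = n → ∀ r qb A₁ B₁ A₂ B₂ : k[X], r = A₁ * r₀ + B₁ * (X * f) → qb = A₂ * r₀ + B₂ * f →
      A₁.degree < (i + 1 : ℕ) → A₂.degree < (i : ℕ) → A₁ * B₂ - B₁ * (X * A₂) ≠ 0 → r.natDegree ≤ m → qb.natDegree ≤ m →
      V (aeval α r) (α * aeval α qb) by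
    have := key n 0 (zero_add n) r₀ f 1 0 0 1 (by ring) (by ring) (by simp) (by simp [WithBot.bot_lt_coe]) (by simp) hr₀ le_rfl
    rwa [hf, mul_zero] at this
  intro m
  induction m with
  | zero =>
    intro i hi r qb A₁ B₁ A₂ B₂ hr hq hA₁ hA₂ hD hrd hqd
    have hne : r ≠ 0 := fun e => by
      have := hg2 i (by omega) A₁ B₁ hA₁ (by
        by_contra h
        push_neg at h
        exact hD (by rw [h.1, h.2]; ring))
      rw [← hr, e, degree_zero] at this
      exact absurd (le_bot_iff.mp this) (WithBot.coe_ne_bot)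
    rw [eq_C_of_natDegree_le_zero hrd] at hne ⊢
    rw [eq_C_of_natDegree_le_zero hqd]
    have hc : r.coeff 0 ≠ 0 := fun e => hne (by rw [e, map_zero])
    have := hlo _ _ (qb.coeff 0 / r.coeff 0) (h0 _ hc)
    rw [map_div₀, zero_add] at this
    have hc' : algebraMap k K (r.coeff 0) ≠ 0 := by simpa using hc
    rw [aeval_C, aeval_C]
    convert this using 1
    field_simp
  | succ m ih =>
    intro i hi r qb A₁ B₁ A₂ B₂ hr hq hA₁ hA₂ hD hrd hqd
    have hpair1 : A₁ ≠ 0 ∨ B₁ ≠ 0 := by
      by_contra h
      push_neg at h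
      exact hD (by rw [h.1, h.2]; ring)
    have hu : r.coeff (m + 1) ≠ 0 := fun e => by
      have := hg2 i (by omega) A₁ B₁ hA₁ hpair1
      rw [← hr, hXf, show n + 1 - (i + 1) = m + 1 by omega] at this
      refine absurd this (not_le.mpr ((degree_lt_iff_coeff_zero _ _).mpr fun j hj => ?_))
      rcases Nat.eq_or_lt_of_le hj with h | h
      · rw [← h]; exact e
      · exact coeff_eq_zero_of_natDegree_lt (by omega)
    have hw : qb.coeff (m + 1) ≠ 0 := fun e => by
      have := hg1 i (by omega) A₂ B₂ hA₂ (by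
        by_contra h
        push_neg at h
        exact hD (by rw [h.1, h.2]; ring))
      rw [← hq, ← hn, show n - i = m + 1 by omega] at this
      refine absurd this (not_le.mpr ((degree_lt_iff_coeff_zero _ _).mpr fun j hj => ?_))
      rcases Nat.eq_or_lt_of_le hj with h | h
      · rw [← h]; exact e
      · exact coeff_eq_zero_of_natDegree_lt (by omega)
    set u := r.coeff (m + 1) with hudef
    set w := qb.coeff (m + 1) with hwdef
    set qb' := C u * qb - C w * r with hqb'
    set A₂' := C u * A₂ - C w * A₁ with hA₂'def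
    set B₂' := C u * B₂ - C w * (X * B₁) with hB₂'def
    have hq' : qb' = A₂' * r₀ + B₂' * f := by rw [hqb', hr, hq, hA₂'def, hB₂'def]; ring
    have hA₂' : A₂'.degree < (i + 1 : ℕ) := by
      refine (degree_sub_le _ _).trans_lt (max_lt ?_ ?_)
      · exact ((degree_C_mul (show u ≠ 0 from hu)).trans_lt hA₂).trans_le (by exact_mod_cast Nat.le_succ i)
      · exact (degree_C_mul (show w ≠ 0 from hw)).trans_lt hA₁
    have hD' : A₁ * B₂' - B₁ * (X * A₂') ≠ 0 := by
      rw [show A₁ * B₂' - B₁ * (X * A₂') = C u * (A₁ * B₂ - B₁ * (X * A₂)) by rw [hA₂'def, hB₂'def]; ring]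
      exact mul_ne_zero (by simpa using hu) hD
    have hqd' : qb'.natDegree ≤ m := by
      rw [natDegree_le_iff_coeff_eq_zero]
      intro j hj
      rw [hqb', coeff_sub, coeff_C_mul, coeff_C_mul]
      rcases Nat.eq_or_lt_of_le (show m + 1 ≤ j by omega) with h | h
      · rw [← h, ← hudef, ← hwdef, mul_comm, sub_self]
      · rw [coeff_eq_zero_of_natDegree_lt (show qb.natDegree < j by omega),
          coeff_eq_zero_of_natDegree_lt (show r.natDegree < j by omega), mul_zero, mul_zero, sub_zero]
    have hu' : qb'.coeff m ≠ 0 := fun e => by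
      have := hg1 (i + 1) (by omega) A₂' B₂' hA₂' (by
        by_contra h
        push_neg at h
        exact hD' (by rw [h.1, h.2]; ring))
      rw [← hq', ← hn, show n - (i + 1) = m by omega] at this
      refine absurd this (not_le.mpr ((degree_lt_iff_coeff_zero _ _).mpr fun j hj => ?_))
      rcases Nat.eq_or_lt_of_le hj with h | h
      · rw [← h]; exact e
      · exact coeff_eq_zero_of_natDegree_lt (by omega)
    set u' := qb'.coeff m with hu'def
    set r' := C u' * r - C u * (X * qb') with hr'def
    set A₁' := C u' * A₁ - C u * (X * A₂') with hA₁'def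
    set B₁' := C u' * B₁ - C u * B₂' with hB₁'def
    have hr' : r' = A₁' * r₀ + B₁' * (X * f) := by rw [hr'def, hq', hr, hA₁'def, hB₁'def]; ring
    have hA₁' : A₁'.degree < (i + 1 + 1 : ℕ) := by
      refine (degree_sub_le _ _).trans_lt (max_lt ?_ ?_)
      · exact ((degree_C_mul (show u' ≠ 0 from hu')).trans_lt hA₁).trans_le (by exact_mod_cast Nat.le_succ (i + 1))
      · rw [degree_C_mul (show u ≠ 0 from hu)]
        by_cases hz : A₂' = 0
        · rw [hz, mul_zero, degree_zero]; exact WithBot.bot_lt_coe _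
        · rw [degree_mul, degree_X, degree_eq_natDegree hz]
          rw [degree_eq_natDegree hz] at hA₂'
          have : A₂'.natDegree < i + 1 := by exact_mod_cast hA₂'
          exact_mod_cast (by omega : 1 + A₂'.natDegree < i + 1 + 1)
    have hD'' : A₁' * B₂' - B₁' * (X * A₂') ≠ 0 := by
      rw [show A₁' * B₂' - B₁' * (X * A₂') = C u' * (A₁ * B₂' - B₁ * (X * A₂')) by rw [hA₁'def, hB₁'def]; ring]
      exact mul_ne_zero (by simpa using hu') hD'
    have hrd' : r'.natDegree ≤ m := by
      rw [natDegree_le_iff_coeff_eq_zero]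
      intro j hj
      obtain ⟨j, rfl⟩ : ∃ j', j = j' + 1 := ⟨j - 1, by omega⟩
      rw [hr'def, coeff_sub, coeff_C_mul, coeff_C_mul, coeff_X_mul]
      rcases Nat.eq_or_lt_of_le (show m ≤ j by omega) with h | h
      · rw [← h, ← hudef, ← hu'def, mul_comm, sub_self]
      · rw [coeff_eq_zero_of_natDegree_lt (show r.natDegree < j + 1 by omega),
          coeff_eq_zero_of_natDegree_lt (show qb'.natDegree < j by omega), mul_zero, mul_zero, sub_zero]
    have hind := ih (i + 1) (by omega) r' qb' A₁' B₁' A₂' B₂' hr' hq' hA₁' hA₂' hD'' hrd' hqd'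
    have e₁ := hup _ _ u hind
    have e₂ := hsc _ _ u'⁻¹ 1 (inv_ne_zero hu') one_ne_zero e₁
    have hu'K : algebraMap k K u' ≠ 0 := by simpa using hu'
    have huK : algebraMap k K u ≠ 0 := by simpa using hu
    rw [show algebraMap k K u'⁻¹ * (aeval α r' + algebraMap k K u * (α * aeval α qb')) = aeval α r by
      rw [hr'def]; simp only [map_sub, map_mul, aeval_C, aeval_X, map_inv₀]; field_simp; ring, map_one, one_mul] at e₂
    have e₃ := hsc _ _ 1 u⁻¹ one_ne_zero (inv_ne_zero hu) (hlo _ _ w e₂)
    rw [map_one, one_mul, show algebraMap k K u⁻¹ * (α * aeval α qb' + algebraMap k K w * α * aeval α r) =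
      α * aeval α qb by rw [hqb']; simp only [map_sub, map_mul, aeval_C, map_inv₀]; field_simp; ring] at e₃
    exact e₃

end CfsgLib.RootSub.GenericPade
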