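import Mathlib
import Cfsg.Agent.Lib.RootSub.CommCase
import Cfsg.Agent.S5029

/-!
Lines of abstract root subgroups and an opposite member.
-/

set_option autoImplicit false

namespace CfsgLib.RootSub.SubFlip

open Cfsg
open scoped commutatorElement

universe u
variable {G : Type u} [Group G] {S : Set (Subgroup G)}

/-- A line through two members opposite to `A` has a member not opposite to `A`. -/
theorem line_lemma (hS : Cfsg.IsRootSubgroupSet S) {A P Q : Subgroup G} (hAP : Cfsg.IsRankOnePair A P)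
    (hAQ : Cfsg.IsRankOnePair A Q) (hPQ : ∀ p ∈ P, ∀ q ∈ Q, p * q = q * p) (hd : P ⊓ Q = ⊥)
    (hpart : Cfsg.IsSubgroupPartition (P ⊔ Q) (Cfsg.membersIn S (P ⊔ Q)))
    (hall : ∀ R ∈ Cfsg.membersIn S (P ⊔ Q), Cfsg.IsRankOnePair A R) : False := by
  obtain ⟨⟨a, ha⟩, ha1⟩ := Subgroup.ne_bot_iff_exists_ne_one.mp (CfsgLib.RootSub.ne_bot_left hAP)
  have ha' : a ≠ 1 := fun e => ha1 (Subtype.ext e)
  obtain ⟨p, hp, hp1, ep⟩ := hAP.cond_left a ha ha'
  obtain ⟨q, hq, hq1, eq'⟩ := hAQ.cond_left a ha ha'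
  set x := q * p⁻¹ with hx
  have hxPQ : x ∈ P ⊔ Q := mul_mem (Subgroup.mem_sup_right hq) (Subgroup.mem_sup_left (inv_mem hp))
  have hx1 : x ≠ 1 := fun e => by
    rw [hx, mul_inv_eq_one] at e
    have : p ∈ P ⊓ Q := ⟨hp, e ▸ hq⟩
    rw [hd, Subgroup.mem_bot] at this
    exact hp1 this
  obtain ⟨R, hR, hxR⟩ := hpart.2.1 x hxPQ hx1
  have hAR := hall R hR
  obtain ⟨⟨c, hc⟩, hc1⟩ := Subgroup.ne_bot_iff_exists_ne_one.mp (CfsgLib.RootSub.ne_bot_left hAP)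
  have hc' : c ≠ 1 := fun e => hc1 (Subtype.ext e)
  have hcomm : ∀ r ∈ Cfsg.conjBy A p⁻¹, ∀ s ∈ Cfsg.conjBy A q⁻¹, r * s = s * r := by
    rw [ep, eq']
    rintro _ ⟨r, hr, rfl⟩ _ ⟨s, hs, rfl⟩
    rw [← map_mul, ← map_mul, hPQ r hr s hs]
  have key : ∀ c' ∈ A, (x * c * x⁻¹) * c' = c' * (x * c * x⁻¹) := by
    intro c' hc'
    have e := hcomm _ (CfsgLib.RootSub.conjBy_mem hc) _ (CfsgLib.RootSub.conjBy_mem hc')
    rw [inv_inv, inv_inv] at e
    calc x * c * x⁻¹ * c' = q * ((p⁻¹ * c * p) * (q⁻¹ * c' * q)) * q⁻¹ := by rw [hx]; group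
      _ = c' * (x * c * x⁻¹) := by rw [e, hx]; group
  have h2 := CfsgLib.RootSub.eq_of_unipotent_commute hAR
    (CfsgLib.RootSub.conjBy_mem_unipotent (Subgroup.mem_sup_right hxR) CfsgLib.RootSub.left_mem_unipotent)
    (CfsgLib.RootSub.conjBy_mem hc) (fun e => hc' (by
      rw [mul_inv_eq_one] at e
      exact mul_left_cancel (e.trans (mul_one x).symm))) key
  exact hx1 (CfsgLib.RootSub.eq_one_of_normalizes (Cfsg.RankOnePair_symm hAR) hxR (CfsgLib.RootSub.conjBy_eq_self_iff.mp h2.symm))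

/-- Centralizing translates of root elements. -/
theorem translate (hS : Cfsg.IsRootSubgroupSet S) {A A' R : Subgroup G} (hA : A ∈ S) (hA' : A' ∈ S)
    (hp : Cfsg.IsRankOnePair A A') (hR : R ∈ S) {z a : G} (hzA : ∀ x ∈ A, z * x = x * z)
    (hzA' : ∀ x ∈ A', z * x = x * z) (hz1 : z ≠ 1) (ha : a ∈ A) (ha1 : a ≠ 1) (hR' : z * a ∈ R)
    (hne : z * a ≠ 1) : False := by
  have hz : z ∈ Subgroup.centralizer ((A ⊔ A' : Subgroup G) : Set G) := by
    rw [Subgroup.mem_centralizer_iff]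
    intro x hx
    have hle : A ⊔ A' ≤ Subgroup.centralizer ({z} : Set G) := sup_le
      (fun y hy => Subgroup.mem_centralizer_singleton_iff.mpr (hzA y hy).symm)
      (fun y hy => Subgroup.mem_centralizer_singleton_iff.mpr (hzA' y hy).symm)
    exact Subgroup.mem_centralizer_singleton_iff.mp (hle hx)
  exact Cfsg.Agent.S5025.result hS hA ⟨hA', hp⟩ hz hz1 a ha ha1 ⟨hne, R, hR, hR'⟩

theorem flip_eq (hS : Cfsg.IsRootSubgroupSet S) {A B A' : Subgroup G} (hA : A ∈ S) (hB : B ∈ S)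
    (hA' : A' ∈ S) (hp : Cfsg.IsRankOnePair A A') (hcom : ∀ x ∈ A, ∀ y ∈ B, x * y = y * x)
    (hBni : ¬ Cfsg.IsIsolatedIn (Cfsg.FAdj S) S B) (h : Cfsg.RootCommutatorCase S B A')
    (hroot : ∀ a ∈ A, a ≠ 1 → ∀ b ∈ B, b ≠ 1 → a * b ≠ 1 ∧ ∃ R ∈ S, a * b ∈ R) :
    ⁅A, ⁅A', B⁆⁆ = B ∧ Cfsg.RootCommutatorCase S A ⁅A', B⁆ := by
  have hAni := CfsgLib.RootSub.not_isolated hA hA' hp
  have hA'ni := CfsgLib.RootSub.not_isolated hA' hA (Cfsg.RankOnePair_symm hp)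
  obtain ⟨⟨a, ha⟩, ha0⟩ := Subgroup.ne_bot_iff_exists_ne_one.mp (hS.ne_bot A hA)
  have ha1 : a ≠ 1 := fun e => ha0 (Subtype.ext e)
  obtain ⟨⟨b, hb⟩, hb0⟩ := Subgroup.ne_bot_iff_exists_ne_one.mp (hS.ne_bot B hB)
  have hb1 : b ≠ 1 := fun e => hb0 (Subtype.ext e)
  have h₁ := CfsgLib.RootSub.rcc_symm h
  set C := ⁅A', B⁆ with hCdef
  have hC : C ∈ S := h₁.1
  have hCc : ∀ g ∈ C, ∀ x ∈ A' ⊔ B, g * x = x * g := h₁.2.1
  -- no non-identity element of `C` centralizes `A`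
  have hCA : ∀ g ∈ C, (∀ x ∈ A, g * x = x * g) → g = 1 := by
    intro g hg hgA
    by_contra hg1
    obtain ⟨⟨u, hu⟩, hu1⟩ := Subgroup.ne_bot_iff_exists_ne_one.mp (hS.ne_bot A' hA')
    have hu' : u ≠ 1 := fun e => hu1 (Subtype.ext e)
    obtain ⟨y, hy, ey⟩ := CfsgLib.RootSub.rcc_conj h₁ hu hu' hg
    have hgu : g * u = y * u * y⁻¹ := by rw [ey, hCc g hg u (Subgroup.mem_sup_left hu)]
    refine translate hS hA' hA (Cfsg.RankOnePair_symm hp) (hS.conj_mem A' hA' y)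
      (fun x hx => hCc g hg x (Subgroup.mem_sup_left hx)) hgA hg1 hu hu' (hgu ▸ CfsgLib.RootSub.conjBy_mem hu) ?_
    rw [hgu]
    exact fun e => hu' (by rw [mul_inv_eq_one] at e; exact mul_left_cancel (e.trans (mul_one y).symm))
  have hCA' : ∀ y ∈ B, Cfsg.conjBy A y = A := fun y hy => by
    rw [CfsgLib.RootSub.conjBy_eq_self_iff]
    exact CfsgLib.RootSub.mem_normalizer_of_commute_all fun x hx => (hcom x hx y hy).symm
  obtain ⟨hset, hpart, -, -⟩ := Cfsg.Agent.S5029.result hS hA'ni hA' hB hC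
  have hdA'C : A' ⊓ C = ⊥ := (Cfsg.Agent.S5028.result hS hA'ni hA' C hC).resolve_right fun e =>
    hS.ne_bot C hC (CfsgLib.RootSub.comm_eq_bot_of_commute fun x hx y hy =>
      hCc x ((SetLike.ext_iff.mp e x).mp hx) y (Subgroup.mem_sup_right hy))
  have h₂ : Cfsg.RootCommutatorCase S A C := by
    rcases hS.pair A hA C hC with h' | h' | h'
    · obtain ⟨⟨g, hg⟩, hg1⟩ := Subgroup.ne_bot_iff_exists_ne_one.mp (hS.ne_bot C hC)
      exact absurd (Subtype.ext (hCA g hg fun x hx => (CfsgLib.RootSub.commute_of_comm_eq_bot h' hx hg).symm)) hg1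
    · exfalso
      refine line_lemma hS hp h' (fun x hx y hy => (hCc y hy x (Subgroup.mem_sup_left hx)).symm) hdA'C hpart fun R hR => ?_
      rw [hset] at hR
      rcases hR with ⟨y, hy, rfl⟩ | rfl
      · have := CfsgLib.RootSub.isRankOnePair_conjBy hp y
        rwa [hCA' y hy] at this
      · exact h'
    · exact h'
  set K := ⁅A, C⁆ with hKdef
  have hK : K ∈ S := h₂.1
  have hKc : ∀ k ∈ K, ∀ x ∈ A ⊔ C, k * x = x * k := h₂.2.1
  have hKA' : ∀ k ∈ K, (∀ x ∈ A', k * x = x * k) → k = 1 := by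
    intro k hk hkA'
    by_contra hk1
    obtain ⟨y, hy, ey⟩ := CfsgLib.RootSub.rcc_conj h₂ ha ha1 hk
    have hka : k * a = y * a * y⁻¹ := by rw [ey, hKc k hk a (Subgroup.mem_sup_left ha)]
    refine translate hS hA hA' hp (hS.conj_mem A hA y)
      (fun x hx => hKc k hk x (Subgroup.mem_sup_left hx)) hkA' hk1 ha ha1 (hka ▸ CfsgLib.RootSub.conjBy_mem ha) ?_
    rw [hka]
    exact fun e => ha1 (by rw [mul_inv_eq_one] at e; exact mul_left_cancel (e.trans (mul_one y).symm))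
  obtain ⟨hset', hpart', -, -⟩ := Cfsg.Agent.S5029.result hS hAni hA hC hK
  have hAgA' : ∀ g ∈ C, Cfsg.IsRankOnePair (Cfsg.conjBy A g) A' := by
    intro g hg
    have := CfsgLib.RootSub.isRankOnePair_conjBy hp g
    rwa [CfsgLib.RootSub.conjBy_eq_self_iff.mpr
      (CfsgLib.RootSub.mem_normalizer_of_commute_all (fun x hx => hCc g hg x (Subgroup.mem_sup_left hx)))] at this
  have hdAK : A ⊓ K = ⊥ := (Cfsg.Agent.S5028.result hS hAni hA K hK).resolve_right fun e =>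
    hS.ne_bot K hK (CfsgLib.RootSub.comm_eq_bot_of_commute fun x hx y hy =>
      hKc x ((SetLike.ext_iff.mp e x).mp hx) y (Subgroup.mem_sup_right hy))
  have h₃ : Cfsg.RootCommutatorCase S A' K := by
    rcases hS.pair A' hA' K hK with h' | h' | h'
    · obtain ⟨⟨k, hk⟩, hk1⟩ := Subgroup.ne_bot_iff_exists_ne_one.mp (hS.ne_bot K hK)
      exact absurd (Subtype.ext (hKA' k hk fun x hx => (CfsgLib.RootSub.commute_of_comm_eq_bot h' hx hk).symm)) hk1
    · exfalso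
      refine line_lemma hS (Cfsg.RankOnePair_symm hp) h' (fun x hx y hy => (hKc y hy x (Subgroup.mem_sup_left hx)).symm)
        hdAK hpart' fun R hR => ?_
      rw [hset'] at hR
      rcases hR with ⟨g, hg, rfl⟩ | rfl
      · exact Cfsg.RankOnePair_symm (hAgA' g hg)
      · exact h'
    · exact h'
  obtain ⟨⟨u, hu⟩, hu1⟩ := Subgroup.ne_bot_iff_exists_ne_one.mp (hS.ne_bot A' hA')
  have hu' : u ≠ 1 := fun e => hu1 (Subtype.ext e)
  obtain ⟨v, hv, -, ev⟩ := hp.cond_right u hu hu'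
  have hbw : ∀ w ∈ A', b * w * b⁻¹ * w⁻¹ ∈ C := fun w hw => by
    rw [hCdef, Subgroup.commutator_comm]
    exact Subgroup.commutator_mem_commutator hb hw
  have hle : C ≤ ⁅A', K⁆ := by
    show ⁅A', B⁆ ≤ _
    rw [← h₁.2.2.2 b hb hb1, Subgroup.closure_le]
    rintro _ ⟨w, hw, rfl⟩
    show w * b * w⁻¹ * b⁻¹ ∈ ⁅A', K⁆
    -- `v⁻¹ w v = u⁻¹ x u`
    have hmem : v⁻¹ * w * v ∈ Cfsg.conjBy A u⁻¹ := by
      rw [← ev]
      have h9 := CfsgLib.RootSub.conjBy_mem (g := v⁻¹) hw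
      rwa [inv_inv] at h9
    obtain ⟨x, hx, ex⟩ := hmem
    replace ex : v⁻¹ * w * v = u⁻¹ * x * u := by rw [← ex]; simp
    set g₀ := b * u * b⁻¹ * u⁻¹ with hg₀
    set g₂ := b * w * b⁻¹ * w⁻¹ with hg₂
    have hg₀C : g₀ ∈ C := hbw u hu
    have hg₂C : g₂ ∈ C := hbw w hw
    set k₀ := g₀⁻¹ * x * g₀ * x⁻¹ with hk₀
    have hk₀K : k₀ ∈ K := by
      have h9 : g₀⁻¹ * x * g₀⁻¹⁻¹ * x⁻¹ ∈ ⁅C, A⁆ := Subgroup.commutator_mem_commutator (inv_mem hg₀C) hx
      rw [inv_inv, Subgroup.commutator_comm] at h9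
      exact h9
    set k₂ := v⁻¹ * g₂ * v * g₂⁻¹ with hk₂
    have hk₂K : k₂ ∈ K := by
      have h9 : v⁻¹ * g₂ * v⁻¹⁻¹ * g₂⁻¹ ∈ ⁅A, C⁆ := Subgroup.commutator_mem_commutator (inv_mem hv) hg₂C
      rw [inv_inv] at h9
      exact h9
    have hbv : b * v = v * b := (hcom v hv b hb).symm
    have hbx : b * x = x * b := (hcom x hx b hb).symm
    have hug : g₀ * u = u * g₀ := hCc g₀ hg₀C u (Subgroup.mem_sup_left hu)
    have e1 : u⁻¹ * k₀ * u = k₂ * g₂ := by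
      have a1 : b * (v⁻¹ * w * v) * b⁻¹ = (k₂ * g₂) * (v⁻¹ * w * v) := by
        have hbv' : b * v⁻¹ = v⁻¹ * b := ((show Commute b v from hbv).inv_right).eq
        calc b * (v⁻¹ * w * v) * b⁻¹ = (b * v⁻¹) * w * (v * b⁻¹) := by group
          _ = v⁻¹ * b * w * (b⁻¹ * v) := by rw [hbv', ((show Commute b v from hbv).inv_left).eq]
          _ = (k₂ * g₂) * (v⁻¹ * w * v) := by rw [hk₂, hg₂]; group
      have a2 : b * (u⁻¹ * x * u) * b⁻¹ = (u⁻¹ * k₀ * u) * (u⁻¹ * x * u) := by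
        calc b * (u⁻¹ * x * u) * b⁻¹ = (b * u * b⁻¹)⁻¹ * (b * x * b⁻¹) * (b * u * b⁻¹) := by group
          _ = (g₀ * u)⁻¹ * x * (g₀ * u) := by rw [hbx, mul_inv_cancel_right, hg₀]; group
          _ = u⁻¹ * (g₀⁻¹ * x * g₀) * u := by group
          _ = (u⁻¹ * k₀ * u) * (u⁻¹ * x * u) := by rw [hk₀]; group
      rw [ex] at a1
      exact mul_right_cancel (a2.symm.trans a1)
    have hl : u⁻¹ * k₀ * u * k₀⁻¹ ∈ ⁅A', K⁆ := by
      have h9 : u⁻¹ * k₀ * u⁻¹⁻¹ * k₀⁻¹ ∈ ⁅A', K⁆ := Subgroup.commutator_mem_commutator (inv_mem hu) hk₀K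
      rwa [inv_inv] at h9
    have hkg : ∀ k ∈ K, ∀ g ∈ C, k * g = g * k := fun k hk g hg => hKc k hk g (Subgroup.mem_sup_right hg)
    have e2 : u⁻¹ * k₀ * u * k₀⁻¹ = (k₂ * k₀⁻¹) * g₂ := by
      rw [e1, mul_assoc k₂ g₂, ← hkg _ (inv_mem hk₀K) _ hg₂C, ← mul_assoc]
    have e3 : k₂ * k₀⁻¹ = 1 := by
      refine hKA' _ (mul_mem hk₂K (inv_mem hk₀K)) fun y hy => ?_
      have c1 : Commute ((k₂ * k₀⁻¹) * g₂) y := e2 ▸ h₃.2.1 _ hl y (Subgroup.mem_sup_left hy)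
      have c2 : Commute g₂ y := hCc g₂ hg₂C y (Subgroup.mem_sup_left hy)
      simpa using (c1.mul_left c2.inv_left).eq
    rw [e3, one_mul] at e2
    rw [show w * b * w⁻¹ * b⁻¹ = g₂⁻¹ by rw [hg₂]; group, ← e2]
    exact inv_mem hl
  -- a translate of `b` centralizing `A` and `A'`
  obtain ⟨k, hk, ek⟩ := CfsgLib.RootSub.rcc_surj h₃ hu hu' (hle (inv_mem (hbw u hu)))
  set z := k⁻¹ * b with hz
  have hzA : ∀ x ∈ A, z * x = x * z := fun x hx => by
    have c1 : Commute k⁻¹ x := (show Commute k x from hKc k hk x (Subgroup.mem_sup_left hx)).inv_left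
    exact (c1.mul_left (show Commute b x from (hcom x hx b hb).symm)).eq
  have hzu : z * u = u * z := by
    have e' : u * k * u⁻¹ * k⁻¹ = u * b * u⁻¹ * b⁻¹ := by rw [ek]; group
    have c1 : k * u⁻¹ * k⁻¹ = b * u⁻¹ * b⁻¹ := by
      calc k * u⁻¹ * k⁻¹ = u⁻¹ * (u * k * u⁻¹ * k⁻¹) := by group
        _ = b * u⁻¹ * b⁻¹ := by rw [e']; group
    have c2 : Commute z u⁻¹ := by
      show k⁻¹ * b * u⁻¹ = u⁻¹ * (k⁻¹ * b)
      calc k⁻¹ * b * u⁻¹ = k⁻¹ * (b * u⁻¹ * b⁻¹) * b := by group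
        _ = u⁻¹ * (k⁻¹ * b) := by rw [← c1]; group
    simpa using c2.inv_right.eq
  have hzA' : ∀ w ∈ A', z * w = w * z := by
    intro w hw
    have hmem : v⁻¹ * w * v ∈ Cfsg.conjBy A u⁻¹ := by
      rw [← ev]
      have h9 := CfsgLib.RootSub.conjBy_mem (g := v⁻¹) hw
      rwa [inv_inv] at h9
    obtain ⟨x, hx, ex⟩ := hmem
    replace ex : w = v * (u⁻¹ * x * u) * v⁻¹ := by
      rw [show u⁻¹ * x * u = (MulAut.conj u⁻¹).toMonoidHom x by simp, ex]; group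
    rw [ex]
    have cv : Commute z v := hzA v hv
    exact ((cv.mul_right ((((show Commute z u from hzu).inv_right).mul_right (hzA x hx)).mul_right hzu)).mul_right cv.inv_right).eq
  obtain ⟨g, hg, eg⟩ := CfsgLib.RootSub.rcc_conj h₂ ha ha1 hk
  have hab : a * b = z * (g * a * g⁻¹) := by
    rw [eg, hz]
    have c1 : Commute k a := hKc k hk a (Subgroup.mem_sup_left ha)
    have c2 : Commute b a := (hcom a ha b hb).symm
    have c3 : Commute b k := by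
      have hbA : Commute b a := c2
      have hbg : Commute b g := (show Commute g b from hCc g hg b (Subgroup.mem_sup_right hb)).symm
      have hb2 : Commute b (a * k) := eg ▸ ((hbg.mul_right hbA).mul_right hbg.inv_right)
      simpa using (hbA.inv_right.mul_right hb2)
    calc a * b = b * a := c2.eq.symm
      _ = k⁻¹ * (k * b) * a := by group
      _ = k⁻¹ * b * (k * a) := by rw [← c3.eq]; group
      _ = k⁻¹ * b * (a * k) := by rw [c1.eq]
  have hgz : Commute z g := by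
    have c1 : Commute k g := hKc k hk g (Subgroup.mem_sup_right hg)
    exact c1.inv_left.mul_left (show Commute g b from hCc g hg b (Subgroup.mem_sup_right hb)).symm
  have hga : g * a * g⁻¹ ≠ 1 := fun e => ha1 (by rw [mul_inv_eq_one] at e; exact mul_left_cancel (e.trans (mul_one g).symm))
  by_cases hz1 : z = 1
  · refine ⟨?_, h₂⟩
    have hkb : k = b := inv_mul_eq_one.mp hz1
    exact (CfsgLib.RootSub.eq_of_mem_mem hS hBni hB hK hb (hkb ▸ hk) hb1).symm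
  · exfalso
    obtain ⟨hne1, E, hE, he⟩ := hroot a ha ha1 b hb hb1
    refine translate hS (hS.conj_mem A hA g) hA' (hAgA' g hg) hE ?_ hzA' hz1 (CfsgLib.RootSub.conjBy_mem ha) hga
      (hab ▸ he) (hab ▸ hne1)
    rintro _ ⟨x, hx, rfl⟩
    show z * (g * x * g⁻¹) = g * x * g⁻¹ * z
    exact ((hgz.mul_right (hzA x hx)).mul_right hgz.inv_right).eq

end CfsgLib.RootSub.SubFlip
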