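import Mathlib
import Cfsg.Agent.Lib.RootSub.SubFlip
import Cfsg.Agent.S5038
import Cfsg.Agent.S5036

/-!
Classes of abstract root subgroups: lines through a member, connectivity tools.
-/

set_option autoImplicit false

namespace CfsgLib.RootSub.SubClass

open Cfsg CfsgLib.RootSub
open scoped commutatorElement

universe u
variable {G : Type u} [Group G] {S : Set (Subgroup G)}

/-- Every line is a commutator line through each of its generators. -/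
theorem line_flip (hS : Cfsg.IsRootSubgroupSet S) (hF : ∀ A ∈ S, ¬ Cfsg.IsIsolatedIn (Cfsg.FAdj S) S A)
    {A B : Subgroup G} (hA : A ∈ S) (hB : B ∈ Cfsg.linePartners S A) :
    ∃ C ∈ S, ⁅A, C⁆ ∈ S ∧ A ⊔ ⁅A, C⁆ = A ⊔ B := by
  obtain ⟨⟨hBS, hBA, hAB⟩, hpart⟩ := hB
  obtain ⟨P, hP, hp⟩ := CfsgLib.RootSub.exists_partner_of_not_isolated (hF A hA) hA
  have hcomm : IsMulCommutative A := hS.commutative A hA
  have hcom : ∀ x ∈ A, ∀ y ∈ B, x * y = y * x := fun x hx y hy => CfsgLib.RootSub.commute_of_comm_eq_bot hAB hx hy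
  have hcentA : ∀ y ∈ A ⊔ B, ∀ x ∈ A, x * y = y * x := fun y hy x hx =>
    (Subgroup.mem_centralizer_singleton_iff.mp ((sup_le
      (fun w hw => Subgroup.mem_centralizer_singleton_iff.mpr
        (congrArg Subtype.val ((hS.commutative A hA).is_comm.comm ⟨w, hw⟩ ⟨x, hx⟩)))
      (fun w hw => Subgroup.mem_centralizer_singleton_iff.mpr (hcom x hx w hw).symm) :
        A ⊔ B ≤ Subgroup.centralizer ({x} : Set G)) hy)).symm
  have hTI : ∀ {R : Subgroup G}, R ∈ S → R ≠ A → ∀ a ∈ A, a ∈ R → a = 1 := fun {R} hR hne a ha haR =>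
    by_contra fun h1 => hne (CfsgLib.RootSub.eq_of_mem_mem hS (hF A hA) hA hR ha haR h1).symm
  have hR : ∀ R ∈ S, R ≠ A → R ≤ A ⊔ B → ¬ Cfsg.IsRankOnePair R P → ∃ C ∈ S, ⁅A, C⁆ = R := by
    intro R hRS hne hle hnr
    have hroot : ∀ a ∈ A, a ≠ 1 → ∀ r ∈ R, r ≠ 1 → a * r ≠ 1 ∧ ∃ T ∈ S, a * r ∈ T := by
      intro a ha ha1 r hr _
      have h1 : a * r ≠ 1 := fun e => ha1 (hTI hRS hne a ha (by rw [eq_inv_of_mul_eq_one_left e]; exact inv_mem hr))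
      obtain ⟨T, hT, hmem⟩ := hpart.2.1 (a * r) (mul_mem (Subgroup.mem_sup_left ha) (hle hr)) h1
      exact ⟨h1, T, hT.1, hmem⟩
    rcases hS.pair R hRS P hP with h | h | h
    · exfalso
      obtain ⟨⟨a, ha⟩, ha0⟩ := Subgroup.ne_bot_iff_exists_ne_one.mp (hS.ne_bot A hA)
      obtain ⟨⟨r, hr⟩, hr0⟩ := Subgroup.ne_bot_iff_exists_ne_one.mp (hS.ne_bot R hRS)
      have ha1 : a ≠ 1 := fun e => ha0 (Subtype.ext e)
      have hr1 : r ≠ 1 := fun e => hr0 (Subtype.ext e)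
      obtain ⟨hne1, T, hT, hmem⟩ := hroot a ha ha1 r hr hr1
      have e := hcentA r (hle hr) a ha
      exact SubFlip.translate hS hA hP hp hT (fun x hx => (hcentA r (hle hr) x hx).symm)
        (fun x hx => CfsgLib.RootSub.commute_of_comm_eq_bot h hr hx) hr1 ha ha1 (e ▸ hmem) (e ▸ hne1)
    · exact absurd h hnr
    · exact ⟨_, (CfsgLib.RootSub.rcc_symm h).1,
        (SubFlip.flip_eq hS hA hRS hP hp (fun x hx y hy => hcentA y (hle hy) x hx) (hF R hRS) h hroot).1⟩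
  by_cases hBP : Cfsg.IsRankOnePair B P
  · obtain ⟨⟨u, hu⟩, hu0⟩ := Subgroup.ne_bot_iff_exists_ne_one.mp (hS.ne_bot P hP)
    have hu1 : u ≠ 1 := fun e => hu0 (Subtype.ext e)
    obtain ⟨a, ha, ha1, ea⟩ := hp.cond_right u hu hu1
    obtain ⟨b, hb, hb1, eb⟩ := hBP.cond_right u hu hu1
    set x := b * a⁻¹ with hx
    have hxL : x ∈ A ⊔ B := mul_mem (Subgroup.mem_sup_right hb) (Subgroup.mem_sup_left (inv_mem ha))
    have hx1 : x ≠ 1 := fun e => hb1 (hTI hBS hBA b (by rw [mul_inv_eq_one.mp e]; exact ha) hb)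
    obtain ⟨R, ⟨hRS, hle⟩, hxR⟩ := hpart.2.1 x hxL hx1
    have hne : R ≠ A := fun e => hb1 (hTI hBS hBA b (by
      have := mul_mem (e ▸ hxR : x ∈ A) ha
      rwa [hx, inv_mul_cancel_right] at this) hb)
    have hnr : ¬ Cfsg.IsRankOnePair R P := by
      intro hRP
      have hc : ∀ r ∈ Cfsg.conjBy P a⁻¹, ∀ s ∈ Cfsg.conjBy P b⁻¹, r * s = s * r := by
        rw [ea, eb]
        rintro _ ⟨r, hr, rfl⟩ _ ⟨s, hs, rfl⟩
        rw [← map_mul, ← map_mul, hcom r hr s hs]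
      have key : ∀ w ∈ P, (x * u * x⁻¹) * w = w * (x * u * x⁻¹) := by
        intro w hw
        have e := hc _ (CfsgLib.RootSub.conjBy_mem hu) _ (CfsgLib.RootSub.conjBy_mem hw)
        rw [inv_inv, inv_inv] at e
        calc x * u * x⁻¹ * w = b * ((a⁻¹ * u * a) * (b⁻¹ * w * b)) * b⁻¹ := by rw [hx]; group
          _ = w * (x * u * x⁻¹) := by rw [e, hx]; group
      have h2 := CfsgLib.RootSub.eq_of_unipotent_commute (Cfsg.RankOnePair_symm hRP)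
        (CfsgLib.RootSub.conjBy_mem_unipotent (Subgroup.mem_sup_right hxR) CfsgLib.RootSub.left_mem_unipotent)
        (CfsgLib.RootSub.conjBy_mem hu) (fun e => hu1 (by
          rw [mul_inv_eq_one] at e
          exact mul_left_cancel (e.trans (mul_one x).symm))) key
      exact hx1 (CfsgLib.RootSub.eq_one_of_normalizes hRP hxR (CfsgLib.RootSub.conjBy_eq_self_iff.mp h2.symm))
    obtain ⟨C, hC, e⟩ := hR R hRS hne hle hnr
    have hCm : ⁅A, C⁆ ∈ S := e.symm ▸ hRS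
    refine ⟨C, hC, hCm, le_antisymm (sup_le le_sup_left (e.symm ▸ hle)) (sup_le le_sup_left ?_)⟩
    obtain ⟨hset, hp2, -, -⟩ := Cfsg.Agent.S5029.result hS (hF A hA) hA hC hCm
    have hbM : b ∈ A ⊔ ⁅A, C⁆ := by
      rw [show b = x * a by rw [hx, inv_mul_cancel_right]]
      exact mul_mem (Subgroup.mem_sup_right (e.symm ▸ hxR)) (Subgroup.mem_sup_left ha)
    obtain ⟨T, hT, hbT⟩ := hp2.2.1 b hbM hb1
    rw [CfsgLib.RootSub.eq_of_mem_mem hS (hF B hBS) hBS hT.1 hb hbT hb1]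
    exact hT.2
  · obtain ⟨C, hC, e⟩ := hR B hBS hBA le_sup_right hBP
    exact ⟨C, hC, e.symm ▸ hBS, by rw [e]⟩


theorem line_symm {A B : Subgroup G} (hA : A ∈ S) (h : B ∈ Cfsg.linePartners S A) : A ∈ Cfsg.linePartners S B := by
  obtain ⟨⟨-, hne, hc⟩, hp⟩ := h
  exact ⟨⟨hA, hne.symm, by rw [Subgroup.commutator_comm, hc]⟩, by rw [sup_comm]; exact hp⟩

theorem line_commute {A B : Subgroup G} (h : B ∈ Cfsg.linePartners S A) {a b : G} (ha : a ∈ A) (hb : b ∈ B) :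
    a * b = b * a := commute_of_comm_eq_bot h.1.2.2 ha hb

theorem map_conj_injective (g : G) : Function.Injective (MulAut.conj g).toMonoidHom :=
  (MulAut.conj g).injective

theorem line_conj (hS : Cfsg.IsRootSubgroupSet S) {A B : Subgroup G} (g : G)
    (h : B ∈ Cfsg.linePartners S A) : Cfsg.conjBy B g ∈ Cfsg.linePartners S (Cfsg.conjBy A g) := by
  obtain ⟨⟨hB, hne, hc⟩, hle, hcov, hdis⟩ := h
  refine ⟨⟨hS.conj_mem B hB g, fun e => hne (conjBy_injective g e), ?_⟩, ?_⟩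
  · show ⁅A.map _, B.map _⁆ = ⊥
    rw [← Subgroup.map_commutator]
    rw [hc, Subgroup.map_bot]
  have esup : Cfsg.conjBy A g ⊔ Cfsg.conjBy B g = Cfsg.conjBy (A ⊔ B) g := (Subgroup.map_sup _ _ _).symm
  have hback : ∀ X, X ∈ Cfsg.membersIn S (Cfsg.conjBy (A ⊔ B) g) →
      Cfsg.conjBy X g⁻¹ ∈ Cfsg.membersIn S (A ⊔ B) := fun X hX => by
    refine ⟨hS.conj_mem X hX.1 _, ?_⟩
    rintro _ ⟨x, hx, rfl⟩
    have := conjBy_mem_iff.mp (hX.2 hx)
    show g⁻¹ * x * g⁻¹⁻¹ ∈ _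
    rwa [inv_inv]
  rw [esup]
  refine ⟨fun X hX => hX.2, fun x hx hx1 => ?_, fun X hX Y hY hne' => ?_⟩
  · obtain ⟨y, hy, rfl⟩ := hx
    obtain ⟨T, hT, hyT⟩ := hcov y hy (fun e => hx1 (by rw [e, map_one]))
    exact ⟨Cfsg.conjBy T g, ⟨hS.conj_mem T hT.1 g, Subgroup.map_mono hT.2⟩, ⟨y, hyT, rfl⟩⟩
  · have h := hdis _ (hback X hX) _ (hback Y hY) (fun e => hne' (conjBy_injective _ e))
    have h' : (X ⊓ Y).map (MulAut.conj g⁻¹).toMonoidHom = ⊥ := by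
      rw [Subgroup.map_inf _ _ _ (map_conj_injective _)]; exact h
    exact (Subgroup.map_eq_bot_iff_of_injective _ (map_conj_injective _)).mp h'

theorem eq_of_le_normalizer (hS : Cfsg.IsRootSubgroupClass S)
    (h : ∀ X ∈ S, ∀ Y ∈ S, ¬ Cfsg.IsRankOnePair X Y) (hnc : ∀ X ∈ S, ∀ Y ∈ S, ¬ Cfsg.RootCommutatorCase S X Y)
    {A C : Subgroup G} (hA : A ∈ S) (hC : C ∈ S) : A = C := by
  obtain ⟨g, rfl⟩ := hS.2.2 A hA C hC
  have hle : (⨆ X ∈ S, X) ≤ Subgroup.normalizer (A : Set G) := iSup₂_le fun X hX x hx =>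
    mem_normalizer_of_commute_all fun a ha => by
      rcases hS.1.pair A hA X hX with e | e | e
      · exact (commute_of_comm_eq_bot e ha hx).symm
      · exact absurd e (h A hA X hX)
      · exact absurd e (hnc A hA X hX)
  rw [hS.1.generates] at hle
  exact (conjBy_eq_self_iff.mpr (hle (Subgroup.mem_top g))).symm

theorem not_iso_all (hS : Cfsg.IsRootSubgroupClass S) {P Q : Subgroup G} (hP : P ∈ S) (hQ : Q ∈ S)
    (h : Cfsg.IsRankOnePair P Q) : ∀ X ∈ S, ¬ Cfsg.IsIsolatedIn (Cfsg.FAdj S) S X := by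
  intro X hX
  obtain ⟨g, rfl⟩ := hS.2.2 P hP X hX
  exact not_isolated_conj hS.1 (not_isolated hP hQ h) hP g

theorem nd_not_iso (hS : Cfsg.IsRootSubgroupClass S) (hnd : Cfsg.IsNondegenerateRootSet S) :
    ∀ X ∈ S, ¬ Cfsg.IsIsolatedIn (Cfsg.FAdj S) S X := by
  obtain ⟨-, ⟨P, hP, Q, hQ, h⟩, -⟩ := hnd
  exact not_iso_all hS hP hQ h

theorem rcc_line (hS : Cfsg.IsRootSubgroupSet S) (hF : ∀ X ∈ S, ¬ Cfsg.IsIsolatedIn (Cfsg.FAdj S) S X)
    {P Q : Subgroup G} (hP : P ∈ S) (hQ : Q ∈ S) (h : ⁅P, Q⁆ ∈ S) :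
    P ∈ Cfsg.linePartners S ⁅P, Q⁆ :=
  (Cfsg.Agent.S5029.result hS (hF P hP) hP hQ h).2.2.1

theorem line_sup_eq (hS : Cfsg.IsRootSubgroupSet S) (hF : ∀ X ∈ S, ¬ Cfsg.IsIsolatedIn (Cfsg.FAdj S) S X)
    {A C X Y : Subgroup G} (hA : A ∈ S) (hC : C ∈ Cfsg.linePartners S A)
    (hX : X ∈ Cfsg.membersIn S (A ⊔ C)) (hY : Y ∈ Cfsg.membersIn S (A ⊔ C)) (hne : X ≠ Y) :
    X ⊔ Y = A ⊔ C := by
  obtain ⟨x, hx, hxA, hxC⟩ := Cfsg.Agent.S5038.result hS hF hA hC A ⟨hA, le_sup_left⟩ C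
    ⟨hC.1.1, le_sup_right⟩ X hX Y hY hC.1.2.1.symm hne
  have hxN : x ∈ Subgroup.normalizer ((A ⊔ C : Subgroup G) : Set G) :=
    (iSup₂_le (a := Subgroup.normalizer ((A ⊔ C : Subgroup G) : Set G)) (fun E hE => hE.2) :
      (⨆ E ∈ Cfsg.normalizingMembers S (A ⊔ C), E) ≤ _) hx
  have h := conjBy_eq_self_iff.mpr hxN
  rw [← hxA, ← hxC]
  refine Eq.trans ?_ h
  exact (Subgroup.map_sup _ _ _).symm

/-- Every point of a line through `K` is the commutator of `K` with a suitable member. -/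
theorem exists_back (hS : Cfsg.IsRootSubgroupSet S) (hF : ∀ X ∈ S, ¬ Cfsg.IsIsolatedIn (Cfsg.FAdj S) S X)
    {K C : Subgroup G} (hK : K ∈ S) (hC : C ∈ Cfsg.linePartners S K) :
    ∃ Y ∈ S, ⁅K, Y⁆ = C ∧ Y ∈ Cfsg.linePartners S C := by
  obtain ⟨D, hD, hR, e⟩ := line_flip hS hF hK hC
  have hRK : ⁅K, D⁆ ≠ K := fun e' => hS.ne_bot _ hR (comm_eq_bot_of_commute fun x hx y hy =>
    (rcc_of_mem hS hK hD hR).2.1 x (by rw [e']; exact hx) y (Subgroup.mem_sup_right hy))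
  obtain ⟨x, -, hxK, hxR⟩ := Cfsg.Agent.S5038.result hS hF hK hC K ⟨hK, le_sup_left⟩ ⁅K, D⁆
    ⟨hR, e ▸ le_sup_right⟩ K ⟨hK, le_sup_left⟩ C ⟨hC.1.1, le_sup_right⟩ hRK.symm hC.1.2.1.symm
  have e' : ⁅K, Cfsg.conjBy D x⁆ = C := by
    calc ⁅K, Cfsg.conjBy D x⁆ = ⁅Cfsg.conjBy K x, Cfsg.conjBy D x⁆ := by rw [hxK]
      _ = Cfsg.conjBy ⁅K, D⁆ x := (Subgroup.map_commutator _ _ _).symm
      _ = C := hxR
  refine ⟨_, hS.conj_mem D hD x, e', ?_⟩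
  have h := rcc_line hS hF (hS.conj_mem D hD x) hK (by rw [Subgroup.commutator_comm, e']; exact hC.1.1)
  rwa [Subgroup.commutator_comm, e'] at h

/-- The opposite member to `A` produced from a point of a line. -/
theorem back_rankOne (hS : Cfsg.IsRootSubgroupSet S) {A B D : Subgroup G} (hA : A ∈ S) (hB : B ∈ S)
    (hC : ⁅A, B⁆ ∈ S) (hD : D ∈ S) (hDC : ⁅⁅A, B⁆, D⁆ = A) : Cfsg.IsRankOnePair B D :=
  (Cfsg.Agent.S5036.result hS hA hB hC hD (by rw [Subgroup.commutator_comm]; exact hDC)).1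

/-- No member on a line through `P` centralises a member opposite to `P`. -/
theorem no_line_commute (hS : Cfsg.IsRootSubgroupSet S) (hF : ∀ X ∈ S, ¬ Cfsg.IsIsolatedIn (Cfsg.FAdj S) S X)
    {P C X : Subgroup G} (hP : P ∈ S) (hC : C ∈ S) (hp : Cfsg.IsRankOnePair P C)
    (hX : X ∈ Cfsg.linePartners S P) (h : ⁅X, C⁆ = ⊥) : False := by
  obtain ⟨⟨p, hpP⟩, hp0⟩ := Subgroup.ne_bot_iff_exists_ne_one.mp (hS.ne_bot P hP)
  have hp1 : p ≠ 1 := fun e => hp0 (Subtype.ext e)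
  obtain ⟨⟨x, hx⟩, hx0⟩ := Subgroup.ne_bot_iff_exists_ne_one.mp (hS.ne_bot X hX.1.1)
  have hx1 : x ≠ 1 := fun e => hx0 (Subtype.ext e)
  have h1 : x * p ≠ 1 := fun e => hX.1.2.1 ((eq_of_mem_mem hS (hF P hP) hP hX.1.1 hpP
    (by rw [eq_inv_of_mul_eq_one_right e]; exact inv_mem hx) hp1)).symm
  obtain ⟨T, hT, hmem⟩ := hX.2.2.1 (x * p)
    (mul_mem (Subgroup.mem_sup_right hx) (Subgroup.mem_sup_left hpP)) h1
  exact SubFlip.translate hS hP hC hp hT.1 (fun y hy => (line_commute hX hy hx).symm)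
    (fun y hy => commute_of_comm_eq_bot h hx hy) hx1 hpP hp1 hmem h1

theorem not_bot_of_pair (hS : Cfsg.IsRootSubgroupSet S) {A B : Subgroup G} (hA : A ∈ S) (hB : B ∈ S)
    (h : Cfsg.IsRankOnePair A B) : ⁅A, B⁆ ≠ ⊥ := fun e => by
  obtain ⟨⟨a, ha⟩, ha0⟩ := Subgroup.ne_bot_iff_exists_ne_one.mp (hS.ne_bot A hA)
  obtain ⟨⟨b, hb⟩, hb0⟩ := Subgroup.ne_bot_iff_exists_ne_one.mp (hS.ne_bot B hB)
  exact not_commute h ha (fun e => ha0 (Subtype.ext e)) hb (fun e => hb0 (Subtype.ext e))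
    (commute_of_comm_eq_bot e ha hb)

theorem not_rcc_of_pair (hS : Cfsg.IsRootSubgroupSet S) {A B : Subgroup G} (hA : A ∈ S) (hB : B ∈ S)
    (h : Cfsg.IsRankOnePair A B) (hc : Cfsg.RootCommutatorCase S A B) : False := by
  obtain ⟨⟨a, ha⟩, ha0⟩ := Subgroup.ne_bot_iff_exists_ne_one.mp (hS.ne_bot A hA)
  have ha1 : a ≠ 1 := fun e => ha0 (Subtype.ext e)
  obtain ⟨b, hb, hb1, e⟩ := h.cond_left a ha ha1
  have hle : Cfsg.conjBy A b⁻¹ ≤ A ⊔ ⁅A, B⁆ := conjBy_le_sup A B (inv_mem hb)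
  have hcomm : A ⊔ ⁅A, B⁆ ≤ Subgroup.centralizer ({a} : Set G) := sup_le
    (fun z hz => Subgroup.mem_centralizer_singleton_iff.mpr
      (congrArg Subtype.val ((hS.commutative A hA).is_comm.comm ⟨z, hz⟩ ⟨a, ha⟩)))
    (fun z hz => Subgroup.mem_centralizer_singleton_iff.mpr (hc.2.1 z hz a (Subgroup.mem_sup_left ha)))
  refine not_commute h ha ha1 hb hb1 ?_
  have h1 : a⁻¹ * b * a⁻¹⁻¹ ∈ Cfsg.conjBy B a⁻¹ := conjBy_mem hb
  rw [← e] at h1
  have h2 := Subgroup.mem_centralizer_singleton_iff.mp (hcomm (hle h1))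
  have := congrArg (fun z => a * z * a⁻¹) h2
  simpa [mul_assoc] using this.symm

end CfsgLib.RootSub.SubClass
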