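import Mathlib
import Cfsg.Agent.Lib.RootSub.Central

/-!
Special rank one pairs with abelian unipotent subgroups: powers of corresponding elements.
-/

set_option autoImplicit false

namespace CfsgLib.RootSub.Special

open Cfsg

variable {X : Type*} [Group X] {A B : Subgroup X}

/-- Corresponding elements of a rank one pair. -/
def Corr (A B : Subgroup X) (x b : X) : Prop :=
  x ∈ A ∧ x ≠ 1 ∧ b ∈ B ∧ b ≠ 1 ∧ conjBy A b⁻¹ = conjBy B x⁻¹

theorem corr_symm {x b : X} (h : Corr A B x b) : Corr B A b x :=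
  ⟨h.2.2.1, h.2.2.2.1, h.1, h.2.1, h.2.2.2.2.symm⟩

theorem special_symm (h : IsSpecialRankOnePair A B) : IsSpecialRankOnePair B A := by
  refine ⟨RankOnePair_symm h.1, fun b hb hb1 a ha ha1 e => ?_⟩
  have h1 := congrArg (fun z => z⁻¹) (h.2 a ha ha1 b hb hb1 e.symm)
  simp only [mul_inv_rev, inv_inv] at h1
  calc a⁻¹ * b * a = a⁻¹ * (b * a) := by group
    _ = b⁻¹ * (a⁻¹ * b) := h1.symm
    _ = b⁻¹ * a⁻¹ * b := by group

theorem exists_corr (h : IsRankOnePair A B) {x : X} (hx : x ∈ A) (hx1 : x ≠ 1) : ∃ b, Corr A B x b := by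
  obtain ⟨b, hb, hb1, e⟩ := h.cond_left x hx hx1
  exact ⟨b, hx, hx1, hb, hb1, e⟩

theorem corr_unique_left (h : IsRankOnePair A B) {x x' b : X} (h1 : Corr A B x b) (h2 : Corr A B x' b) :
    x = x' :=
  inv_injective (conjBy_inj_left h (inv_mem h1.1) (inv_mem h2.1) (h1.2.2.2.2.symm.trans h2.2.2.2.2))

theorem corr_unique_right (h : IsRankOnePair A B) {x b b' : X} (h1 : Corr A B x b) (h2 : Corr A B x b') :
    b = b' :=
  corr_unique_left (RankOnePair_symm h) (corr_symm h1) (corr_symm h2)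

/-- Inverse elements correspond. -/
theorem corr_flip (h : IsSpecialRankOnePair A B) {x b : X} (hc : Corr A B x b) :
    conjBy A b = conjBy B x := by
  obtain ⟨hx, hx1, hb, hb1, e⟩ := hc
  have hs := h.2 x hx hx1 b hb hb1 e
  set m := b * x⁻¹ * b with hm
  have hinv : b⁻¹ * x⁻¹ * b = x⁻¹ * b * x := by
    have := congrArg (fun z => z⁻¹) hs
    simp only [mul_inv_rev, inv_inv] at this
    calc b⁻¹ * x⁻¹ * b = b⁻¹ * (x⁻¹ * b) := by group
      _ = x⁻¹ * (b * x) := this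
      _ = x⁻¹ * b * x := by group
  have hm' : m = x⁻¹ * b * x⁻¹ := by
    calc m = b * (x⁻¹ * b * x) * x⁻¹ := by rw [hm]; group
      _ = b * (b⁻¹ * x⁻¹ * b) * x⁻¹ := by rw [hinv]
      _ = _ := by group
  have hmx : m * x * m⁻¹ = b⁻¹ := by
    calc m * x * m⁻¹ = (x⁻¹ * b * x⁻¹) * x * (b * x⁻¹ * b)⁻¹ := by rw [← hm', hm]
      _ = b⁻¹ := by group
  have hmem : m ∈ A ⊔ B := mul_mem (mul_mem (Subgroup.mem_sup_right hb) (Subgroup.mem_sup_left (inv_mem hx)))
    (Subgroup.mem_sup_right hb)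
  have hU : B = conjBy A m := (eq_of_normalizes h.1 (conjBy_mem_unipotent hmem left_mem_unipotent)
    (right_mem_unipotent h.1) (conjBy_mem (g := m) hx) (by rw [hmx]; exact inv_ne_one.mpr hb1)
    (Subgroup.le_normalizer (hmx ▸ inv_mem hb)))
  have e1 : conjBy (conjBy A b) x⁻¹ = B := by
    rw [hU, conjBy_conjBy, hm', show x⁻¹ * b * x⁻¹ = x⁻¹ * b * x⁻¹ from rfl,
      ← conjBy_conjBy x⁻¹ (x⁻¹ * b), conjBy_self (inv_mem hx)]
  calc conjBy A b = conjBy (conjBy (conjBy A b) x⁻¹) x := by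
        rw [conjBy_conjBy (g := x⁻¹), mul_inv_cancel, conjBy_one]
    _ = conjBy B x := by rw [e1]

/-- The corresponding element is the inverse of a conjugate. -/
theorem corr_pow_eq_one (h : IsSpecialRankOnePair A B) {x b : X} (hc : Corr A B x b) {n : ℕ}
    (hn : x ^ n = 1) : b ^ n = 1 := by
  obtain ⟨hx, hx1, hb, hb1, e⟩ := hc
  have hs := h.2 x hx hx1 b hb hb1 e
  have e1 : b⁻¹ = (x * b⁻¹) * x * (x * b⁻¹)⁻¹ := by
    calc b⁻¹ = x * (x⁻¹ * b⁻¹ * x) * x⁻¹ := by group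
      _ = x * (b⁻¹ * x * b) * x⁻¹ := by rw [hs]
      _ = _ := by group
  rw [← inv_eq_one, ← inv_pow, e1, conj_pow, hn, mul_one, mul_inv_cancel]

theorem mul_comm_of (hc : IsMulCommutative A) {x y : X} (hx : x ∈ A) (hy : y ∈ A) : x * y = y * x :=
  congrArg Subtype.val (hc.is_comm.comm ⟨x, hx⟩ ⟨y, hy⟩)

/-- The statement proved by induction. -/
def PowRel (A B : Subgroup X) (n : ℕ) : Prop :=
  ∀ x b c : X, Corr A B x b → x ^ n ≠ 1 → Corr A B (x ^ n) c → c ^ n = b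

theorem powRel (n : ℕ) : ∀ (A B : Subgroup X), IsSpecialRankOnePair A B → IsMulCommutative A →
    IsMulCommutative B → (∀ z, z ∈ A ∨ z ∈ B → z ≠ 1 → ∀ i, 0 < i → i < n → z ^ i ≠ 1) →
    0 < n → PowRel A B n := by
  induction n using Nat.strong_induction_on with
  | _ n ih =>
  intro A B h hA hB hfree hn
  intro x b c hxb hxn hc
  rcases Nat.lt_or_ge n 2 with h1 | h1
  · obtain rfl : n = 1 := by omega
    rw [pow_one] at hc ⊢
    exact corr_unique_right h.1 hc hxb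
  obtain ⟨m, rfl⟩ : ∃ m, n = m + 1 := ⟨n - 1, by omega⟩
  obtain ⟨hx, hx1, hb, hb1, e⟩ := id hxb
  have hs := h.2 x hx hx1 b hb hb1 e
  have hfree' : ∀ k, k ≤ m + 1 → ∀ z, z ∈ A ∨ z ∈ B → z ≠ 1 → ∀ i, 0 < i → i < k → z ^ i ≠ 1 :=
    fun k hk z hz hz1 i hi hik => hfree z hz hz1 i hi (by omega)
  have IH : ∀ k, 0 < k → k < m + 1 → PowRel A B k := fun k hk hkm =>
    ih k hkm A B h hA hB (hfree' k hkm.le) hk
  have IH' : ∀ k, 0 < k → k < m + 1 → PowRel B A k := fun k hk hkm =>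
    ih k hkm B A (special_symm h) hB hA (fun z hz => hfree' k hkm.le z hz.symm) hk
  have hxm : x ^ m ≠ 1 := hfree x (Or.inl hx) hx1 m (by omega) (by omega)
  obtain ⟨cm, hcm⟩ := exists_corr h.1 (A.pow_mem hx m) hxm
  have ecm : cm ^ m = b := IH m (by omega) (by omega) x b cm hxb hxm hcm
  have hcme := hcm.2.2.2.2
  -- the image of `A` under the step
  have step : conjBy B (x ^ (m + 1))⁻¹ = conjBy A (x⁻¹ * cm⁻¹) := by
    rw [← conjBy_conjBy, hcme, conjBy_conjBy, pow_succ, mul_inv_rev]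
  have hxb' : x⁻¹ * b⁻¹ = b⁻¹ * x * b * x⁻¹ := by
    rw [hs]; group
  -- the conjugate `b⁻¹ x b^m` of `A`
  have hmid : conjBy A (x⁻¹ * cm⁻¹) = conjBy A (b⁻¹ * x * b ^ m) := by
    rcases Nat.lt_or_ge m 2 with h2 | h2
    · obtain rfl : m = 1 := by omega
      rw [pow_one] at ecm ⊢
      rw [ecm, hxb', ← conjBy_conjBy x⁻¹, conjBy_self (inv_mem hx)]
    · obtain ⟨l, rfl⟩ : ∃ l, m = l + 1 := ⟨m - 1, by omega⟩
      have hd1 : cm ^ l ≠ 1 := hfree cm (Or.inr hcm.2.2.1) hcm.2.2.2.1 l (by omega) (by omega)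
      obtain ⟨e', he'⟩ := exists_corr (RankOnePair_symm h.1) (B.pow_mem hcm.2.2.1 l) hd1
      have ee' : e' ^ l = x ^ (l + 1) := IH' l (by omega) (by omega) cm _ e' (corr_symm hcm) hd1 he'
      have hcomm : Commute x⁻¹ e' := mul_comm_of hA (inv_mem hx) he'.2.2.1
      have hwl : (x⁻¹ * e') ^ l = x := by
        rw [hcomm.mul_pow, ee', inv_pow, pow_succ, inv_mul_cancel_left]
      have hw1 : x⁻¹ * e' ≠ 1 := fun e0 => hx1 (by rw [← hwl, e0, one_pow])
      obtain ⟨f, hf⟩ := exists_corr h.1 (mul_mem (inv_mem hx) he'.2.2.1) hw1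
      have ef : b ^ l = f := by
        refine IH l (by omega) (by omega) _ f b hf ?_ ?_ <;> rw [hwl]
        · exact hx1
        · exact hxb
      have hd : b * cm⁻¹ = cm ^ l := by rw [← ecm, pow_succ, mul_inv_cancel_right]
      calc conjBy A (x⁻¹ * cm⁻¹) = conjBy A (b⁻¹ * x * b * x⁻¹ * cm ^ l) := by
            rw [← hd, ← hxb']; congr 1; group
        _ = conjBy (conjBy A (cm ^ l)) (b⁻¹ * x * b * x⁻¹) := (conjBy_conjBy _ _).symm
        _ = conjBy (conjBy B e') (b⁻¹ * x * b * x⁻¹) := by rw [← (corr_flip (special_symm h) he')]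
        _ = conjBy (conjBy B (x⁻¹ * e')) (b⁻¹ * x * b) := by
            rw [conjBy_conjBy, conjBy_conjBy]; congr 1; group
        _ = conjBy (conjBy A f) (b⁻¹ * x * b) := by rw [corr_flip h hf]
        _ = conjBy A (b⁻¹ * x * b ^ (l + 1)) := by
            rw [conjBy_conjBy, ← ef, pow_succ']; congr 1; group
  have hbm : b ^ m ≠ 1 := hfree b (Or.inr hb) hb1 m (by omega) (by omega)
  obtain ⟨g, hg⟩ := exists_corr (RankOnePair_symm h.1) (B.pow_mem hb m) hbm
  have eg : g ^ m = x := IH' m (by omega) (by omega) b x g (corr_symm hxb) hbm hg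
  have hvm : (x * g) ^ m = x ^ (m + 1) := by
    rw [(show Commute x g from mul_comm_of hA hx hg.2.2.1).mul_pow, eg, pow_succ]
  have hv1 : x * g ≠ 1 := fun e0 => hxn (by rw [← hvm, e0, one_pow])
  obtain ⟨q, hq⟩ := exists_corr h.1 (mul_mem hx hg.2.2.1) hv1
  have eq' : c ^ m = q := by
    refine IH m (by omega) (by omega) _ q c hq ?_ ?_ <;> rw [hvm]
    · exact hxn
    · exact hc
  have hfin : conjBy A c⁻¹ = conjBy A (b⁻¹ * q) := by
    rw [hc.2.2.2.2, step, hmid, ← conjBy_conjBy (b ^ m) (b⁻¹ * x), ← (corr_flip (special_symm h) hg),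
      conjBy_conjBy, ← conjBy_conjBy q b⁻¹, corr_flip h hq, conjBy_conjBy, mul_assoc]
  have hcq : c⁻¹ = b⁻¹ * q := conjBy_inj_left (RankOnePair_symm h.1) (inv_mem hc.2.2.1)
    (mul_mem (inv_mem hb) hq.2.2.1) hfin
  calc c ^ (m + 1) = q * c := by rw [pow_succ, eq']
    _ = b * (b⁻¹ * q) * c := by group
    _ = b := by rw [← hcq, inv_mul_cancel_right]

end CfsgLib.RootSub.Special
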