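import Cfsg.Agent.Lib.RootSub.DisconnectedComm
import Cfsg.Agent.Lib.BinaryCoset.FromBender
import Cfsg.Agent.S5045

/-!
Non-degenerate root involutions: the graph of commuting pairs with product in the set is connected.

Outside the component of a member all its line partners have the same opposite members.  By induction inside the
centraliser of a member, commuting is transitive between components; so if there are two, the commuting graph is
disconnected, and Bender's theorem leaves no room for a product of order four.  All given the theorem on hypothesis Q.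
-/

set_option autoImplicit false
set_option linter.unusedSectionVars false
set_option linter.style.haveILetI false

namespace CfsgLib.RootProd

open Cfsg Relation CfsgLib.RootInv
open CfsgLib.Bender.TwoClosed (IsInv)

universe u

section General

variable {G : Type u} [Group G] {D : Set G}

theorem pAdj_symm {a b : G} (h : ProdAdj D a b) : ProdAdj D b a :=
  ⟨h.2.1, h.1, h.2.2.1.symm, h.2.2.2.1.symm, h.2.2.2.1 ▸ h.2.2.2.2⟩

theorem pReach_symm {a b : G} (h : ReflTransGen (ProdAdj D) a b) : ReflTransGen (ProdAdj D) b a := by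
  induction h with
  | refl => exact ReflTransGen.refl
  | tail _ h ih => exact ReflTransGen.head (pAdj_symm h) ih

theorem eq_of_commute_odd (hD : IsRootInvolutionSet D) {a b : G} (ha : a ∈ D) (hb : b ∈ D) (h : a * b = b * a)
    (ho : Odd (orderOf (a * b))) : a = b := by
  have h1 : a * b = 1 := CfsgLib.Bender.TwoClosed.eq_one_of_two_odd
    ((show Commute a b from h).mul_pow 2 |>.trans (by rw [pow_two, pow_two, mul_self hD ha, mul_self hD hb, one_mul]))
    ho
  rw [← inv_eq hD hb]
  exact mul_eq_one_iff_eq_inv.mp h1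

theorem sq_swap (hD : IsRootInvolutionSet D) {a b : G} (ha : a ∈ D) (hb : b ∈ D) (h : orderOf (a * b) = 4) :
    (b * a) ^ 2 = (a * b) ^ 2 := by
  have h1 : (a * b) ^ 2 * (a * b) ^ 2 = 1 := by rw [← pow_add, show 2 + 2 = orderOf (a * b) from h.symm, pow_orderOf_eq_one]
  rw [show b * a = (a * b)⁻¹ by rw [mul_inv_rev, inv_eq hD ha, inv_eq hD hb], inv_pow, inv_eq_of_mul_eq_one_right h1]

theorem line_left (hD : IsRootInvolutionSet D) {a b : G} (ha : a ∈ D) (hb : b ∈ D) (h : orderOf (a * b) = 4) :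
    ProdAdj D a ((a * b) ^ 2) := by
  have hf : (a * b) ^ 2 ∈ D := by
    rcases hD.pair a ha b hb with e | e | ⟨-, e⟩
    · exfalso
      have h2 : (a * b) ^ 2 = 1 := by
        rw [(show Commute a b from e).mul_pow, pow_two, pow_two, mul_self hD ha, mul_self hD hb, one_mul]
      have := Nat.le_of_dvd (by norm_num) (orderOf_dvd_of_pow_eq_one h2)
      omega
    · rw [h] at e
      exact absurd e (by decide)
    · exact e
  have e1 : a * (a * b) ^ 2 = b * a * b := by
    calc a * (a * b) ^ 2 = (a * a) * (b * a * b) := by rw [pow_two]; group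
      _ = b * a * b := by rw [mul_self hD ha, one_mul]
  have e2 : (a * b) ^ 2 * a = b * a * b := by
    calc (a * b) ^ 2 * a = (b * a) ^ 2 * a := by rw [sq_swap hD ha hb h]
      _ = b * a * b * (a * a) := by rw [pow_two]; group
      _ = b * a * b := by rw [mul_self hD ha, mul_one]
  have hmem : a * (a * b) ^ 2 ∈ D := by
    rw [e1]
    have := hD.conj_mem a ha b
    rwa [inv_eq hD hb] at this
  refine ⟨ha, hf, fun e => ne_one hD hmem ?_, e1.trans e2.symm, hmem⟩
  rw [← e, mul_self hD ha]

theorem line_right (hD : IsRootInvolutionSet D) {a b : G} (ha : a ∈ D) (hb : b ∈ D) (h : orderOf (a * b) = 4) :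
    ProdAdj D b ((a * b) ^ 2) := by
  rw [← sq_swap hD ha hb h]
  exact line_left hD hb ha (by rw [orderOf_mul_comm]; exact h)

theorem reach_four (hD : IsRootInvolutionSet D) {a b : G} (ha : a ∈ D) (hb : b ∈ D) (h : orderOf (a * b) = 4) :
    ReflTransGen (ProdAdj D) a b :=
  (ReflTransGen.single (line_left hD ha hb h)).tail (pAdj_symm (line_right hD ha hb h))

/-- Members in different components commute or have odd product. -/
theorem cross (hD : IsRootInvolutionSet D) {a q : G} (ha : a ∈ D) (hq : q ∈ D)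
    (h : ¬ ReflTransGen (ProdAdj D) a q) : a * q = q * a ∨ OddAdj D a q := by
  rcases hD.pair a ha q hq with e | e | ⟨e, -⟩
  · exact Or.inl e
  · exact Or.inr ⟨ha, hq, fun e' => h (e' ▸ ReflTransGen.refl), e⟩
  · exact absurd (reach_four hD ha hq e) h

/-- A line partner has the same opposite members outside the component. -/
theorem odd_step (hD : IsRootInvolutionSet D) {a b p : G} (hab : ProdAdj D a b) (hp : OddAdj D a p)
    (h : ¬ ReflTransGen (ProdAdj D) a p) : OddAdj D b p := by
  have hbp : ¬ ReflTransGen (ProdAdj D) b p := fun h' => h (ReflTransGen.head hab h')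
  rcases cross hD hab.2.1 hp.2.1 hbp with e | e
  · exact (no_translate hD hp (ne_one hD hab.2.1) hab.2.2.2.1.symm e (hab.2.2.2.1 ▸ hab.2.2.2.2)).elim
  · exact e

/-- All members of a component have the same opposite members outside it. -/
theorem odd_uniform (hD : IsRootInvolutionSet D) {a a' p : G} (haa : ReflTransGen (ProdAdj D) a a')
    (hp : OddAdj D a p) (h : ¬ ReflTransGen (ProdAdj D) a p) : OddAdj D a' p := by
  induction haa with
  | refl => exact hp
  | tail h1 h2 ih => exact odd_step hD h2 ih fun h' => h (h1.trans h')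

/-- All members of a component centralise the same members outside it. -/
theorem commute_uniform (hD : IsRootInvolutionSet D) {a a' q : G} (ha' : a' ∈ D) (haa : ReflTransGen (ProdAdj D) a a')
    (ha : a ∈ D) (hq : q ∈ D) (h : ¬ ReflTransGen (ProdAdj D) a q) (hc : a * q = q * a) : a' * q = q * a' := by
  have h' : ¬ ReflTransGen (ProdAdj D) a' q := fun e => h (haa.trans e)
  rcases cross hD ha' hq h' with e | e
  · exact e
  · have := odd_uniform hD (pReach_symm haa) e h'
    exact absurd (eq_of_commute_odd hD ha hq hc this.2.2.2) this.2.2.1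

theorem exists_exit {adj : G → G → Prop} {R : G → G → Prop} {x e : G} (hx : R x x) (h : ReflTransGen adj x e)
    (hne : ¬ R x e) : ∃ u w, ReflTransGen adj x u ∧ R x u ∧ adj u w ∧ ¬ R x w := by
  induction h with
  | refl => exact absurd hx hne
  | @tail b c h1 h2 ih =>
    by_cases hb : R x b
    · exact ⟨b, c, h1, hb, h2, hne⟩
    · exact ih hb

end General

/-- Involutions centralising a common involution commute in a simple group with a strongly embedded subgroup. -/
theorem commute_of_common {X : Type u} [Group X] [Finite X] [IsSimpleGroup X] {H : Subgroup X}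
    (hH : IsStronglyEmbedded H) {a b f : X} (ha : IsInv a) (hb : IsInv b) (hf : IsInv f) (haf : a * f = f * a)
    (hbf : b * f = f * b) : a * b = b * a := by
  haveI : Fact (Nat.Prime 2) := ⟨Nat.prime_two⟩
  have hG : ¬ IsMulCommutative X := by
    intro hc
    haveI : H.Normal := ⟨fun n hn g => by rw [hc.is_comm.comm g n, mul_inv_cancel_right]; exact hn⟩
    rcases IsSimpleGroup.eq_bot_or_eq_top_of_normal H inferInstance with e | e
    · have := hH.2.1
      rw [e, Subgroup.card_bot] at this
      exact absurd this (by decide)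
    · exact hH.1 e
  have hTI : CfsgLib.CyclicInt.TI X :=
    CfsgLib.BinaryCoset.partA_of_goodAll CfsgLib.Bender.Assembly.goodAll X hG H hH
  have hp : ∀ {x : X}, IsInv x → IsPGroup 2 (Subgroup.zpowers x) := fun {x} hx =>
    IsPGroup.of_card (n := 1) (by rw [Nat.card_zpowers, CfsgLib.Bender.Assembly.orderOf_two hx, pow_one])
  obtain ⟨S, hS⟩ := (hp hf).exists_le_sylow
  have hfS : f ∈ (S : Subgroup X) := hS (Subgroup.mem_zpowers f)
  have hmem : ∀ {g : X}, IsInv g → g * f = f * g → g ∈ (S : Subgroup X) := fun {g} hg hgf => by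
    have h1 : f ∈ ((g • S : Sylow 2 X) : Subgroup X) := by
      rw [show f = g * f * g⁻¹ by rw [hgf, mul_inv_cancel_right], Sylow.coe_subgroup_smul]
      exact Subgroup.smul_mem_pointwise_smul f (MulAut.conj g) _ hfS
    have h2 : g • S = S := hTI _ _ f (CfsgLib.CyclicInt.inv2_iff.mpr (CfsgLib.Bender.Assembly.orderOf_two hf)) h1 hfS
    have h3 : g ∈ Subgroup.zpowers g ⊓ Subgroup.normalizer (S : Set X) :=
      Subgroup.mem_inf.mpr ⟨Subgroup.mem_zpowers g, Sylow.smul_eq_iff_mem_normalizer.mp h2⟩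
    rw [(hp hg).inf_normalizer_sylow S] at h3
    exact h3.2
  obtain ⟨t, c⟩ := CfsgLib.BinaryCoset.exists_ctx hG hTI S
  exact c.central (hmem ha haf) ha.2 (hmem hb hbf)

/-- The theorem on hypothesis Q. -/
def QThm : Prop :=
  ∀ (G Ω : Type u) [Group G] [Finite G] [MulAction G Ω] [FaithfulSMul G Ω] (Z : Set G),
    CfsgLib.Bender.Q.Hyp G Ω Z → ∀ x ∈ Subgroup.closure Z, IsInv x → ∃! c : Ω, x • c = c

/-- Connectivity for groups of order below `n`. -/
def Below (n : ℕ) : Prop :=
  ∀ (H : Type u) [Group H] [Finite H] (E : Set H), Nat.card H < n → IsRootInvolutionSet E →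
    IsConnectedSet (OddAdj E) E → (∃ a ∈ E, ∃ b ∈ E, orderOf (a * b) = 4) → IsConnectedSet (ProdAdj E) E

variable {G : Type u} [Group G] [Finite G] {D : Set G}

/-- The key step: inside the centraliser of `q` the components of `a` and `p` would be joined. -/
theorem centralizer_step (ih : Below.{u} (Nat.card G)) (hD : IsRootInvolutionSet D)
    (hconn : IsConnectedSet (OddAdj D) D) {a b q p : G} (hb : b ∈ D) (hab : orderOf (a * b) = 4) (hq : q ∈ D)
    (haq : a * q = q * a) (hnaq : ¬ ReflTransGen (ProdAdj D) a q) (hp : OddAdj D a p)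
    (hnap : ¬ ReflTransGen (ProdAdj D) a p) (hqp : q * p = p * q) : False := by
  have ha := hp.1
  set D' : Set G := {x | x ∈ D ∧ x * q = q * x} with hD'
  set C : Set G := {x | x ∈ D' ∧ ReflTransGen (OddAdj D') a x} with hC
  have haC : a ∈ C := ⟨⟨ha, haq⟩, ReflTransGen.refl⟩
  have hpC : p ∈ C := ⟨⟨hp.2.1, hqp.symm⟩, ReflTransGen.single ⟨⟨ha, haq⟩, ⟨hp.2.1, hqp.symm⟩, hp.2.2.1, hp.2.2.2⟩⟩
  have hsymm : ∀ {x y : G}, ReflTransGen (OddAdj D') x y → ReflTransGen (OddAdj D') y x := fun h => reach_symm h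
  -- the component meets two line components, so it contains what it meets of each of them
  have hclose : ∀ x ∈ C, ∀ y ∈ D', ReflTransGen (ProdAdj D) x y → y ∈ C := by
    intro x hx y hy hxy
    obtain ⟨e, he, hne⟩ : ∃ e ∈ C, ¬ ReflTransGen (ProdAdj D) x e := by
      by_cases h : ReflTransGen (ProdAdj D) x a
      · exact ⟨p, hpC, fun h' => hnap ((pReach_symm h).trans h')⟩
      · exact ⟨a, haC, h⟩
    obtain ⟨u, w, hu, hxu, huw, hxw⟩ := exists_exit (R := ReflTransGen (ProdAdj D)) ReflTransGen.refl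
      ((hsymm hx.2).trans he.2) hne
    have h1 : OddAdj D y w := odd_uniform hD ((pReach_symm hxu).trans hxy)
      ⟨huw.1.1, huw.2.1.1, huw.2.2.1, huw.2.2.2⟩ fun h => hxw (hxu.trans h)
    exact ⟨hy, ((hx.2.trans hu).tail huw).tail (odd_symm ⟨hy, huw.2.1, h1.2.2.1, h1.2.2.2⟩)⟩
  -- conjugation inside the centraliser
  have hconjD' : ∀ g : G, g * q = q * g → ∀ x ∈ D', g * x * g⁻¹ ∈ D' := fun g hg x hx =>
    ⟨hD.conj_mem x hx.1 g,
      (((show Commute g q from hg).mul_left (show Commute x q from hx.2)).mul_left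
        (show Commute g q from hg).inv_left).eq⟩
  have hconj : ∀ g : G, g * q = q * g → ∀ {x y : G}, ReflTransGen (OddAdj D') x y →
      ReflTransGen (OddAdj D') (g * x * g⁻¹) (g * y * g⁻¹) := by
    intro g hg x y h
    induction h with
    | refl => exact ReflTransGen.refl
    | @tail v w _ h ih =>
      refine ih.tail ⟨hconjD' g hg v h.1, hconjD' g hg w h.2.1,
        fun e => h.2.2.1 (mul_left_cancel (mul_right_cancel e)), ?_⟩
      rw [show g * v * g⁻¹ * (g * w * g⁻¹) = (MulAut.conj g) (v * w) by simp [mul_assoc], MulEquiv.orderOf_eq]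
      exact h.2.2.2
  let K : Subgroup G :=
    { carrier := {g | g * q = q * g ∧ ReflTransGen (OddAdj D') a (g * a * g⁻¹)}
      one_mem' := ⟨by rw [one_mul, mul_one], by simpa using ReflTransGen.refl⟩
      mul_mem' := fun {x y} hx hy => ⟨((show Commute x q from hx.1).mul_left (show Commute y q from hy.1)).eq, by
        have := hconj x hx.1 hy.2
        rw [show x * (y * a * y⁻¹) * x⁻¹ = x * y * a * (x * y)⁻¹ by group] at this
        exact hx.2.trans this⟩
      inv_mem' := fun {x} hx => ⟨((show Commute x q from hx.1).inv_left).eq, by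
        have := hconj x⁻¹ ((show Commute x q from hx.1).inv_left).eq hx.2
        rw [show x⁻¹ * (x * a * x⁻¹) * x⁻¹⁻¹ = a by group] at this
        exact hsymm this⟩ }
  set H := Subgroup.closure C with hH
  have hCH : ∀ {x : G}, x ∈ C → x ∈ H := fun hx => Subgroup.subset_closure hx
  have hHK : H ≤ K := (Subgroup.closure_le K).mpr fun d hd => ⟨hd.1.2, by
    have := hconj d hd.1.2 (hsymm hd.2)
    rw [mul_inv_cancel_right] at this
    exact hd.2.trans this⟩
  have hHtop : H ≠ ⊤ := by
    intro e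
    obtain ⟨w, hw, hqw⟩ : ∃ w ∈ D, OddAdj D q w := by
      rcases (hconn q hq a ha).cases_head with e' | ⟨w, hw, -⟩
      · exact absurd (e' ▸ ReflTransGen.refl) hnaq
      · exact ⟨w, hw.2.1, hw⟩
    exact hqw.2.2.1 (eq_of_commute_odd hD hq hw ((hHK (e ▸ Subgroup.mem_top w)).1).symm hqw.2.2.2)
  set E : Set H := {x | (x : G) ∈ C} with hE
  have hroot : IsRootInvolutionSet E := by
    refine ⟨fun x hx => ?_, ?_, fun x hx g => ?_, fun x hx y hy => ?_⟩
    · rw [← Subgroup.orderOf_coe]
      exact hD.orderOf_eq _ hx.1.1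
    · exact Subgroup.closure_closure_coe_preimage
    · obtain ⟨hgq, hga⟩ := hHK g.2
      exact ⟨hconjD' _ hgq _ hx.1, hga.trans (hconj _ hgq hx.2)⟩
    · rcases hD.pair _ hx.1.1 _ hy.1.1 with e | e | ⟨e, hf⟩
      · exact Or.inl (Subtype.ext e)
      · exact Or.inr (Or.inl (by rw [← Subgroup.orderOf_coe]; exact e))
      · refine Or.inr (Or.inr ⟨by rw [← Subgroup.orderOf_coe]; exact e, ?_⟩)
        refine hclose _ hx _ ⟨hf, ?_⟩ (ReflTransGen.single (line_left hD hx.1.1 hy.1.1 e))
        exact ((show Commute (x : G) q from hx.1.2).mul_left (show Commute (y : G) q from hy.1.2)).pow_left 2 |>.eq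
  have hlift : ∀ x : G, ReflTransGen (OddAdj D') a x → ∀ hx : x ∈ C,
      ReflTransGen (OddAdj E) (⟨a, hCH haC⟩ : H) ⟨x, hCH hx⟩ := by
    intro x h
    induction h with
    | refl => exact fun _ => ReflTransGen.refl
    | @tail v w h1 h2 ih =>
      intro hw
      refine (ih ⟨h2.1, h1⟩).tail ⟨(⟨h2.1, h1⟩ : v ∈ C), hw, fun e => h2.2.2.1 (congrArg Subtype.val e), ?_⟩
      rw [← Subgroup.orderOf_coe]
      exact h2.2.2.2
  have hEconn : IsConnectedSet (OddAdj E) E := fun x hx y hy =>
    (reach_symm (hlift x hx.2 hx)).trans (hlift y hy.2 hy)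
  have hab' := reach_four hD ha hb hab
  have hbC : b ∈ C := hclose a haC b ⟨hb, commute_uniform hD hb hab' ha hq hnaq haq⟩ hab'
  have hpath := ih H E
    (lt_of_le_of_ne (Subgroup.card_le_card_group H) fun e => hHtop (Subgroup.eq_top_of_card_eq H e)) hroot hEconn
    ⟨⟨a, hCH haC⟩, haC, ⟨b, hCH hbC⟩, hbC, by rw [← Subgroup.orderOf_coe]; exact hab⟩
    ⟨a, hCH haC⟩ haC ⟨p, hCH hpC⟩ hpC
  have hdown : ∀ {v w : H}, ReflTransGen (ProdAdj E) v w → ReflTransGen (ProdAdj D) (v : G) (w : G) := by
    intro v w h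
    induction h with
    | refl => exact ReflTransGen.refl
    | tail _ h ih' =>
      exact ih'.tail ⟨h.1.1.1, h.2.1.1.1, fun e => h.2.2.1 (Subtype.ext e), congrArg Subtype.val h.2.2.2.1,
        h.2.2.2.2.1.1⟩
  exact hnap (hdown hpath)

/-- The induction step. -/
theorem step (hQ : QThm.{u}) (ih : Below.{u} (Nat.card G)) (hD : IsRootInvolutionSet D)
    (hconn : IsConnectedSet (OddAdj D) D) (h4 : ∃ a ∈ D, ∃ b ∈ D, orderOf (a * b) = 4) :
    IsConnectedSet (ProdAdj D) D := by
  obtain ⟨a₀, ha₀, b₀, hb₀, hab₀⟩ := h4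
  by_contra hnc
  have hfour : ∀ x ∈ D, ∃ y ∈ D, orderOf (x * y) = 4 := fun x hx => by
    obtain ⟨g, rfl⟩ := conj_of_connected hD hconn ha₀ hx
    refine ⟨g * b₀ * g⁻¹, hD.conj_mem b₀ hb₀ g, ?_⟩
    rw [show g * a₀ * g⁻¹ * (g * b₀ * g⁻¹) = (MulAut.conj g) (a₀ * b₀) by simp [mul_assoc], MulEquiv.orderOf_eq]
    exact hab₀
  -- commuting is transitive between components
  have hrel : ∀ x z : G, x ∈ D → ReflTransGen (CommAdj D) x z →
      ReflTransGen (ProdAdj D) x z ∨ x * z = z * x := by
    intro x z hx h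
    induction h with
    | refl => exact Or.inl ReflTransGen.refl
    | @tail y z _ hyz ih' =>
      obtain ⟨hy, hz, -, hyzc⟩ := hyz
      rcases em (ReflTransGen (ProdAdj D) x y) with hxy | hxy
      · by_cases hyz' : ReflTransGen (ProdAdj D) y z
        · exact Or.inl (hxy.trans hyz')
        · exact Or.inr (commute_uniform hD hx (pReach_symm hxy) hy hz hyz' hyzc)
      · have hxyc := ih'.resolve_left hxy
        by_cases hyz' : ReflTransGen (ProdAdj D) y z
        · exact Or.inr (commute_uniform hD hz hyz' hy hx (fun e => hxy (pReach_symm e)) hxyc.symm).symm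
        · by_cases hxz : ReflTransGen (ProdAdj D) x z
          · exact Or.inl hxz
          · rcases cross hD hx hz hxz with e | e
            · exact Or.inr e
            · obtain ⟨b, hb, hxb⟩ := hfour x hx
              exact (centralizer_step ih hD hconn hb hxb hy hxyc hxy e hxz hyzc).elim
  obtain ⟨a, p, hap, hnap⟩ : ∃ a p : G, OddAdj D a p ∧ ¬ ReflTransGen (ProdAdj D) a p := by
    by_contra h
    push Not at h
    refine hnc fun x hx y hy => ?_
    induction hconn x hx y hy with
    | refl => exact ReflTransGen.refl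
    | tail _ h' ih' => exact (ih' h'.1).trans (h _ _ h')
  have hncomm : ¬ IsConnectedSet (CommAdj D) D := fun hc => by
    rcases hrel a p hap.1 (hc a hap.1 p hap.2.1) with e | e
    · exact hnap e
    · exact hap.2.2.1 (eq_of_commute_odd hD hap.1 hap.2.1 e hap.2.2.2)
  have hl := line_left hD ha₀ hb₀ hab₀
  have hl' := line_right hD ha₀ hb₀ hab₀
  have hEE : (D ∩ commutingProducts D).Nonempty :=
    ⟨_, hl.2.2.2.2, _, hl.1, _, hl.2.1, hl.2.2.2.1, ne_one hD hl.2.2.2.2, rfl⟩
  obtain ⟨hs, hne, H, hH⟩ := CfsgLib.RootComm.quot hD hEE hncomm hQ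
  haveI := hs
  set π := QuotientGroup.mk' (twoZCore G)
  have hi : ∀ {d : G}, d ∈ D → IsInv (π d) := fun hd =>
    ⟨hne _ hd, by rw [← map_mul, mul_self hD hd, map_one]⟩
  have h := commute_of_common hH (hi hl.1) (hi hl'.1) (hi hl.2.1)
    (by rw [← map_mul, hl.2.2.2.1, map_mul]) (by rw [← map_mul, hl'.2.2.2.1, map_mul])
  refine hne _ hl.2.1 ?_
  rw [map_pow, map_mul, (show Commute (π a₀) (π b₀) from h).mul_pow, pow_two, pow_two, (hi hl.1).2, (hi hl'.1).2,
    one_mul]

theorem below (hQ : QThm.{u}) : ∀ n : ℕ, Below.{u} n := by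
  intro n
  induction n with
  | zero => exact fun H _ _ E h => absurd h (Nat.not_lt_zero _)
  | succ n ih =>
    intro H _ _ E h hE hc h4
    exact step hQ (fun K _ _ F hK => ih K F (by omega)) hE hc h4

/-- In a non-degenerate class the graph of opposite members is connected. -/
theorem odd_connected (hD : IsNondegenerateRootInvolutionSet D) (hcl : IsRootInvolutionClass D) :
    IsConnectedSet (OddAdj D) D := by
  obtain ⟨hD, -, ⟨a₀, ha₀, p₀, hp₀, hne₀, hodd₀⟩, -⟩ := hD
  have hiso : ∀ x ∈ D, ∃ y, OddAdj D x y := fun x hx => by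
    obtain ⟨g, rfl⟩ := hcl.2.2 a₀ ha₀ x hx
    exact ⟨_, odd_conj hD g ⟨ha₀, hp₀, hne₀, hodd₀⟩⟩
  obtain ⟨-, -, -, -, h5, -⟩ := Cfsg.Agent.S5045.result hD
  have hW : Subgroup.closure {w | IsIsolatedElem (OddAdj D) D w} = ⊥ := by
    rw [Subgroup.closure_eq_bot_iff]
    intro w hw
    obtain ⟨y, hy⟩ := hiso w hw.1
    exact absurd hy (hw.2 y).1
  have hne : ∀ x ∈ D, ∃ x' ∈ elemComponentOf (OddAdj D) D x, x' ≠ x := fun x hx => by
    obtain ⟨y, hy⟩ := hiso x hx
    exact ⟨y, ⟨hy.2.1, ReflTransGen.single hy⟩, hy.2.2.1.symm⟩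
  intro a ha b hb
  have htop : compStab hD a = ⊤ := by
    rw [eq_top_iff, ← hD.generates, Subgroup.closure_le]
    intro d hd
    show ReflTransGen (OddAdj D) a (d * a * d⁻¹)
    by_cases h : ReflTransGen (OddAdj D) a d
    · have := reach_conj hD d (reach_symm h)
      rw [mul_inv_cancel_right] at this
      exact h.trans this
    · have := h5 d hd a ha (hne d hd) (hne a ha) fun e => h (by
        have hd' : d ∈ elemComponentOf (OddAdj D) D d := ⟨hd, ReflTransGen.refl⟩
        rw [e] at hd'
        exact hd'.2)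
      rw [hW, Subgroup.mem_bot, mul_inv_eq_one] at this
      rw [this]
  obtain ⟨g, rfl⟩ := hcl.2.2 a ha b hb
  exact (htop ▸ Subgroup.mem_top g : g ∈ compStab hD a)

/-- A non-degenerate class has a connected graph of lines, given the theorem on hypothesis Q. -/
theorem prod_connected (hQ : QThm.{u}) (hD : IsNondegenerateRootInvolutionSet D) (hcl : IsRootInvolutionClass D) :
    IsConnectedSet (ProdAdj D) D :=
  below hQ (Nat.card G + 1) G D (Nat.lt_succ_self _) hD.1 (odd_connected hD hcl) hD.2.2.2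

theorem exists_line (hD : IsNondegenerateRootInvolutionSet D) (hcl : IsRootInvolutionClass D) {d : G} (hd : d ∈ D) :
    ∃ b, ProdAdj D d b := by
  obtain ⟨hD, -, -, a₀, ha₀, b₀, hb₀, h⟩ := hD
  obtain ⟨g, rfl⟩ := hcl.2.2 a₀ ha₀ d hd
  refine ⟨_, line_left hD (hD.conj_mem a₀ ha₀ g) (hD.conj_mem b₀ hb₀ g) ?_⟩
  rw [show g * a₀ * g⁻¹ * (g * b₀ * g⁻¹) = (MulAut.conj g) (a₀ * b₀) by simp [mul_assoc], MulEquiv.orderOf_eq]
  exact h

theorem mem_productPartners {d b : G} (hd : d ∈ D) : b ∈ productPartners D d ↔ ProdAdj D d b :=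
  ⟨fun h => ⟨hd, h.1.1, fun e => h.1.2.2 e.symm, h.1.2.1.symm, h.1.2.1 ▸ h.2⟩,
    fun h => ⟨⟨h.2.1, h.2.2.2.1.symm, h.2.2.1.symm⟩, h.2.2.2.1 ▸ h.2.2.2.2⟩⟩

theorem line_third (hD : IsRootInvolutionSet D) {d b : G} (h : ProdAdj D d b) : ProdAdj D d (d * b) := by
  have e : d * (d * b) = b := by rw [← mul_assoc, mul_self hD h.1, one_mul]
  refine ⟨h.1, h.2.2.2.2, fun e' => ne_one hD h.2.1 ?_, ?_, e.symm ▸ h.2.1⟩
  · rw [← e, ← e', mul_self hD h.1]
  · rw [e, mul_assoc, ← h.2.2.2.1, e]

/-- On a line through `d` one of the other two members is opposite to a given opposite of `d`. -/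
theorem opposite_on_line (hD : IsRootInvolutionSet D) {d b x : G} (hdb : ProdAdj D d b) (hx : OddAdj D d x)
    (hb : ¬ OddAdj D b x) : OddAdj D (d * b) x := by
  by_contra hc
  obtain ⟨hd, hbD, hne, hcomm, hcD⟩ := hdb
  set c := d * b with hcdef
  have hdd := mul_self hD hd
  have hxx := mul_self hD hx.2.1
  have hbb := mul_self hD hbD
  have hcc := mul_self hD hcD
  have hdc : d * c = b := by rw [hcdef, ← mul_assoc, hdd, one_mul]
  have hcd : c * d = b := by rw [hcdef, mul_assoc, ← hcomm, ← mul_assoc, hdd, one_mul]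
  have hfour : ∀ y ∈ D, y * d = d * y → y * d ∈ D → ¬ OddAdj D y x → orderOf (y * x) = 4 := by
    intro y hy hyd hydD hny
    rcases hD.pair y hy x hx.2.1 with e | e | ⟨e, -⟩
    · exact (no_translate hD hx (ne_one hD hy) hyd e hydD).elim
    · refine absurd (⟨hy, hx.2.1, fun e' => ?_, e⟩ : OddAdj D y x) hny
      exact hx.2.2.1 (eq_of_commute_odd hD hd hx.2.1 (e' ▸ hyd.symm) hx.2.2.2)
    · exact e
  have hb4 : orderOf (b * x) = 4 := hfour b hbD hcomm.symm (by rw [← hcomm]; exact hcD) hb
  have hc4 : orderOf (c * x) = 4 := hfour c hcD (hcd.trans hdc.symm) (by rw [hcd]; exact hbD) hc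
  obtain ⟨-, hfD, -, hbf, -⟩ := line_left hD hbD hx.2.1 hb4
  obtain ⟨-, -, -, hxf, -⟩ := line_right hD hbD hx.2.1 hb4
  obtain ⟨-, hgD, -, -, -⟩ := line_left hD hcD hx.2.1 hc4
  set f := (b * x) ^ 2 with hf
  set g := (c * x) ^ 2 with hg
  set t := d * x with ht
  set z := d * f with hz
  have hff := mul_self hD hfD
  have hbxb : b * x * b = f * x := by
    calc b * x * b = b * x * b * (x * x) := by rw [hxx, mul_one]
      _ = (b * x) ^ 2 * x := by rw [pow_two]; group
  -- the square of `d x`
  have ht2 : t * t = d * f * d * g := by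
    have h1 : c * f * c = d * f * d := by
      calc c * f * c = (d * b) * f * (b * d) := by rw [← hcdef, ← hcomm]
        _ = d * (b * f * b) * d := by group
        _ = d * f * d := by rw [hbf, mul_assoc f, hbb, mul_one]
    calc t * t = d * x * d * x := by rw [ht]; group
      _ = (c * b) * x * (b * c) * x := by
          rw [show c * b = d by rw [hcdef, mul_assoc, hbb, mul_one],
            show b * c = d by rw [hcomm, ← mul_assoc, hbb, one_mul]]
      _ = c * (b * x * b) * c * x := by group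
      _ = (c * f * c) * (c * x * c * x) := by
        rw [hbxb]
        calc c * (f * x) * c * x = c * f * 1 * x * c * x := by group
          _ = c * f * (c * c) * x * c * x := by rw [hcc]
          _ = _ := by group
      _ = d * f * d * g := by rw [h1, hg, pow_two]; group
  have hfi : (d * f * d) * (d * f * d) = 1 := by
    calc d * f * d * (d * f * d) = d * f * (d * d) * f * d := by group
      _ = 1 := by rw [hdd, mul_one, mul_assoc d f f, hff, mul_one, hdd]
  -- `d f` centralises the odd order element `d x`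
  obtain ⟨l, hl⟩ := hx.2.2.2
  rw [← ht] at hl
  have htpow : (t * t) ^ (l + 1) = t := by
    rw [← pow_two, ← pow_mul, show 2 * (l + 1) = (2 * l + 1) + 1 by ring, pow_succ, ← hl, pow_orderOf_eq_one,
      one_mul]
  have hdfd : (d * f * d)⁻¹ = d * f * d := inv_eq_of_mul_eq_one_right hfi
  have hinv2 : (d * f * d) * (t * t) * (d * f * d)⁻¹ = (t * t)⁻¹ := by
    rw [ht2, mul_inv_rev (d * f * d) g, inv_eq hD hgD, ← mul_assoc (d * f * d), hfi, one_mul]
  have hinv : (d * f * d) * t * (d * f * d)⁻¹ = t⁻¹ := by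
    nth_rewrite 1 [← htpow]
    rw [← conj_pow, hinv2, inv_pow, htpow]
  have hdt : d * t * d⁻¹ = t⁻¹ := by
    rw [ht, mul_inv_rev, inv_eq hD hx.2.1, inv_eq hD hd, ← mul_assoc, hdd, one_mul]
  have hzt : z * t = t * z := by
    refine mul_inv_eq_iff_eq_mul.mp ?_
    have e : z = (d * f * d) * d := by rw [hz, mul_assoc (d * f) d d, hdd, mul_one]
    rw [e]
    calc d * f * d * d * t * (d * f * d * d)⁻¹ = (d * f * d) * (d * t * d⁻¹) * (d * f * d)⁻¹ := by group
      _ = ((d * f * d) * t * (d * f * d)⁻¹)⁻¹ := by rw [hdt]; group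
      _ = t := by rw [hinv, inv_inv]
  rcases hD.pair d hd f hfD with e | e | ⟨e4, hmem⟩
  · -- commuting
    have hzd : Commute z d := by
      show z * d = d * z
      rw [hz, ← mul_assoc, hdd, one_mul, mul_assoc, ← e, ← mul_assoc, hdd, one_mul]
    have hzx : Commute z x := by
      rw [show x = d⁻¹ * t by rw [ht]; group]
      exact hzd.inv_right.mul_right hzt
    refine no_translate hD hx (fun e' => ?_) hzd hzx ?_
    · have hfd : f = d := by rw [← inv_eq hD hd]; exact eq_inv_of_mul_eq_one_right e'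
      exact hx.2.2.1 (eq_of_commute_odd hD hd hx.2.1 (hfd ▸ hxf.symm) hx.2.2.2)
    · rw [hz, mul_assoc, ← e, ← mul_assoc, hdd, one_mul]
      exact hfD
  · -- odd product
    have e1 : (t⁻¹ * z) * (t⁻¹ * z) = 1 := by
      rw [show t⁻¹ * z = x * f by
        rw [ht, hz, mul_inv_rev, inv_eq hD hx.2.1, inv_eq hD hd]
        calc x * d * (d * f) = x * (d * d) * f := by group
          _ = x * f := by rw [hdd, mul_one]]
      calc x * f * (x * f) = x * (f * x) * f := by group
        _ = (x * x) * (f * f) := by rw [← hxf]; group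
        _ = 1 := by rw [hxx, hff, one_mul]
    have hodd : Odd (orderOf (t⁻¹ * z)) := by
      have hc' : Commute t⁻¹ z := (show Commute z t from hzt).symm.inv_left
      exact Odd.of_dvd_nat ((show Odd (orderOf t⁻¹) by rw [orderOf_inv, hl]; exact ⟨l, rfl⟩).mul e)
        ((hc'.orderOf_mul_dvd_lcm).trans (Nat.lcm_dvd_mul _ _))
    have e2 : t = z := inv_mul_eq_one.mp (CfsgLib.Bender.TwoClosed.eq_one_of_two_odd (by rw [pow_two]; exact e1) hodd)
    have hxf' : x = f := mul_left_cancel (a := d) (by rw [← ht, e2, hz])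
    have hbx : (b * x) ^ 2 = 1 := by
      rw [(show Commute b x from hxf'.symm ▸ hbf).mul_pow, pow_two, pow_two, hbb, hxx, one_mul]
    have := Nat.le_of_dvd (by norm_num) (orderOf_dvd_of_pow_eq_one hbx)
    omega
  · -- order four
    obtain ⟨-, -, -, hdw, hdwD⟩ := line_left hD hd hfD e4
    set w := (d * f) ^ 2 with hw
    have hwt : Commute w t := (show Commute z t from hzt).pow_left 2
    have hwd : Commute w d := hdw.symm
    have hwx : Commute w x := by
      rw [show x = d⁻¹ * t by rw [ht]; group]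
      exact hwd.inv_right.mul_right hwt
    exact no_translate hD hx (ne_one hD hmem) hwd hwx (hwd.eq ▸ hdwD)

/-- A member moving one line partner to the third point. -/
theorem exists_mover (hD : IsRootInvolutionSet D) (hc : IsConnectedSet (OddAdj D) D) {a b : G} (hab : ProdAdj D a b)
    (hne : oddPartners D a ≠ oddPartners D b) :
    ∃ v ∈ D, v * b = b * v ∧ v * a * v = a * b ∧ (v ≠ b → ProdAdj D b v) := by
  obtain ⟨p, hp, hp'⟩ := exists_diff hD hc hab.1 hab.2.1 hne
  obtain ⟨v, hv, hvb, hvv⟩ := flip hD hab.2.1 hab.2.2.2.1 hab.2.2.2.2 hp hp'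
  have haa := mul_self hD hab.1
  refine ⟨v, hv, hvb, ?_, fun h => ⟨hab.2.1, hv, h.symm, hvb.symm, ?_⟩⟩
  · calc v * a * v = (a * a) * v * a * v := by rw [haa, one_mul]
      _ = a * (a * v * a * v) := by group
      _ = a * b := by rw [hvv]
  · have e : b * v = a * v * a⁻¹ := by
      rw [inv_eq hD hab.1]
      nth_rewrite 1 [← hvv]
      rw [mul_assoc _ v v, mul_self hD hv, mul_one]
    rw [e]
    exact hD.conj_mem v hv a

/-- Generation by the line partners of a member and one opposite member. -/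
theorem generated (hQ : QThm.{u}) (hD : IsNondegenerateRootInvolutionSet D) (hcl : IsRootInvolutionClass D)
    {d x : G} (hd : d ∈ D) (hx : x ∈ oddPartners D d) :
    Subgroup.closure (productPartners D d ∪ {x}) = ⊤ := by
  set H := Subgroup.closure (productPartners D d ∪ {x}) with hH
  have hR := hD.1
  have hc := odd_connected hD hcl
  have hxo : OddAdj D d x := (mem_oddPartners hd).mp hx
  have hXH : ∀ {b : G}, ProdAdj D d b → b ∈ H := fun hb =>
    Subgroup.subset_closure (Or.inl ((mem_productPartners hd).mpr hb))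
  have hxH : x ∈ H := Subgroup.subset_closure (Or.inr rfl)
  have hdH : d ∈ H := by
    obtain ⟨b, hb⟩ := exists_line hD hcl hd
    rw [show d = (d * b) * b by rw [mul_assoc, mul_self hR hb.2.1, mul_one]]
    exact mul_mem (hXH (line_third hR hb)) (hXH hb)
  have hdih : ∀ {p q : G}, p ∈ H → q ∈ H → OddAdj D p q → ∃ h ∈ H, q = h * p * h⁻¹ := fun hp hq h => by
    obtain ⟨g, hg, e⟩ := CfsgLib.RootComm.exists_conj_mem (CfsgLib.RootComm.odd2_of_root hR) h.1 h.2.1 h.2.2.2
    refine ⟨g, (Subgroup.closure_le H).mpr ?_ hg, e.symm⟩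
    rintro s (rfl | rfl) <;> assumption
  have hopp : ∀ {b : G}, ProdAdj D d b → OddAdj D b x → ∃ h ∈ H, b = h * d * h⁻¹ := fun hb hbx => by
    obtain ⟨h, hh, e⟩ := hdih hdH hxH hxo
    obtain ⟨k, hk, e'⟩ := hdih hxH (hXH hb) (odd_symm hbx)
    exact ⟨k * h, mul_mem hk hh, by rw [e', e]; group⟩
  have hkey : ∀ b, ProdAdj D d b → ∃ h ∈ H, b = h * d * h⁻¹ := by
    intro b hb
    by_cases hbx : OddAdj D b x
    · exact hopp hb hbx
    obtain ⟨h, hh, e⟩ := hopp (line_third hR hb) (opposite_on_line hR hb hxo hbx)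
    obtain ⟨v, hv, hvd, hvb, hvX⟩ := exists_mover hR hc (pAdj_symm hb) fun e' =>
      hbx ((mem_oddPartners hb.2.1).mp (e'.symm ▸ hx))
    have hvH : v ∈ H := by
      by_cases hvd' : v = d
      · rw [hvd']; exact hdH
      · exact hXH (hvX hvd')
    refine ⟨v * h, mul_mem hvH hh, ?_⟩
    have hvv := mul_self hR hv
    calc b = (v * v) * b * (v * v) := by rw [hvv, one_mul, mul_one]
      _ = v * (v * b * v) * v := by group
      _ = v * (h * d * h⁻¹) * v⁻¹ := by rw [hvb, ← hb.2.2.2.1, e, inv_eq hR hv]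
      _ = v * h * d * (v * h)⁻¹ := by group
  have hall : ∀ e ∈ D, ∃ h ∈ H, e = h * d * h⁻¹ := by
    intro e he
    induction prod_connected hQ hD hcl d hd e he with
    | refl => exact ⟨1, one_mem _, by group⟩
    | @tail y z _ hyz ih =>
      obtain ⟨h, hh, rfl⟩ := ih hyz.1
      have hz : ProdAdj D d (h⁻¹ * z * h) := by
        have hz' : h⁻¹ * z * h ∈ D := by simpa using hR.conj_mem z hyz.2.1 h⁻¹
        refine ⟨hd, hz', fun e' => hyz.2.2.1 (by rw [e']; group), ?_, ?_⟩
        · calc d * (h⁻¹ * z * h) = h⁻¹ * ((h * d * h⁻¹) * z) * h := by group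
            _ = h⁻¹ * (z * (h * d * h⁻¹)) * h := by rw [hyz.2.2.2.1]
            _ = _ := by group
        · have := hR.conj_mem _ hyz.2.2.2.2 h⁻¹
          rwa [show h⁻¹ * (h * d * h⁻¹ * z) * h⁻¹⁻¹ = d * (h⁻¹ * z * h) by group] at this
      obtain ⟨k, hk, e'⟩ := hkey _ hz
      exact ⟨h * k, mul_mem hh hk, by rw [show z = h * (h⁻¹ * z * h) * h⁻¹ by group, e']; group⟩
  rw [eq_top_iff, ← hR.generates, Subgroup.closure_le]
  intro e he
  obtain ⟨h, hh, rfl⟩ := hall e he
  exact mul_mem (mul_mem hh hdH) (inv_mem hh)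

/-- A weak TI subset of a non-degenerate class generates an abelian group. -/
theorem weakTI_abelian (hQ : QThm.{u}) (hD : IsNondegenerateRootInvolutionSet D) (hcl : IsRootInvolutionClass D)
    {T : Set G} (hT : IsWeakTISubsetOfElements D T) : IsMulCommutative ↥(Subgroup.closure T) := by
  obtain ⟨hsub, -, hne, hTI⟩ := hT
  have hR := hD.1
  have hc := odd_connected hD hcl
  let K : Subgroup G :=
    { carrier := {g | (fun t => g * t * g⁻¹) '' T = T}
      one_mem' := by show _ = T; simp
      mul_mem' := fun {g h} hg hh => by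
        show _ = T
        rw [show (fun t => g * h * t * (g * h)⁻¹) = (fun t => g * t * g⁻¹) ∘ fun t => h * t * h⁻¹ by
          funext t; simp [mul_assoc], Set.image_comp, hh, hg]
      inv_mem' := fun {g} hg => by
        show _ = T
        conv_lhs => rw [← (hg : (fun t => g * t * g⁻¹) '' T = T)]
        simp [Set.image_image, mul_assoc] }
  have hfix : ∀ t ∈ T, ∀ d ∈ D, d * t = t * d → d ∈ K := fun t ht d hd hdt => by
    rcases hTI d hd with h | h
    · exact h
    · exact absurd ht fun ht' =>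
        (Set.disjoint_left.mp h) ⟨t, ht', rfl⟩ (by show d * t * d⁻¹ ∈ T; rwa [show d * t * d⁻¹ = t by rw [hdt, mul_inv_cancel_right]])
  have hmove : ∀ g ∈ K, ∀ t ∈ T, g * t * g⁻¹ ∈ T := fun g hg t ht => by
    have h : g * t * g⁻¹ ∈ (fun t => g * t * g⁻¹) '' T := ⟨t, ht, rfl⟩
    rwa [(hg : (fun t => g * t * g⁻¹) '' T = T)] at h
  have hnopair : ∀ P ∈ T, ∀ Q ∈ T, ¬ OddAdj D P Q := by
    intro P hP Q hQ' hPQ
    apply hne
    have htop : K = ⊤ := by
      rw [eq_top_iff, ← generated hQ hD hcl (hsub hP) ((mem_oddPartners (hsub hP)).mpr hPQ), Subgroup.closure_le]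
      rintro s (hs | rfl)
      · exact hfix P hP s hs.1.1 hs.1.2.1
      · exact hfix _ hQ' _ (hsub hQ') rfl
    refine Set.Subset.antisymm hsub fun e he => ?_
    obtain ⟨g, rfl⟩ := hcl.2.2 P (hsub hP) e he
    exact hmove g (htop ▸ Subgroup.mem_top g) P hP
  have key : ∀ A ∈ T, ∀ B ∈ T, orderOf (A * B) = 4 → oddPartners D ((A * B) ^ 2) ≠ oddPartners D A → False := by
    intro A hA B hB h4 hdiff
    obtain ⟨-, hfD, hAf, hAfc, hAfD⟩ := line_left hR (hsub hA) (hsub hB) h4
    obtain ⟨-, -, -, hBf, -⟩ := line_right hR (hsub hA) (hsub hB) h4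
    set f := (A * B) ^ 2 with hf
    obtain ⟨v, hv, hvA, hvf, -⟩ := exists_mover hR hc (pAdj_symm ⟨hsub hA, hfD, hAf, hAfc, hAfD⟩) hdiff
    have hAA := mul_self hR (hsub hA)
    have hxu : B * A * B = A * f := by
      calc B * A * B = (A * A) * (B * A * B) := by rw [hAA, one_mul]
        _ = A * f := by rw [hf, pow_two]; group
    have h3 := order_three hR (hsub hB) hv (ne_one hR (hsub hA)) (ne_one hR hfD) hAA hAf hAfc (hsub hA) hxu hBf
      hvf hvA
    have hvK : v ∈ K := hfix A hA v hv hvA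
    have hB' : v * B * v⁻¹ ∈ T := hmove v hvK B hB
    rw [inv_eq hR hv] at hB'
    refine hnopair B hB _ hB' ⟨hsub hB, hsub hB', fun e => ?_, ?_⟩
    · have h2 : (B * v) ^ 2 = 1 := by
        calc (B * v) ^ 2 = B * (v * B * v) := by rw [pow_two]; group
          _ = 1 := by rw [← e, mul_self hR (hsub hB)]
      have := orderOf_dvd_of_pow_eq_one h2
      rw [h3] at this
      exact absurd this (by decide)
    · rw [show B * (v * B * v) = (B * v) ^ 2 by rw [pow_two]; group]
      exact Odd.of_dvd_nat (by rw [h3]; decide) (orderOf_pow_dvd 2)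
  have hpair : ∀ A ∈ T, ∀ B ∈ T, A * B = B * A := by
    intro A hA B hB
    rcases hR.pair A (hsub hA) B (hsub hB) with e | e | ⟨e, -⟩
    · exact e
    · by_contra hAB
      exact hnopair A hA B hB ⟨hsub hA, hsub hB, fun e' => hAB (by rw [e']), e⟩
    · by_cases h1 : oddPartners D ((A * B) ^ 2) = oddPartners D A
      · by_cases h2 : oddPartners D ((B * A) ^ 2) = oddPartners D B
        · refine commute_of_sameOdd hR hc (hsub hA) (hsub hB) ?_
          rw [← h1, ← h2, sq_swap hR (hsub hA) (hsub hB) e]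
        · exact (key B hB A hA (by rw [orderOf_mul_comm]; exact e) h2).elim
      · exact (key A hA B hB e h1).elim
  exact Subgroup.isMulCommutative_closure hpair

end CfsgLib.RootProd
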