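import Mathlib
import Cfsg.Agent.Lib.RootSub.Central

/-!
Rank one groups acting quadratically on an abelian group.
-/

set_option autoImplicit false

namespace CfsgLib.RootSub.Quadratic

open Cfsg

variable {X : Type*} [Group X] {A B : Subgroup X} {N : Type*} [AddCommGroup N] [DistribMulAction X N]

/-- `v` is fixed by every element of `H`. -/
def Fixed (H : Subgroup X) (v : N) : Prop := ∀ g ∈ H, g • v = v

theorem fixed_add {H : Subgroup X} {u v : N} (hu : Fixed H u) (hv : Fixed H v) : Fixed H (u + v) :=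
  fun g hg => by rw [smul_add, hu g hg, hv g hg]

theorem fixed_neg {H : Subgroup X} {u : N} (hu : Fixed H u) : Fixed H (-u) :=
  fun g hg => by rw [smul_neg, hu g hg]

theorem fixed_sub {H : Subgroup X} {u v : N} (hu : Fixed H u) (hv : Fixed H v) : Fixed H (u - v) :=
  fun g hg => by rw [smul_sub, hu g hg, hv g hg]

theorem fixed_conj {H : Subgroup X} {g : X} {v : N} (h : Fixed H (g⁻¹ • v)) : Fixed (conjBy H g) v := by
  rintro _ ⟨x, hx, rfl⟩
  show (g * x * g⁻¹) • v = v
  rw [mul_smul, mul_smul, h x hx, smul_inv_smul]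

theorem fixed_all (htop : A ⊔ B = ⊤) {v : N} (hA : Fixed A v) (hB : Fixed B v) (g : X) : g • v = v := by
  have hle : A ⊔ B ≤ MulAction.stabilizer X v := sup_le (fun x hx => hA x hx) (fun x hx => hB x hx)
  rw [htop] at hle
  exact hle (Subgroup.mem_top g)

/-- Quadratic action of `A`. -/
def Quad (N : Type*) [AddCommGroup N] [DistribMulAction X N] (A : Subgroup X) : Prop :=
  ∀ a ∈ A, ∀ n : N, Fixed A (a • n - n)

theorem quad_right (h : IsRankOnePair A B) (hq : Quad N A) : Quad N B := by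
  obtain ⟨x, -, e⟩ := mem_unipotent_iff.mp (right_mem_unipotent h)
  intro b hb n
  rw [e] at hb ⊢
  obtain ⟨a, ha, rfl⟩ := hb
  apply fixed_conj
  show Fixed A (x⁻¹ • ((x * a * x⁻¹) • n - n))
  rw [smul_sub, mul_smul, mul_smul, inv_smul_smul]
  exact hq a ha _

theorem pow_smul_eq (hq : Quad N A) {a : X} (ha : a ∈ A) (v : N) (k : ℕ) :
    (a ^ k) • v = v + k • (a • v - v) := by
  induction k with
  | zero => rw [pow_zero, one_smul, zero_nsmul, add_zero]
  | succ k ih =>
    have hk : a • (k • (a • v - v)) = k • (a • v - v) := by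
      rw [smul_comm a k, hq a ha v a ha]
    rw [pow_succ', mul_smul, ih, smul_add, hk, succ_nsmul]
    abel

/-- The basic identity on fixed points of `A`. -/
theorem rel (htop : A ⊔ B = ⊤) (h : IsRankOnePair A B) (hq : Quad N A) {a b : X} (ha : a ∈ A) (hb : b ∈ B)
    (e : conjBy A b⁻¹ = conjBy B a⁻¹) {c : N} (hc : Fixed A c) :
    ∀ g : X, g • (c + (a • (b⁻¹ • c - c) - (b⁻¹ • c - c))) = c + (a • (b⁻¹ • c - c) - (b⁻¹ • c - c)) := by
  have hqB := quad_right h hq
  refine fixed_all htop (fixed_add hc (hq a ha _)) ?_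
  have h1 : Fixed (conjBy A b⁻¹) (b⁻¹ • c) := fixed_conj (by rw [inv_inv, smul_inv_smul]; exact hc)
  rw [e] at h1
  have h2 : Fixed B (a • (b⁻¹ • c)) := by
    intro y hy
    have h3 := h1 _ (conjBy_mem (g := a⁻¹) hy)
    rw [inv_inv, mul_smul, mul_smul, inv_smul_eq_iff] at h3
    exact h3
  have h4 : c + (a • (b⁻¹ • c - c) - (b⁻¹ • c - c)) = a • (b⁻¹ • c) - (b⁻¹ • c - c) := by
    rw [smul_sub, hc a ha]; abel
  rw [h4]
  exact fixed_sub h2 (hqB _ (inv_mem hb) c)

/-- A non-identity element of `A` acting trivially modulo the fixed points forces the whole group to do so. -/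
theorem trivial_mod (htop : A ⊔ B = ⊤) (h : IsRankOnePair A B) (hq : Quad N A) {z : X} (hz : z ∈ A) (hz1 : z ≠ 1)
    (hzn : ∀ n : N, ∀ g : X, g • (z • n - n) = z • n - n) :
    ∀ x : X, ∀ n : N, ∀ g : X, g • (x • n - n) = x • n - n := by
  have hqB := quad_right h hq
  obtain ⟨b, hb, -, e⟩ := h.cond_left z hz hz1
  have hB : ∀ y ∈ B, ∀ n : N, ∀ g : X, g • (y • n - n) = y • n - n := by
    intro y hy n
    have hy' : z⁻¹ * y * z⁻¹⁻¹ ∈ conjBy A b⁻¹ := e ▸ conjBy_mem hy
    obtain ⟨a', ha', ea'⟩ := hy'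
    have ey : b⁻¹ * a' * b = z⁻¹ * y * z := by simpa using ea'
    refine fixed_all htop ?_ (hqB y hy n)
    set c := a' • (b • n) - b • n with hcdef
    have hc : Fixed A c := hq a' ha' _
    set e₁ := z • n - n with he₁
    set e₂ := z • (z⁻¹ • (y • n)) - z⁻¹ • (y • n) with he₂
    have hd : Fixed B (y • n - n) := hqB y hy n
    have k1 : b⁻¹ • c = (z⁻¹ * y * z) • n - n := by
      rw [hcdef, smul_sub, inv_smul_smul, ← ey, mul_smul, mul_smul]
    have k2 : (z⁻¹ * y * z) • n - n = (y • n - n) + (e₁ - e₂) := by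
      have hzn' : z • n = n + e₁ := by rw [he₁]; abel
      rw [mul_smul, mul_smul, hzn', smul_add, hzn n y, smul_add, hzn n z⁻¹, he₂, smul_inv_smul]
      simp only [he₁]
      abel
    have hfix : ∀ g : X, g • (e₁ - e₂) = e₁ - e₂ := fun g => by rw [smul_sub, hzn, hzn]
    have k3 : c = (y • n - n) + (e₁ - e₂) := by
      have := congrArg (fun v => b • v) (k1.trans k2)
      simp only [smul_inv_smul] at this
      rw [this, smul_add, hd b hb, hfix]
    have k4 : y • n - n = c - (e₁ - e₂) := by rw [k3]; abel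
    rw [k4]
    exact fixed_sub hc (fun g _ => hfix g)
  let K : Subgroup X :=
    { carrier := {x | ∀ n : N, ∀ g : X, g • (x • n - n) = x • n - n}
      one_mem' := fun n g => by simp
      mul_mem' := fun {x y} hx hy n g => by
        have : (x * y) • n - n = (x • (y • n) - y • n) + (y • n - n) := by rw [mul_smul]; abel
        rw [this, smul_add, hx, hy]
      inv_mem' := fun {x} hx n g => by
        have : x⁻¹ • n - n = -(x • (x⁻¹ • n) - x⁻¹ • n) := by rw [smul_inv_smul]; abel
        rw [this, smul_neg, hx] }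
  have hBK : B ≤ K := fun y hy => hB y hy
  obtain ⟨w, -, eA⟩ := mem_unipotent_iff.mp (right_mem_unipotent h)
  have hAK : A ≤ K := fun a ha n g => by
    have h1 := hB (w * a * w⁻¹) (eA ▸ conjBy_mem ha) (w • n)
    have h2 : (w * a * w⁻¹) • w • n - w • n = w • (a • n - n) := by
      rw [mul_smul, mul_smul, inv_smul_smul, smul_sub]
    rw [h2] at h1
    have h3 : ∀ g : X, g • (a • n - n) = w • (a • n - n) := fun g => by
      calc g • (a • n - n) = (g * w⁻¹) • (w • (a • n - n)) := by rw [mul_smul, inv_smul_smul]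
        _ = w • (a • n - n) := h1 _
    rw [h3 g]
    exact ((h3 1).symm.trans (one_smul X _))
  intro x
  have hle : A ⊔ B ≤ K := sup_le hAK hBK
  rw [htop] at hle
  exact hle (Subgroup.mem_top x)

end CfsgLib.RootSub.Quadratic
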