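import Mathlib

/-!
The Steinberg relations present `SL₂` over a finite field.
-/

set_option autoImplicit false
set_option backward.isDefEq.respectTransparency.types false
set_option backward.isDefEq.respectTransparency false

namespace CfsgLib.RootSub.SL2Rel

open Matrix

variable {G : Type*} [Group G] {F : Type*} [Field F]

/-- The element `x(t) y(-1/t) x(t)`. -/
def ww (x y : F → G) (t : F) : G := x t * y (-t⁻¹) * x t

/-- The element `w(t) w(-1)`. -/
def hh (x y : F → G) (t : F) : G := ww x y t * ww x y (-1)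

/-- The relations. -/
structure Rel (x y : F → G) : Prop where
  x_add : ∀ r s, x (r + s) = x r * x s
  y_add : ∀ r s, y (r + s) = y r * y s
  conj_x : ∀ t r, t ≠ 0 → ww x y t * x r * (ww x y t)⁻¹ = y (-r / t ^ 2)
  conj_y : ∀ t r, t ≠ 0 → ww x y t * y r * (ww x y t)⁻¹ = x (-(t ^ 2) * r)

variable {x y : F → G}

theorem x_zero (R : Rel x y) : x 0 = 1 := by
  have h := R.x_add 0 0
  rw [add_zero] at h
  exact left_eq_mul.mp h

theorem y_zero (R : Rel x y) : y 0 = 1 := by
  have h := R.y_add 0 0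
  rw [add_zero] at h
  exact left_eq_mul.mp h

theorem x_neg (R : Rel x y) (r : F) : x (-r) = (x r)⁻¹ :=
  eq_inv_of_mul_eq_one_left (by rw [← R.x_add, neg_add_cancel, x_zero R])

theorem y_neg (R : Rel x y) (r : F) : y (-r) = (y r)⁻¹ :=
  eq_inv_of_mul_eq_one_left (by rw [← R.y_add, neg_add_cancel, y_zero R])

theorem w_neg (R : Rel x y) (t : F) : ww x y (-t) = (ww x y t)⁻¹ := by
  simp only [ww, inv_neg, x_neg R, y_neg R, _root_.mul_inv_rev, inv_inv, mul_assoc]

theorem conj_w (R : Rel x y) {s t : F} (hs : s ≠ 0) (ht : t ≠ 0) :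
    ww x y s * ww x y t * (ww x y s)⁻¹ = y (-t / s ^ 2) * x (s ^ 2 * t⁻¹) * y (-t / s ^ 2) := by
  have e : ww x y s * ww x y t * (ww x y s)⁻¹ = (ww x y s * x t * (ww x y s)⁻¹) *
      (ww x y s * y (-t⁻¹) * (ww x y s)⁻¹) * (ww x y s * x t * (ww x y s)⁻¹) := by
    simp only [ww]; group
  rw [e, R.conj_x s t hs, R.conj_y s _ hs, neg_mul_neg]

theorem w_alt (R : Rel x y) {t : F} (ht : t ≠ 0) : ww x y t = y (-t⁻¹) * x t * y (-t⁻¹) := by
  have h := conj_w R ht ht
  rw [mul_inv_cancel_right, show -t / t ^ 2 = -t⁻¹ by field_simp,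
    show t ^ 2 * t⁻¹ = t by field_simp] at h
  exact h

theorem conj_w' (R : Rel x y) {s t : F} (hs : s ≠ 0) (ht : t ≠ 0) :
    ww x y s * ww x y t * (ww x y s)⁻¹ = ww x y (s ^ 2 / t) := by
  rw [conj_w R hs ht, w_alt R (div_ne_zero (pow_ne_zero 2 hs) ht), inv_div, ← div_eq_mul_inv, neg_div]

theorem h_x (R : Rel x y) {t : F} (ht : t ≠ 0) (r : F) :
    hh x y t * x r * (hh x y t)⁻¹ = x (t ^ 2 * r) := by
  have e : hh x y t * x r * (hh x y t)⁻¹ =
      ww x y t * (ww x y (-1) * x r * (ww x y (-1))⁻¹) * (ww x y t)⁻¹ := by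
    simp only [hh]; group
  rw [e, R.conj_x (-1) r (neg_ne_zero.mpr one_ne_zero), R.conj_y t _ ht]
  congr 1
  ring

theorem h_y (R : Rel x y) {t : F} (ht : t ≠ 0) (r : F) :
    hh x y t * y r * (hh x y t)⁻¹ = y (r / t ^ 2) := by
  have e : hh x y t * y r * (hh x y t)⁻¹ =
      ww x y t * (ww x y (-1) * y r * (ww x y (-1))⁻¹) * (ww x y t)⁻¹ := by
    simp only [hh]; group
  rw [e, R.conj_y (-1) r (neg_ne_zero.mpr one_ne_zero), R.conj_x t _ ht]
  congr 1
  ring

theorem h_w (R : Rel x y) {s : F} (hs : s ≠ 0) (t : F) :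
    hh x y s * ww x y t * (hh x y s)⁻¹ = ww x y (s ^ 2 * t) := by
  have e : hh x y s * ww x y t * (hh x y s)⁻¹ = (hh x y s * x t * (hh x y s)⁻¹) *
      (hh x y s * y (-t⁻¹) * (hh x y s)⁻¹) * (hh x y s * x t * (hh x y s)⁻¹) := by
    simp only [ww]; group
  rw [e, h_x R hs, h_y R hs, ww, mul_inv, neg_div, div_eq_mul_inv, mul_comm (s ^ 2)⁻¹ t⁻¹]

theorem h_one (R : Rel x y) : hh x y 1 = 1 := by
  rw [hh, w_neg R, mul_inv_cancel]

theorem h_conj_h (R : Rel x y) {s : F} (hs : s ≠ 0) (t : F) :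
    hh x y s * hh x y t * (hh x y s)⁻¹ = hh x y (s ^ 2 * t) * (hh x y (s ^ 2))⁻¹ := by
  calc hh x y s * hh x y t * (hh x y s)⁻¹
      = (hh x y s * ww x y t * (hh x y s)⁻¹) * (hh x y s * ww x y (-1) * (hh x y s)⁻¹) := by
        simp only [hh]; group
    _ = ww x y (s ^ 2 * t) * ww x y (-(s ^ 2)) := by rw [h_w R hs, h_w R hs, mul_neg_one]
    _ = _ := by
        have h : ww x y (-(s ^ 2)) = (ww x y (s ^ 2))⁻¹ := w_neg R _
        simp only [hh, h]; group

/-- The key relation. -/
theorem h_mul_of_add (R : Rel x y) {u v : F} (hu : u ≠ 0) (hv : v ≠ 0) (huv : u + v = 1) :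
    hh x y u * hh x y v = hh x y (u * v) := by
  have hy : ∀ t : F, y (-t⁻¹) = x (-t) * ww x y t * x (-t) := by
    intro t; simp only [ww, x_neg R]; group
  have hsum : y (-u⁻¹) * y (-v⁻¹) = y (-(u * v)⁻¹) := by
    rw [← R.y_add]
    congr 1
    field_simp
    linear_combination huv * (-1 : F)
  rw [hy u, hy v, hy (u * v)] at hsum
  have hm1 : x (-1) = y (-1) * ww x y (-1) * y (-1) := by
    rw [w_alt R (neg_ne_zero.mpr (one_ne_zero (α := F))), inv_neg, inv_one, neg_neg, y_neg R 1]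
    group
  have hwu : ww x y u * y (-1) = x (u ^ 2) * ww x y u := by
    have h := R.conj_y u (-1) hu
    rw [mul_inv_eq_iff_eq_mul] at h
    rw [h, neg_mul_neg, mul_one]
  have hwv : y (-1) * ww x y v = ww x y v * x (v ^ 2) := by
    have h := R.conj_y (-v) (-1) (neg_ne_zero.mpr hv)
    rw [neg_mul_neg, mul_one, neg_sq, w_neg R, inv_inv] at h
    rw [← h]; group
  have key : x (u ^ 2 - u) * (ww x y u * ww x y (-1) * ww x y v) * x (v ^ 2 - v) =
      x (-(u * v)) * ww x y (u * v) * x (-(u * v)) := by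
    rw [← hsum]
    calc x (u ^ 2 - u) * (ww x y u * ww x y (-1) * ww x y v) * x (v ^ 2 - v)
        = x (-u) * (x (u ^ 2) * ww x y u) * ww x y (-1) * (ww x y v * x (v ^ 2)) * x (-v) := by
          rw [show u ^ 2 - u = -u + u ^ 2 by ring, show v ^ 2 - v = v ^ 2 + -v by ring, R.x_add, R.x_add]
          group
      _ = x (-u) * ww x y u * (y (-1) * ww x y (-1) * y (-1)) * ww x y v * x (-v) := by
          rw [← hwu, ← hwv]; group
      _ = x (-u) * ww x y u * (x (-u) * x (-v)) * ww x y v * x (-v) := by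
          rw [← hm1, ← R.x_add, show -u + -v = -1 by linear_combination -huv]
      _ = _ := by group
  rw [show u ^ 2 - u = -(u * v) by linear_combination u * huv,
    show v ^ 2 - v = -(u * v) by linear_combination v * huv] at key
  have key' := mul_left_cancel (mul_right_cancel key)
  calc hh x y u * hh x y v = ww x y u * ww x y (-1) * ww x y v * ww x y (-1) := by simp only [hh, mul_assoc]
    _ = hh x y (u * v) := by rw [key']; rfl

/-- The subgroup generated by the two families. -/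
def gen (x y : F → G) : Subgroup G := Subgroup.closure (Set.range x ∪ Set.range y)

theorem x_mem (r : F) : x r ∈ gen x y := Subgroup.subset_closure (Or.inl ⟨r, rfl⟩)

theorem y_mem (r : F) : y r ∈ gen x y := Subgroup.subset_closure (Or.inr ⟨r, rfl⟩)

theorem h_mem (t : F) : hh x y t ∈ gen x y :=
  mul_mem (mul_mem (mul_mem (x_mem t) (y_mem _)) (x_mem t)) (mul_mem (mul_mem (x_mem _) (y_mem _)) (x_mem _))

theorem commute_gen {z : G} (hx : ∀ r, z * x r = x r * z) (hy : ∀ r, z * y r = y r * z) {g : G}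
    (hg : g ∈ gen x y) : z * g = g * z := by
  have hle : gen x y ≤ Subgroup.centralizer {z} := by
    rw [gen, Subgroup.closure_le]
    rintro _ (⟨r, rfl⟩ | ⟨r, rfl⟩)
    · exact Subgroup.mem_centralizer_singleton_iff.mpr (hx r).symm
    · exact Subgroup.mem_centralizer_singleton_iff.mpr (hy r).symm
  exact (Subgroup.mem_centralizer_singleton_iff.mp (hle hg)).symm

theorem h_comm [Fintype F] (R : Rel x y) {s t : F} (hs : s ≠ 0) (ht : t ≠ 0) :
    hh x y s * hh x y t = hh x y t * hh x y s := by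
  classical
  obtain ⟨g, hg⟩ := IsCyclic.exists_generator (α := Fˣ)
  set e := hh x y (g : F) with he
  have hpx : ∀ (k : ℕ) (r : F), e ^ k * x r = x (((g : F) ^ k) ^ 2 * r) * e ^ k := by
    intro k
    induction k with
    | zero => intro r; simp
    | succ k ih =>
      intro r
      have h := mul_inv_eq_iff_eq_mul.mp (h_x R g.ne_zero r)
      rw [← he] at h
      rw [pow_succ e, mul_assoc, h, ← mul_assoc, ih, mul_assoc]
      congr 2
      ring
  have hpy : ∀ (k : ℕ) (r : F), e ^ k * y r = y (r / ((g : F) ^ k) ^ 2) * e ^ k := by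
    intro k
    induction k with
    | zero => intro r; simp
    | succ k ih =>
      intro r
      have h := mul_inv_eq_iff_eq_mul.mp (h_y R g.ne_zero r)
      rw [← he] at h
      rw [pow_succ e, mul_assoc, h, ← mul_assoc, ih, mul_assoc]
      congr 2
      rw [div_div]; congr 1; ring
  have dec : ∀ a : F, a ≠ 0 → ∃ k : ℕ, ∃ z, z ∈ gen x y ∧ (∀ r, z * x r = x r * z) ∧
      (∀ r, z * y r = y r * z) ∧ hh x y a = e ^ k * z := by
    intro a ha
    obtain ⟨k, hk⟩ := (IsOfFinOrder.mem_powers_iff_mem_zpowers (isOfFinOrder_of_finite g)).mpr (hg (Units.mk0 a ha))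
    have hk' : (g : F) ^ k = a := by
      have := congrArg Units.val hk
      simpa using this
    refine ⟨k, (e ^ k)⁻¹ * hh x y a, mul_mem (inv_mem (Subgroup.pow_mem _ (h_mem _) k)) (h_mem a), ?_, ?_,
      (mul_inv_cancel_left _ _).symm⟩
    · intro r
      rw [mul_assoc, mul_inv_eq_iff_eq_mul.mp (h_x R ha r), ← mul_assoc, ← mul_assoc]
      congr 1
      rw [inv_mul_eq_iff_eq_mul, ← mul_assoc, hpx, hk', mul_assoc, mul_inv_cancel, mul_one]
    · intro r
      rw [mul_assoc, mul_inv_eq_iff_eq_mul.mp (h_y R ha r), ← mul_assoc, ← mul_assoc]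
      congr 1
      rw [inv_mul_eq_iff_eq_mul, ← mul_assoc, hpy, hk', mul_assoc, mul_inv_cancel, mul_one]
  obtain ⟨i, z, hz, hzx, hzy, e1⟩ := dec s hs
  obtain ⟨j, z', hz', hz'x, hz'y, e2⟩ := dec t ht
  have c1 : Commute z (e ^ j * z') := commute_gen hzx hzy (mul_mem (Subgroup.pow_mem _ (h_mem _) j) hz')
  have c2 : Commute z' (e ^ i) := commute_gen hz'x hz'y (Subgroup.pow_mem _ (h_mem _) i)
  rw [e1, e2]
  exact (((Commute.pow_pow_self e i j).mul_right c2.symm).mul_left c1).eq

theorem h_sq [Fintype F] (R : Rel x y) {s t : F} (hs : s ≠ 0) (ht : t ≠ 0) :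
    hh x y (s ^ 2) * hh x y t = hh x y (s ^ 2 * t) := by
  have h := h_conj_h R hs t
  rw [h_comm R hs ht, mul_inv_cancel_right] at h
  rw [h_comm R (pow_ne_zero 2 hs) ht, h, inv_mul_cancel_right]

theorem exists_pair [Fintype F] (h : ∃ u : F, ¬ IsSquare u) : ∃ u : F, ¬ IsSquare u ∧ ¬ IsSquare (1 - u) := by
  classical
  obtain ⟨u₀, hu₀⟩ := h
  have hu00 : u₀ ≠ 0 := fun e => hu₀ (by rw [e]; exact ⟨0, by simp⟩)
  by_contra hno
  push Not at hno
  let N : Finset F := Finset.univ.filter fun u => ¬ IsSquare u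
  let S : Finset F := Finset.univ.filter fun u => IsSquare u ∧ u ≠ 0
  have h1 : S.card ≤ N.card := by
    refine Finset.card_le_card_of_injOn (fun s => u₀ * s) ?_ (fun a _ b _ e => mul_left_cancel₀ hu00 e)
    intro s hs
    simp only [S, Finset.coe_filter, Finset.mem_univ, true_and, Set.mem_ofPred_eq] at hs
    simp only [N, Finset.coe_filter, Finset.mem_univ, true_and, Set.mem_ofPred_eq]
    intro hsq
    have := hsq.div hs.1
    rw [mul_div_cancel_right₀ _ hs.2] at this
    exact hu₀ this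
  have h2 : N.card ≤ (S.erase 1).card := by
    refine Finset.card_le_card_of_injOn (fun u => 1 - u) ?_ (fun a _ b _ e => sub_right_injective e)
    intro u hu
    simp only [N, Finset.coe_filter, Finset.mem_univ, true_and, Set.mem_ofPred_eq] at hu
    simp only [S, Finset.coe_erase, Set.mem_diff, Set.mem_singleton_iff, Finset.coe_filter,
      Finset.mem_univ, true_and, Set.mem_ofPred_eq]
    refine ⟨⟨hno u hu, fun e => hu ?_⟩, fun e => hu ?_⟩
    · rw [← sub_eq_zero.mp e]; exact IsSquare.one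
    · rw [sub_eq_self.mp e]; exact ⟨0, by simp⟩
  have h3 : (1 : F) ∈ S := by simp [S]
  have := Finset.card_erase_lt_of_mem h3
  omega

theorem h_mul [Fintype F] (R : Rel x y) {s t : F} (hs : s ≠ 0) (ht : t ≠ 0) :
    hh x y s * hh x y t = hh x y (s * t) := by
  by_cases h1 : IsSquare s
  · obtain ⟨r, rfl⟩ := h1
    rw [← sq]
    exact h_sq R (fun e => hs (by rw [e, mul_zero])) ht
  by_cases h2 : IsSquare t
  · obtain ⟨r, rfl⟩ := h2
    rw [← sq, h_comm R hs (pow_ne_zero 2 (fun e => ht (by rw [e, mul_zero]))),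
      h_sq R (fun e => ht (by rw [e, mul_zero])) hs, mul_comm]
  obtain ⟨u, hu, hv⟩ := exists_pair ⟨s, h1⟩
  have hu0 : u ≠ 0 := fun e => hu (by rw [e]; exact ⟨0, by simp⟩)
  have hv0 : (1 : F) - u ≠ 0 := fun e => hv (by rw [e]; exact ⟨0, by simp⟩)
  have ratio : ∀ a b : F, a ≠ 0 → b ≠ 0 → ¬ IsSquare a → ¬ IsSquare b → ∃ r, r ≠ 0 ∧ a = r ^ 2 * b := by
    classical
    intro a b ha hb hna hnb
    obtain ⟨g, hg⟩ := IsCyclic.exists_generator (α := Fˣ)
    have odd : ∀ c : F, c ≠ 0 → ¬ IsSquare c → ∃ k : ℕ, c = (g : F) ^ (2 * k + 1) := by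
      intro c hc hnc
      obtain ⟨n, hn⟩ := (IsOfFinOrder.mem_powers_iff_mem_zpowers (isOfFinOrder_of_finite g)).mpr (hg (Units.mk0 c hc))
      have hn' : (g : F) ^ n = c := by
        have := congrArg Units.val hn
        simpa using this
      rcases Nat.even_or_odd n with ⟨k, rfl⟩ | ⟨k, rfl⟩
      · exact absurd ⟨(g : F) ^ k, by rw [← hn', pow_add]⟩ hnc
      · exact ⟨k, hn'.symm⟩
    obtain ⟨i, rfl⟩ := odd a ha hna
    obtain ⟨j, rfl⟩ := odd b hb hnb
    refine ⟨(g : F) ^ i / (g : F) ^ j, div_ne_zero (pow_ne_zero _ g.ne_zero) (pow_ne_zero _ g.ne_zero), ?_⟩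
    field_simp
    ring
  obtain ⟨r, hr, rfl⟩ := ratio s u hs hu0 h1 hu
  obtain ⟨r', hr', rfl⟩ := ratio t (1 - u) ht hv0 h2 hv
  have hr2 : r ^ 2 ≠ 0 := pow_ne_zero 2 hr
  have hr2' : r' ^ 2 ≠ 0 := pow_ne_zero 2 hr'
  calc hh x y (r ^ 2 * u) * hh x y (r' ^ 2 * (1 - u))
      = hh x y (r ^ 2) * (hh x y u * hh x y (r' ^ 2)) * hh x y (1 - u) := by
        rw [← h_sq R hr hu0, ← h_sq R hr' hv0]; group
    _ = hh x y (r ^ 2) * (hh x y (r' ^ 2) * hh x y u) * hh x y (1 - u) := by rw [h_comm R hu0 hr2']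
    _ = hh x y (r ^ 2) * (hh x y (r' ^ 2) * (hh x y u * hh x y (1 - u))) := by group
    _ = hh x y (r ^ 2) * (hh x y (r' ^ 2) * hh x y (u * (1 - u))) := by
        rw [h_mul_of_add R hu0 hv0 (add_sub_cancel u 1)]
    _ = hh x y (r ^ 2 * (r' ^ 2 * (u * (1 - u)))) := by
        rw [h_sq R hr' (mul_ne_zero hu0 hv0), h_sq R hr (mul_ne_zero hr2' (mul_ne_zero hu0 hv0))]
    _ = hh x y (r ^ 2 * u * (r' ^ 2 * (1 - u))) := by congr 1; ring

theorem w_h [Fintype F] (R : Rel x y) {t c : F} (ht : t ≠ 0) (hc : c ≠ 0) :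
    ww x y t * hh x y c = ww x y (t / c) := by
  have hw : ∀ t : F, ww x y t = hh x y t * ww x y 1 := fun t => by
    rw [hh, w_neg R, inv_mul_cancel_right]
  have h1 : ww x y 1 * hh x y c = ww x y (1 / c) := by
    have := conj_w' R (one_ne_zero (α := F)) hc
    rw [one_pow] at this
    rw [← this, hh, w_neg R, mul_assoc]
  rw [hw t, mul_assoc, h1, hw (1 / c), ← mul_assoc, h_mul R ht (div_ne_zero one_ne_zero hc), hw (t / c),
    mul_one_div]

open Classical in
/-- The value on a matrix. -/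
noncomputable def val (x y : F → G) (M : Matrix.SpecialLinearGroup (Fin 2) F) : G :=
  if M.1 1 0 = 0 then x (M.1 0 0 * M.1 0 1) * hh x y (M.1 0 0)
  else x (M.1 0 0 / M.1 1 0) * ww x y (-(M.1 1 0)⁻¹) * x (M.1 1 1 / M.1 1 0)

/-- The upper unitriangular element. -/
def upM (r : F) : Matrix.SpecialLinearGroup (Fin 2) F := ⟨!![1, r; 0, 1], by simp [det_fin_two]⟩

/-- The lower unitriangular element. -/
def lowM (r : F) : Matrix.SpecialLinearGroup (Fin 2) F := ⟨!![1, 0; r, 1], by simp [det_fin_two]⟩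

/-- The Weyl element. -/
def weylM : Matrix.SpecialLinearGroup (Fin 2) F := ⟨!![0, 1; -1, 0], by simp [det_fin_two]⟩

theorem val_of_zero {M : Matrix.SpecialLinearGroup (Fin 2) F} (h : M.1 1 0 = 0) :
    val x y M = x (M.1 0 0 * M.1 0 1) * hh x y (M.1 0 0) := by
  classical
  exact if_pos h

theorem val_of_ne {M : Matrix.SpecialLinearGroup (Fin 2) F} (h : M.1 1 0 ≠ 0) :
    val x y M = x (M.1 0 0 / M.1 1 0) * ww x y (-(M.1 1 0)⁻¹) * x (M.1 1 1 / M.1 1 0) := by
  classical
  exact if_neg h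

theorem sl_val_mul (A B : Matrix.SpecialLinearGroup (Fin 2) F) : (A * B).1 = A.1 * B.1 := rfl

theorem det_eq (M : Matrix.SpecialLinearGroup (Fin 2) F) :
    M.1 0 0 * M.1 1 1 - M.1 0 1 * M.1 1 0 = 1 := by
  have := M.2
  rwa [det_fin_two] at this

theorem val_up_mul (R : Rel x y) (s : F) (M : Matrix.SpecialLinearGroup (Fin 2) F) :
    val x y (upM s * M) = x s * val x y M := by
  have e00 : (upM s * M).1 0 0 = M.1 0 0 + s * M.1 1 0 := by simp [sl_val_mul, upM, Matrix.mul_apply]
  have e01 : (upM s * M).1 0 1 = M.1 0 1 + s * M.1 1 1 := by simp [sl_val_mul, upM, Matrix.mul_apply]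
  have e10 : (upM s * M).1 1 0 = M.1 1 0 := by simp [sl_val_mul, upM, Matrix.mul_apply]
  have e11 : (upM s * M).1 1 1 = M.1 1 1 := by simp [sl_val_mul, upM, Matrix.mul_apply]
  by_cases hc : M.1 1 0 = 0
  · rw [val_of_zero (e10.trans hc), val_of_zero hc, e00, e01, ← mul_assoc, ← R.x_add, hc, mul_zero, add_zero]
    congr 2
    linear_combination s * det_eq M + M.1 0 1 * s * hc
  · rw [val_of_ne (fun e => hc (e10.symm.trans e)), val_of_ne hc, e00, e10, e11, ← mul_assoc, ← mul_assoc, ← R.x_add]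
    congr 3
    field_simp
    ring

theorem val_weyl_mul [Fintype F] (R : Rel x y) (M : Matrix.SpecialLinearGroup (Fin 2) F) :
    val x y (weylM * M) = ww x y 1 * val x y M := by
  have e00 : (weylM * M).1 0 0 = M.1 1 0 := by simp [sl_val_mul, weylM, Matrix.mul_apply]
  have e01 : (weylM * M).1 0 1 = M.1 1 1 := by simp [sl_val_mul, weylM, Matrix.mul_apply]
  have e10 : (weylM * M).1 1 0 = -M.1 0 0 := by simp [sl_val_mul, weylM, Matrix.mul_apply]
  have e11 : (weylM * M).1 1 1 = -M.1 0 1 := by simp [sl_val_mul, weylM, Matrix.mul_apply]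
  have hdet := det_eq M
  have hwc : ∀ c : F, c ≠ 0 → ww x y 1 * ww x y (-c⁻¹) = hh x y c := fun c hc => by
    rw [show -c⁻¹ = -1 / c by field_simp, ← w_h R (t := -1) (neg_ne_zero.mpr one_ne_zero) hc, w_neg R,
      mul_inv_cancel_left]
  by_cases hc : M.1 1 0 = 0
  · have ha : M.1 0 0 ≠ 0 := fun e => by rw [e, hc] at hdet; simp at hdet
    rw [val_of_zero hc, val_of_ne (fun e => neg_ne_zero.mpr ha (e10.symm.trans e)), e00, e10, e11, hc, zero_div, x_zero R, one_mul, inv_neg, neg_neg,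
      neg_div_neg_eq]
    have h2 : x (M.1 0 0 * M.1 0 1) * hh x y (M.1 0 0) = hh x y (M.1 0 0) * x (M.1 0 1 / M.1 0 0) := by
      rw [mul_inv_eq_iff_eq_mul.mp (h_x R ha _)]
      congr 2
      field_simp
    rw [h2, ← mul_assoc, w_h R one_ne_zero ha, one_div]
  · by_cases ha : M.1 0 0 = 0
    · rw [val_of_ne hc, val_of_zero (by rw [e10, ha, neg_zero]), e00, e01, ha, zero_div, x_zero R, one_mul, ← mul_assoc,
        hwc _ hc, mul_inv_eq_iff_eq_mul.mp (h_x R hc _)]
      congr 2
      field_simp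
    · rw [val_of_ne hc, val_of_ne (fun e => neg_ne_zero.mpr ha (e10.symm.trans e)), e00, e10, e11, inv_neg, neg_neg, neg_div_neg_eq]
      set a := M.1 0 0
      set c := M.1 1 0
      set d := M.1 1 1
      set b := M.1 0 1
      have hca : c / a ≠ 0 := div_ne_zero hc ha
      have h1 : ww x y 1 * x (a / c) = y (-(a / c)) * ww x y 1 := by
        have := R.conj_x 1 (a / c) one_ne_zero
        rw [one_pow, div_one, mul_inv_eq_iff_eq_mul] at this
        exact this
      have h2 : y (-(a / c)) = x (-(c / a)) * ww x y (c / a) * x (-(c / a)) := by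
        simp only [ww, x_neg R, inv_div]; group
      have h3 : ww x y 1 * ww x y (-c⁻¹) = hh x y c := hwc c hc
      have h4 : x (-(c / a)) * hh x y c = hh x y c * x (-(1 / (a * c))) := by
        rw [mul_inv_eq_iff_eq_mul.mp (h_x R hc _)]
        congr 2
        field_simp
      rw [show x (c / -a) = x (-(c / a)) by rw [div_neg]]
      symm
      calc ww x y 1 * (x (a / c) * ww x y (-c⁻¹) * x (d / c))
          = (ww x y 1 * x (a / c)) * ww x y (-c⁻¹) * x (d / c) := by group
        _ = x (-(c / a)) * ww x y (c / a) * (x (-(c / a)) * (ww x y 1 * ww x y (-c⁻¹))) * x (d / c) := by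
          rw [h1, h2]; group
        _ = x (-(c / a)) * (ww x y (c / a) * hh x y c) * (x (-(1 / (a * c))) * x (d / c)) := by
          rw [h3, h4]; group
        _ = x (-(c / a)) * ww x y a⁻¹ * x (b / a) := by
          rw [w_h R hca hc, ← R.x_add]
          congr 2
          · congr 1; field_simp
          · field_simp; linear_combination hdet

/-- The homomorphism given by the relations. -/
theorem exists_hom [Fintype F] (R : Rel x y) :
    ∃ f : Matrix.SpecialLinearGroup (Fin 2) F →* G, (∀ r, f (upM r) = x r) ∧ (∀ r, f (lowM r) = y r) ∧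
      ∀ M, f M = val x y M := by
  classical
  have hval1 : val x y 1 = 1 := by
    rw [val_of_zero (show (1 : Matrix (Fin 2) (Fin 2) F) 1 0 = 0 by simp)]
    show x ((1 : Matrix (Fin 2) (Fin 2) F) 0 0 * (1 : Matrix (Fin 2) (Fin 2) F) 0 1) *
      hh x y ((1 : Matrix (Fin 2) (Fin 2) F) 0 0) = 1
    simp [x_zero R, h_one R]
  let Good : Matrix.SpecialLinearGroup (Fin 2) F → Prop := fun A =>
    ∀ M, val x y (A * M) = val x y A * val x y M
  have good_mul : ∀ A B, Good A → Good B → Good (A * B) := fun A B hA hB M => by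
    rw [mul_assoc, hA, hB, ← mul_assoc, ← hA B]
  have hup : ∀ r, val x y (upM r) = x r := fun r => by
    have := val_up_mul R r (1 : Matrix.SpecialLinearGroup (Fin 2) F)
    rwa [mul_one, hval1, mul_one] at this
  have good_up : ∀ r, Good (upM r) := fun r M => by rw [val_up_mul R, hup]
  have good_weyl : Good weylM := fun M => by
    have h := val_weyl_mul R (1 : Matrix.SpecialLinearGroup (Fin 2) F)
    rw [mul_one, hval1, mul_one] at h
    rw [val_weyl_mul R, h]
  have good_low : ∀ r, Good (lowM r) := fun r => by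
    have e : lowM r = weylM * upM (-r) * (weylM * weylM * weylM) := by
      apply Subtype.ext
      simp only [sl_val_mul, lowM, weylM, upM]
      ext i j
      fin_cases i <;> fin_cases j <;> simp [Matrix.mul_apply]
    rw [e]
    exact good_mul _ _ (good_mul _ _ good_weyl (good_up _)) (good_mul _ _ (good_mul _ _ good_weyl good_weyl) good_weyl)
  have all : ∀ A, Good A := fun A => by
    refine Matrix.SL2.transvection_induction Good (fun i j hij c => ?_) good_mul A
    fin_cases i <;> fin_cases j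
    · exact absurd rfl hij
    · convert good_up c
      apply Subtype.ext
      ext k l; fin_cases k <;> fin_cases l <;> simp [upM, SpecialLinearGroup.transvection_coe]
    · convert good_low c
      apply Subtype.ext
      ext k l; fin_cases k <;> fin_cases l <;> simp [lowM, SpecialLinearGroup.transvection_coe]
    · exact absurd rfl hij
  refine ⟨{ toFun := val x y, map_one' := hval1, map_mul' := fun A B => all A B }, hup, fun r => ?_, fun M => rfl⟩
  show val x y (lowM r) = y r
  by_cases hr : r = 0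
  · subst hr
    have : lowM (0 : F) = 1 := Subtype.ext (by ext i j; fin_cases i <;> fin_cases j <;> simp [lowM])
    rw [this, hval1, y_zero R]
  · rw [val_of_ne (by simpa [lowM] using hr)]
    simp only [lowM, of_apply, cons_val', cons_val_zero, cons_val_one, cons_val_fin_one, one_div]
    have hinv : ww x y (-r⁻¹) = x (-r⁻¹) * y r * x (-r⁻¹) := by simp [ww, inv_neg]
    rw [hinv, x_neg R]
    group

end CfsgLib.RootSub.SL2Rel
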