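/-
Transvection subgroups of special unitary groups.
-/
import Mathlib
import Cfsg.Agent.Lib.UnitarySimple
import Cfsg.Agent.Lib.HermCount
import Cfsg.Agent.Lib.RootSub.Transv
import Cfsg.Agent.Lib.RootSub.QP.Sub
import Cfsg.Prelude.Def_RootSubgroups

set_option autoImplicit false
set_option backward.isDefEq.respectTransparency.types false
set_option backward.isDefEq.respectTransparency false

namespace CfsgLib.RootSub.UnitClass

open Matrix Cfsg CfsgLib.UnitaryTransvection CfsgLib.UnitarySimple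
open scoped commutatorElement

section General

variable {G : Type*} [Group G] {A B X : Subgroup G}

theorem not_rankOne_of_central (hA : IsMulCommutative A) (hne : A ≠ ⊥)
    (hcen : ∀ c ∈ ⁅A, B⁆, ∀ a ∈ A, c * a = a * c) : ¬ IsRankOnePair A B := by
  intro hp
  obtain ⟨a, ha, ha1⟩ := A.bot_or_exists_ne_one.resolve_left hne
  obtain ⟨b, hb, -, e⟩ := hp.cond_left a ha ha1
  have hfix : ∀ y ∈ B, a * y = y * a := by
    intro y hy
    have h1 : a⁻¹ * y * a⁻¹⁻¹ ∈ conjBy B a⁻¹ := ⟨y, hy, rfl⟩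
    rw [← e] at h1
    obtain ⟨x, hx, hxy⟩ := h1
    change b⁻¹ * x * b⁻¹⁻¹ = _ at hxy
    have hm : ⁅b⁻¹, x⁆ ∈ ⁅A, B⁆ := by
      rw [Subgroup.commutator_comm]; exact Subgroup.commutator_mem_commutator (inv_mem hb) hx
    have hxa : x * a = a * x := congrArg Subtype.val (hA.is_comm.comm ⟨x, hx⟩ ⟨a, ha⟩)
    have hw : Commute (⁅b⁻¹, x⁆ * x) a :=
      Commute.mul_left (show Commute ⁅b⁻¹, x⁆ a from hcen _ hm a ha) hxa
    rw [show ⁅b⁻¹, x⁆ * x = b⁻¹ * x * b⁻¹⁻¹ by rw [commutatorElement_def]; group, hxy, inv_inv] at hw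
    calc a * y = a * (a * (a⁻¹ * y * a) * a⁻¹) := by group
      _ = a * ((a⁻¹ * y * a) * a * a⁻¹) := by rw [hw.eq]
      _ = y * a := by group
  have hB : conjBy B a⁻¹ = B := by
    ext y
    constructor
    · rintro ⟨z, hz, rfl⟩
      show a⁻¹ * z * a⁻¹⁻¹ ∈ B
      rw [inv_inv, mul_assoc, ← hfix z hz, inv_mul_cancel_left]; exact hz
    · intro hy
      exact ⟨y, hy, by show a⁻¹ * y * a⁻¹⁻¹ = y; rw [inv_inv, mul_assoc, ← hfix y hy, inv_mul_cancel_left]⟩
  rw [hB] at e
  refine hp.ne ?_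
  calc A = conjBy (conjBy A b⁻¹) b := by rw [conjBy_conjBy, mul_inv_cancel, conjBy_one]
    _ = B := by rw [e, conjBy_self hb]

theorem not_rankOne_of_bot (hA : IsMulCommutative A) (hne : A ≠ ⊥) (h : ⁅A, B⁆ = ⊥) : ¬ IsRankOnePair A B :=
  not_rankOne_of_central hA hne fun c hc a _ => by
    rw [h, Subgroup.mem_bot] at hc; simp [hc]

theorem not_rcc_of_rankOne {S : Set (Subgroup G)} (hA : IsMulCommutative A) (hne : A ≠ ⊥) (hp : IsRankOnePair A B) :
    ¬ RootCommutatorCase S A B := fun h =>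
  not_rankOne_of_central hA hne (fun c hc a ha => h.2.1 c hc a (Subgroup.mem_sup_left ha)) hp

theorem psl2_subgroupOf {k : Type*} [Field k] (hA : A ≤ X) (hB : B ≤ X) (h : IsPSL2PairOver k A B) :
    IsPSL2PairOver k (A.subgroupOf X) (B.subgroupOf X) := by
  obtain ⟨φ, hr, hk, hu, hl⟩ := h
  have hm : ∀ g, φ g ∈ X := fun g => (sup_le hA hB) (hr ▸ ⟨g, rfl⟩)
  refine ⟨φ.codRestrict X hm, ?_, ?_, ?_, ?_⟩
  · refine Subgroup.map_injective X.subtype_injective ?_
    rw [Subgroup.map_sup, CfsgLib.QP.Sub.map_subgroupOf hA, CfsgLib.QP.Sub.map_subgroupOf hB, ← hr,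
      MonoidHom.map_range]
    rfl
  · intro g hg
    exact hk (congrArg Subtype.val hg :)
  · refine Subgroup.map_injective X.subtype_injective ?_
    rw [CfsgLib.QP.Sub.map_subgroupOf hA, Subgroup.map_map, ← hu]
    rfl
  · refine Subgroup.map_injective X.subtype_injective ?_
    rw [CfsgLib.QP.Sub.map_subgroupOf hB, Subgroup.map_map, ← hl]
    rfl

end General

section Unitary

variable {F : Type*} [Field F] [Fintype F] {q n : ℕ} (hF : Fintype.card F = q ^ 2)

local notation "h" => Cfsg.hermForm n F q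
local notation "σ" => frob hF

/-- The transvection group of an isotropic point. -/
def ugrp (p : Fin n → F) : Subgroup ↥(Cfsg.SU n F q) :=
  Subgroup.closure {g : ↥(Cfsg.SU n F q) |
    (∀ v : Fin n → F, ∃ c : F, ((g : Matrix.SpecialLinearGroup (Fin n) F) : Matrix (Fin n) (Fin n) F) *ᵥ v = v + c • p) ∧
      ∀ v : Fin n → F, Cfsg.hermForm n F q v p = 0 →
        ((g : Matrix.SpecialLinearGroup (Fin n) F) : Matrix (Fin n) (Fin n) F) *ᵥ v = v}

/-- The class of transvection groups. -/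
def ucls (n : ℕ) (F : Type*) [Field F] (q : ℕ) : Set (Subgroup ↥(Cfsg.SU n F q)) :=
  {A | ∃ p : Fin n → F, p ≠ 0 ∧ Cfsg.hermForm n F q p p = 0 ∧ A = ugrp p}

theorem tv_zero (p : Fin n → F) (hp : h p p = 0) (hc : (0 : F) + σ 0 = 0) : tv hF p hp 0 hc = 1 :=
  su_ext fun x => by rw [tv_mulVec, mat_one, one_mulVec, zero_mul, zero_smul, add_zero]

theorem skew_add {c d : F} (hc : c + σ c = 0) (hd : d + σ d = 0) : (c + d) + σ (c + d) = 0 := by
  rw [map_add]; linear_combination hc + hd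

theorem skew_neg {c : F} (hc : c + σ c = 0) : -c + σ (-c) = 0 := by rw [map_neg]; linear_combination -hc

theorem tv_mul (p : Fin n → F) (hp : h p p = 0) {c d : F} (hc : c + σ c = 0) (hd : d + σ d = 0) :
    tv hF p hp c hc * tv hF p hp d hd = tv hF p hp (c + d) (skew_add hF hc hd) :=
  su_ext fun x => by
    rw [mat_mul, ← mulVec_mulVec, tv_mulVec, tv_mulVec, tv_mulVec, h_add_left, h_smul_left, hp]
    module

theorem tv_inv (p : Fin n → F) (hp : h p p = 0) {c : F} (hc : c + σ c = 0) :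
    (tv hF p hp c hc)⁻¹ = tv hF p hp (-c) (skew_neg hF hc) := by
  refine inv_eq_of_mul_eq_one_right ?_
  rw [tv_mul]
  exact su_ext fun x => by rw [tv_mulVec, mat_one, one_mulVec, add_neg_cancel, zero_mul, zero_smul, add_zero]

theorem tv_mem (p : Fin n → F) (hp : h p p = 0) {c : F} (hc : c + σ c = 0) : tv hF p hp c hc ∈ ugrp p :=
  Subgroup.subset_closure ⟨fun v => ⟨_, tv_mulVec hF p hp c hc v⟩, fun v hv => by
    show mat (tv hF p hp c hc) *ᵥ v = v
    rw [tv_mulVec, hv, mul_zero, zero_smul, add_zero]⟩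

include hF in
theorem exists_tv {p : Fin n → F} (hp0 : p ≠ 0) (hp : h p p = 0) {g : Cfsg.SU n F q} (hg : g ∈ ugrp p) :
    ∃ (c : F) (hc : c + σ c = 0), g = tv hF p hp c hc := by
  induction hg using Subgroup.closure_induction with
  | mem g hg =>
    obtain ⟨h1, h2⟩ := hg
    obtain ⟨y, hy, hy'⟩ := exists_partner hF hp0
    obtain ⟨c, hc⟩ := h1 y
    have hM : ∀ x, mat g *ᵥ x = x + (c * h x p) • p := by
      intro x
      have h3 := h2 (x - h x p • y) (by rw [h_sub_left, h_smul_left, hy', mul_one, sub_self])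
      rw [mulVec_sub, mulVec_smul, sub_eq_iff_eq_add] at h3
      change mat g *ᵥ x = x - h x p • y + h x p • mat g *ᵥ y at h3
      change mat g *ᵥ y = y + c • p at hc
      rw [h3, hc]
      module
    have hM' : ∀ x, mat g *ᵥ x = Cfsg.unitaryTransvection n q p c *ᵥ x := fun x => by rw [hM, tmat_mulVec]
    have hs : c + σ c = 0 := skew_of_tmat hF hp hp0 fun a b => by rw [← hM', ← hM', su_h]
    exact ⟨c, hs, su_ext fun x => by rw [hM, tv_mulVec]⟩
  | one => exact ⟨0, by simp, (tv_zero hF p hp _).symm⟩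
  | mul x y _ _ hx hy =>
    obtain ⟨c, hc, rfl⟩ := hx; obtain ⟨d, hd, rfl⟩ := hy; exact ⟨_, _, tv_mul hF p hp hc hd⟩
  | inv x _ hx => obtain ⟨c, hc, rfl⟩ := hx; exact ⟨_, _, tv_inv hF p hp hc⟩

theorem tv_eq_one {p : Fin n → F} (hp0 : p ≠ 0) (hp : h p p = 0) {c : F} {hc : c + σ c = 0}
    (e : tv hF p hp c hc = 1) : c = 0 := by
  obtain ⟨y, -, hy⟩ := exists_partner hF hp0
  have := tv_mulVec hF p hp c hc y
  rw [e, mat_one, one_mulVec, hy, mul_one, left_eq_add] at this
  exact (smul_eq_zero.mp this).resolve_right hp0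

include hF in
theorem ugrp_comm {p : Fin n → F} (hp0 : p ≠ 0) (hp : h p p = 0) : IsMulCommutative (ugrp (q := q) p) := by
  refine ⟨⟨fun a b => Subtype.ext ?_⟩⟩
  obtain ⟨c, hc, ec⟩ := exists_tv hF hp0 hp a.2
  obtain ⟨d, hd, ed⟩ := exists_tv hF hp0 hp b.2
  show a.1 * b.1 = b.1 * a.1
  rw [ec, ed, tv_mul, tv_mul]
  exact su_ext fun x => by rw [tv_mulVec, tv_mulVec, add_comm c d]

include hF in
theorem ugrp_ne_bot {p : Fin n → F} (hp0 : p ≠ 0) (hp : h p p = 0) : ugrp (q := q) p ≠ ⊥ := fun e => by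
  obtain ⟨c, hc0, hc⟩ := exists_skew hF
  have := tv_mem hF p hp hc
  rw [e, Subgroup.mem_bot] at this
  exact hc0 (tv_eq_one hF hp0 hp this)

include hF in
theorem conj_ugrp {p : Fin n → F} (hp0 : p ≠ 0) (hp : h p p = 0) (g : Cfsg.SU n F q) :
    Cfsg.conjBy (ugrp p) g = ugrp (mat g *ᵥ p) := by
  have hp' : h (mat g *ᵥ p) (mat g *ᵥ p) = 0 := by rw [su_h, hp]
  apply le_antisymm
  · rintro _ ⟨x, hx, rfl⟩
    obtain ⟨c, hc, rfl⟩ := exists_tv hF hp0 hp hx
    show g * tv hF p hp c hc * g⁻¹ ∈ _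
    rw [conj_tv]; exact tv_mem hF _ hp' hc
  · intro x hx
    obtain ⟨c, hc, rfl⟩ := exists_tv hF (mat_ne_zero g hp0) hp' hx
    exact ⟨tv hF p hp c hc, tv_mem hF _ hp hc, conj_tv hF g p hp c hc⟩

theorem mul_skew {c s : F} (hc : c + σ c = 0) (hs : σ s = s) : s * c + σ (s * c) = 0 := by
  rw [map_mul, hs]; linear_combination s * hc

include hF in
theorem ugrp_smul {p : Fin n → F} (hp0 : p ≠ 0) (hp : h p p = 0) {a : F} (ha : a ≠ 0) :
    ugrp (q := q) (a • p) = ugrp p := by
  have hap : h (a • p) (a • p) = 0 := by rw [h_smul_left, h_smul_right hF, hp]; ring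
  have hn : σ (a * σ a) = a * σ a := by rw [map_mul, frob_frob hF, mul_comm]
  have ha' : σ a ≠ 0 := fun e => ha (by rw [← frob_frob hF a, e, map_zero])
  apply le_antisymm
  · intro g hg
    obtain ⟨c, hc, rfl⟩ := exists_tv hF (smul_ne_zero ha hp0) hap hg
    have : tv hF (a • p) hap c hc = tv hF p hp (a * σ a * c) (mul_skew hF hc hn) :=
      su_ext fun x => by rw [tv_mulVec, tv_mulVec, h_smul_right hF, smul_smul]; ring_nf
    rw [this]; exact tv_mem hF _ _ _
  · intro g hg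
    obtain ⟨c, hc, rfl⟩ := exists_tv hF hp0 hp hg
    have : tv hF p hp c hc = tv hF (a • p) hap ((a * σ a)⁻¹ * c) (mul_skew hF hc (by rw [map_inv₀, hn])) :=
      su_ext fun x => by
        rw [tv_mulVec, tv_mulVec, h_smul_right hF, smul_smul]
        congr 2
        field_simp
    rw [this]; exact tv_mem hF _ _ _

include hF in
theorem ugrp_commutator {p r : Fin n → F} (hp0 : p ≠ 0) (hp : h p p = 0) (hr0 : r ≠ 0) (hr : h r r = 0)
    (e : h p r = 0) : ⁅ugrp (q := q) p, ugrp (q := q) r⁆ = ⊥ := by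
  have e' : h r p = 0 := by rw [← h_swap hF p r, e, map_zero]
  rw [eq_bot_iff, Subgroup.commutator_le]
  intro a ha b hb
  obtain ⟨c, hc, rfl⟩ := exists_tv hF hp0 hp ha
  obtain ⟨d, hd, rfl⟩ := exists_tv hF hr0 hr hb
  rw [Subgroup.mem_bot, commutatorElement_eq_one_iff_mul_comm]
  refine su_ext fun x => ?_
  rw [mat_mul, mat_mul, ← mulVec_mulVec, ← mulVec_mulVec, tv_mulVec, tv_mulVec, tv_mulVec, tv_mulVec, h_add_left,
    h_add_left, h_smul_left, h_smul_left, e, e', mul_zero, mul_zero, add_zero, add_zero]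
  abel

include hF in
theorem rankOne_cond {p r : Fin n → F} (hp0 : p ≠ 0) (hp : h p p = 0) (hr0 : r ≠ 0) (hr : h r r = 0)
    (e : h p r ≠ 0) : Cfsg.RankOneCondition (ugrp (q := q) p) (ugrp r) := by
  intro a ha ha1
  obtain ⟨c, hc, rfl⟩ := exists_tv hF hp0 hp ha
  have hc0 : c ≠ 0 := fun e0 => ha1 (by subst e0; exact tv_zero hF p hp hc)
  set x := h p r with hx
  have hrp : h r p = σ x := (h_swap hF p r).symm
  have hx' : σ x ≠ 0 := fun e0 => e (by rw [← frob_frob hF x, e0, map_zero])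
  have hn : σ (x * σ x) = x * σ x := by rw [map_mul, frob_frob hF, mul_comm]
  have hd : (c * (x * σ x))⁻¹ + σ (c * (x * σ x))⁻¹ = 0 := by
    rw [map_inv₀, map_mul, hn, show σ c = -c by linear_combination hc, neg_mul, inv_neg, add_neg_cancel]
  refine ⟨tv hF r hr _ hd, tv_mem hF r hr hd, fun e0 => inv_ne_zero (mul_ne_zero hc0 (mul_ne_zero e hx'))
    (tv_eq_one hF hr0 hr e0), ?_⟩
  rw [conj_ugrp hF hp0 hp, conj_ugrp hF hr0 hr, tv_inv, tv_inv, tv_mulVec, tv_mulVec, ← hx, hrp]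
  have e1 : p + (-(c * (x * σ x))⁻¹ * x) • r = (-(c * σ x)⁻¹) • (r + (-c * σ x) • p) := by
    rw [smul_add, smul_smul, add_comm p]
    congr 1
    · congr 1; field_simp
    · rw [show -(c * σ x)⁻¹ * (-c * σ x) = 1 by rw [neg_mul c, neg_mul_neg, inv_mul_cancel₀ (mul_ne_zero hc0 hx')],
        one_smul]
  rw [e1]
  have hy0 : r + (-c * σ x) • p ≠ 0 := by
    rw [← hrp, ← tv_mulVec hF p hp (-c) (skew_neg hF hc) r]; exact mat_ne_zero _ hr0
  have hy : h (r + (-c * σ x) • p) (r + (-c * σ x) • p) = 0 := by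
    rw [← hrp, ← tv_mulVec hF p hp (-c) (skew_neg hF hc) r, su_h, hr]
  exact ugrp_smul hF hy0 hy (neg_ne_zero.mpr (inv_ne_zero (mul_ne_zero hc0 hx')))

include hF in
theorem rankOne {p r : Fin n → F} (hp0 : p ≠ 0) (hp : h p p = 0) (hr0 : r ≠ 0) (hr : h r r = 0)
    (e : h p r ≠ 0) : Cfsg.IsRankOnePair (ugrp (q := q) p) (ugrp r) := by
  haveI := ugrp_comm hF hp0 hp
  haveI := ugrp_comm hF hr0 hr
  refine ⟨?_, ?_, ?_, rankOne_cond hF hp0 hp hr0 hr e, rankOne_cond hF hr0 hr hp0 hp fun e' =>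
    e (by rw [← h_swap hF r p, e', map_zero])⟩
  · intro e'
    obtain ⟨c, hc0, hc⟩ := exists_skew hF
    obtain ⟨d, hd, ed⟩ := exists_tv hF hr0 hr (e' ▸ tv_mem hF p hp hc)
    have := congrArg (fun g => mat g *ᵥ r) ed
    simp only [tv_mulVec, hr, mul_zero, zero_smul, add_zero, add_eq_left, smul_eq_zero, mul_eq_zero, hc0,
      false_or, hp0, or_false] at this
    exact e (by rw [← h_swap hF r p, this, map_zero])
  · exact @CommGroup.isNilpotent _ (CommGroup.mk (fun a b => mul_comm' a b))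
  · exact @CommGroup.isNilpotent _ (CommGroup.mk (fun a b => mul_comm' a b))

include hF in
theorem fixed_field : ∃ (L : Type) (_ : Field L) (_ : Fintype L) (ι : L →+* F),
    Fintype.card L = q ∧ ∀ y, σ y = y ↔ ∃ t, ι t = y := by
  classical
  set K : Subfield F := RingHom.eqLocusField σ (RingHom.id F) with hK
  haveI : Fintype K := Fintype.ofFinite K
  let e : Fin (Fintype.card K) ≃ K := (Fintype.equivFin K).symm
  letI : Field (Fin (Fintype.card K)) := e.field
  refine ⟨Fin (Fintype.card K), inferInstance, inferInstance, K.subtype.comp e.ringEquiv.toRingHom, ?_, fun y => ?_⟩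
  · have hq := (CfsgLib.UnitaryBasic.frob_exists hF).1
    rw [Fintype.card_fin]
    have hmem : ∀ y : F, y ∈ K ↔ y ^ q = y := fun y => by
      show σ y = y ↔ _
      rw [frob_apply]
    let f : (powMonoidHom (q - 1) : Fˣ →* Fˣ).ker ≃ {x : K // x ≠ 0} :=
      { toFun := fun u => ⟨⟨(u.1 : F), (hmem _).mpr (by
          have : u.1 ^ (q - 1) = 1 := u.2
          calc (u.1 : F) ^ q = (u.1 : F) ^ (q - 1) * u.1 := by rw [← pow_succ, Nat.sub_add_cancel hq.le]
            _ = _ := by rw [← Units.val_pow_eq_pow_val, this, Units.val_one, one_mul])⟩,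
            fun e => u.1.ne_zero (congrArg Subtype.val e)⟩
        invFun := fun x => ⟨Units.mk0 x.1.1 (fun e => x.2 (Subtype.ext e)), by
          rw [MonoidHom.mem_ker, powMonoidHom_apply]
          refine Units.ext ?_
          rw [Units.val_pow_eq_pow_val, Units.val_mk0, Units.val_one]
          refine mul_right_cancel₀ (fun e => x.2 (Subtype.ext e) : x.1.1 ≠ 0) ?_
          rw [← pow_succ, Nat.sub_add_cancel hq.le, (hmem _).mp x.1.2, one_mul]⟩
        left_inv := fun u => by apply Subtype.ext; apply Units.ext; rfl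
        right_inv := fun x => rfl }
    have h1 := Nat.card_congr f
    rw [IsCyclic.card_powMonoidHom_ker, CfsgLib.HermCount.card_sub_one hF, Nat.gcd_eq_right (dvd_mul_left _ _),
      Nat.card_eq_fintype_card, Fintype.card_subtype_compl, Fintype.card_subtype_eq] at h1
    have h2 : 0 < Fintype.card K := Fintype.card_pos
    omega
  · constructor
    · intro hy; exact ⟨e.symm ⟨y, hy⟩, by simp⟩
    · rintro ⟨t, rfl⟩; exact (e t).2

include hF in
theorem psl2_one {L : Type} [Field L] (ι : L →+* F) (hι : ∀ y, frob hF y = y ↔ ∃ t, ι t = y) {p r : Fin n → F} (hp0 : p ≠ 0) (hp : h p p = 0) (hr0 : r ≠ 0) (hr : h r r = 0)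
    (e : h p r = 1) : Cfsg.IsPSL2PairOver L (ugrp (q := q) p) (ugrp r) := by
  obtain ⟨c, hc0, hc⟩ := exists_skew hF
  have hrp : h r p = 1 := by rw [← h_swap hF p r, e, map_one]
  let ψ : Fin n → F := c⁻¹ • fun i => r i ^ q
  let φ : Fin n → F := fun i => p i ^ q
  have hφ : ∀ x, φ ⬝ᵥ x = h x p := fun x => by
    simp only [φ, dotProduct, Cfsg.hermForm]; exact Finset.sum_congr rfl fun i _ => mul_comm _ _
  have hψ : ∀ x, ψ ⬝ᵥ x = c⁻¹ * h x r := fun x => by
    simp only [ψ, dotProduct, Cfsg.hermForm, Finset.mul_sum, Pi.smul_apply, smul_eq_mul]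
    exact Finset.sum_congr rfl fun i _ => by ring
  have hv : φ ⬝ᵥ (c • p) = 0 := by rw [hφ, h_smul_left, hp, mul_zero]
  have hw : ψ ⬝ᵥ r = 0 := by rw [hψ, hr, mul_zero]
  have hx : φ ⬝ᵥ r = 1 := by rw [hφ, hrp]
  have hy : ψ ⬝ᵥ (c • p) = 1 := by rw [hψ, h_smul_left, e, mul_one, inv_mul_cancel₀ hc0]
  have hHU := Transv.row_mul_col hv hw hx hy
  let f₀ : Matrix.SpecialLinearGroup (Fin 2) L →* Matrix.SpecialLinearGroup (Fin n) F :=
    (Transv.emb _ _ hHU).comp (Matrix.SpecialLinearGroup.map ι)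
  have hfix : ∀ t, σ (ι t) = ι t := fun t => (hι _).mpr ⟨t, rfl⟩
  have hsu : ∀ t, ι t * c + σ (ι t * c) = 0 := fun t => mul_skew hF hc (hfix t)
  have hsl : ∀ t, ι t * c⁻¹ + σ (ι t * c⁻¹) = 0 := fun t => mul_skew hF (by
    rw [map_inv₀, show σ c = -c by linear_combination hc, inv_neg, add_neg_cancel]) (hfix t)
  have hup : ∀ M : Matrix.SpecialLinearGroup (Fin 2) L, M.1 1 0 = 0 → M.1 0 0 = 1 → M.1 1 1 = 1 →
      f₀ M = (tv hF p hp (ι (M.1 0 1) * c) (hsu _)).1 := by
    intro M h10 h00 h11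
    apply Subtype.ext; apply Matrix.ext_of_mulVec_single; intro i
    show (Transv.emb _ _ hHU _).1 *ᵥ _ = mat (tv hF p hp (ι (M.1 0 1) * c) (hsu _)) *ᵥ _
    rw [Transv.emb_upper hHU hv (by simp [Matrix.SpecialLinearGroup.map_apply_coe, h10])
      (by simp [Matrix.SpecialLinearGroup.map_apply_coe, h00])
      (by simp [Matrix.SpecialLinearGroup.map_apply_coe, h11]),
      Transv.elt_mulVec, tv_mulVec, hφ, smul_smul]
    congr 2
    simp [Matrix.SpecialLinearGroup.map_apply_coe]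
    ring
  have hlow : ∀ M : Matrix.SpecialLinearGroup (Fin 2) L, M.1 0 1 = 0 → M.1 0 0 = 1 → M.1 1 1 = 1 →
      f₀ M = (tv hF r hr (ι (M.1 1 0) * c⁻¹) (hsl _)).1 := by
    intro M h01 h00 h11
    apply Subtype.ext; apply Matrix.ext_of_mulVec_single; intro i
    show (Transv.emb _ _ hHU _).1 *ᵥ _ = mat (tv hF r hr (ι (M.1 1 0) * c⁻¹) (hsl _)) *ᵥ _
    rw [Transv.emb_lower hHU hw (by simp [Matrix.SpecialLinearGroup.map_apply_coe, h01])
      (by simp [Matrix.SpecialLinearGroup.map_apply_coe, h00])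
      (by simp [Matrix.SpecialLinearGroup.map_apply_coe, h11]),
      Transv.elt_mulVec, tv_mulVec, hψ]
    congr 2
    simp [Matrix.SpecialLinearGroup.map_apply_coe]
    ring
  have hmem : ∀ M, ∃ g ∈ ugrp (q := q) p ⊔ ugrp r, (g : Cfsg.SU n F q).1 = f₀ M := by
    intro M
    refine Matrix.SL2.transvection_induction (fun M => ∃ g ∈ ugrp (q := q) p ⊔ ugrp r, g.1 = f₀ M)
      (fun i j hij t => ?_) ?_ M
    · fin_cases i <;> fin_cases j
      · exact absurd rfl hij
      · exact ⟨_, Subgroup.mem_sup_left (tv_mem hF p hp (hsu t)), (by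
          rw [hup _ (by simp [Matrix.SpecialLinearGroup.transvection_coe])
            (by simp [Matrix.SpecialLinearGroup.transvection_coe])
            (by simp [Matrix.SpecialLinearGroup.transvection_coe])]
          simp [Matrix.SpecialLinearGroup.transvection_coe])⟩
      · exact ⟨_, Subgroup.mem_sup_right (tv_mem hF r hr (hsl t)), (by
          rw [hlow _ (by simp [Matrix.SpecialLinearGroup.transvection_coe])
            (by simp [Matrix.SpecialLinearGroup.transvection_coe])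
            (by simp [Matrix.SpecialLinearGroup.transvection_coe])]
          simp [Matrix.SpecialLinearGroup.transvection_coe])⟩
      · exact absurd rfl hij
    · rintro A B ⟨a, ha, ea⟩ ⟨b, hb, eb⟩
      exact ⟨a * b, mul_mem ha hb, by rw [map_mul, ← ea, ← eb]; rfl⟩
  let f : Matrix.SpecialLinearGroup (Fin 2) L →* Cfsg.SU n F q :=
    f₀.codRestrict (Cfsg.SU n F q) (fun M => by obtain ⟨g, -, eg⟩ := hmem M; rw [← eg]; exact g.2)
  have hA : (Cfsg.upperUnipotentSL2 L).map f = ugrp p := by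
    refine le_antisymm ?_ fun x hx => ?_
    · rw [Cfsg.upperUnipotentSL2, MonoidHom.map_closure, Subgroup.closure_le]
      rintro _ ⟨M, ⟨h10, h00, h11⟩, rfl⟩
      rw [show f M = tv hF p hp _ (hsu (M.1 0 1)) from Subtype.ext (hup M h10 h00 h11)]
      exact tv_mem hF p hp _
    · obtain ⟨d, hd, rfl⟩ := exists_tv hF hp0 hp hx
      obtain ⟨t, ht⟩ := (hι (d * c⁻¹)).mp (by
        rw [map_mul, map_inv₀, show σ c = -c by linear_combination hc, show σ d = -d by linear_combination hd,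
          inv_neg, neg_mul_neg])
      refine ⟨Transv.up t, Subgroup.subset_closure (by simp [Transv.up]), Subtype.ext ?_⟩
      refine (hup _ (by simp [Transv.up]) (by simp [Transv.up]) (by simp [Transv.up])).trans ?_
      congr 1
      refine su_ext fun z => ?_
      rw [tv_mulVec, tv_mulVec]
      simp [Transv.up, ht, inv_mul_cancel_right₀ hc0]
  have hB : (Cfsg.lowerUnipotentSL2 L).map f = ugrp r := by
    refine le_antisymm ?_ fun x hx => ?_
    · rw [Cfsg.lowerUnipotentSL2, MonoidHom.map_closure, Subgroup.closure_le]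
      rintro _ ⟨M, ⟨h01, h00, h11⟩, rfl⟩
      rw [show f M = tv hF r hr _ (hsl (M.1 1 0)) from Subtype.ext (hlow M h01 h00 h11)]
      exact tv_mem hF r hr _
    · obtain ⟨d, hd, rfl⟩ := exists_tv hF hr0 hr hx
      obtain ⟨t, ht⟩ := (hι (d * c)).mp (by
        rw [map_mul, show σ c = -c by linear_combination hc, show σ d = -d by linear_combination hd, neg_mul_neg])
      refine ⟨Transv.low t, Subgroup.subset_closure (by simp [Transv.low]), Subtype.ext ?_⟩
      refine (hlow _ (by simp [Transv.low]) (by simp [Transv.low]) (by simp [Transv.low])).trans ?_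
      congr 1
      refine su_ext fun z => ?_
      rw [tv_mulVec, tv_mulVec]
      simp [Transv.low, ht, mul_inv_cancel_right₀ hc0]
  refine ⟨f, le_antisymm ?_ (sup_le (hA ▸ Subgroup.map_le_range _ _) (hB ▸ Subgroup.map_le_range _ _)), ?_, hA, hB⟩
  · rintro _ ⟨M, rfl⟩
    obtain ⟨g, hg, eg⟩ := hmem M
    rwa [show f M = g from Subtype.ext eg.symm]
  · intro M hM
    have h1 : f₀ M = 1 := congrArg Subtype.val hM
    have h2 : Matrix.SpecialLinearGroup.map ι M = 1 := Transv.emb_injective _ _ hHU (h1.trans (map_one _).symm)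
    have h3 : M = 1 := by
      apply Subtype.ext; ext i j
      apply ι.injective
      have := congrArg (fun A : Matrix.SpecialLinearGroup (Fin 2) F => A.1 i j) h2
      simpa [Matrix.SpecialLinearGroup.map_apply_coe, Matrix.one_apply, apply_ite ι] using this
    rw [h3]; exact one_mem _

end Unitary

end CfsgLib.RootSub.UnitClass
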