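/-
Siegel transvection subgroups of hyperbolic orthogonal groups.
-/
import Mathlib
import Cfsg.Agent.Lib.RootSub.Transv
import Cfsg.Agent.Lib.RootSub.QP.Sub
import Cfsg.Agent.Lib.RootSub.UnitClass
import Cfsg.Agent.Lib.RootSub.CommCase
import Cfsg.Prelude.Def_Classical

set_option autoImplicit false
set_option backward.isDefEq.respectTransparency.types false
set_option backward.isDefEq.respectTransparency false

namespace CfsgLib.RootSub.SiegelClass

open Matrix Cfsg
open scoped commutatorElement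

variable {F : Type*} [Field F] {n : ℕ}

/-- The polar form. -/
def B (x y : Fin n ⊕ Fin n → F) : F := ∑ i : Fin n, (x (.inl i) * y (.inr i) + x (.inr i) * y (.inl i))

/-- The dual vector. -/
def du (y : Fin n ⊕ Fin n → F) : Fin n ⊕ Fin n → F := fun i => y i.swap

theorem du_dot (y x : Fin n ⊕ Fin n → F) : du y ⬝ᵥ x = B x y := by
  simp only [du, dotProduct, B, Fintype.sum_sum_type, Sum.swap_inl, Sum.swap_inr, Finset.sum_add_distrib]
  congr 1 <;> exact Finset.sum_congr rfl fun i _ => mul_comm _ _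

theorem B_comm (x y : Fin n ⊕ Fin n → F) : B x y = B y x := by
  simp only [B]; exact Finset.sum_congr rfl fun i _ => by ring

theorem B_add_left (x y z : Fin n ⊕ Fin n → F) : B (x + y) z = B x z + B y z := by
  simp only [B, Pi.add_apply, ← Finset.sum_add_distrib]; exact Finset.sum_congr rfl fun i _ => by ring

theorem B_smul_left (c : F) (x z : Fin n ⊕ Fin n → F) : B (c • x) z = c * B x z := by
  simp only [B, Pi.smul_apply, smul_eq_mul, Finset.mul_sum]; exact Finset.sum_congr rfl fun i _ => by ring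

theorem B_add_right (x y z : Fin n ⊕ Fin n → F) : B x (y + z) = B x y + B x z := by
  rw [B_comm, B_add_left, B_comm y, B_comm z]

theorem B_smul_right (c : F) (x z : Fin n ⊕ Fin n → F) : B x (c • z) = c * B x z := by
  rw [B_comm, B_smul_left, B_comm z]

theorem B_neg_left (x z : Fin n ⊕ Fin n → F) : B (-x) z = -B x z := by
  rw [← neg_one_smul F x, B_smul_left, neg_one_mul]

theorem B_sub_left (x y z : Fin n ⊕ Fin n → F) : B (x - y) z = B x z - B y z := by
  rw [sub_eq_add_neg, B_add_left, B_neg_left, sub_eq_add_neg]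

theorem B_zero_left (z : Fin n ⊕ Fin n → F) : B (0 : Fin n ⊕ Fin n → F) z = 0 := by simp [B]

theorem Q_add (x y : Fin n ⊕ Fin n → F) :
    Cfsg.quadFormPlus n F (x + y) = Cfsg.quadFormPlus n F x + Cfsg.quadFormPlus n F y + B x y := by
  simp only [Cfsg.quadFormPlus, B, Pi.add_apply, ← Finset.sum_add_distrib]
  exact Finset.sum_congr rfl fun i _ => by ring

theorem Q_smul (c : F) (x : Fin n ⊕ Fin n → F) : Cfsg.quadFormPlus n F (c • x) = c * c * Cfsg.quadFormPlus n F x := by
  simp only [Cfsg.quadFormPlus, Pi.smul_apply, smul_eq_mul, Finset.mul_sum]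
  exact Finset.sum_congr rfl fun i _ => by ring

theorem B_self (x : Fin n ⊕ Fin n → F) : B x x = 2 * Cfsg.quadFormPlus n F x := by
  simp only [B, Cfsg.quadFormPlus, Finset.mul_sum]; exact Finset.sum_congr rfl fun i _ => by ring

theorem B_nondeg {x : Fin n ⊕ Fin n → F} (h : ∀ y, B y x = 0) : x = 0 := by
  funext i
  have := h (Pi.single i.swap 1)
  rw [← du_dot, dotProduct_single_one] at this
  simpa [du] using this

/-- A totally singular pair of independent vectors. -/
structure TS (p r : Fin n ⊕ Fin n → F) : Prop where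
  li : LinearIndependent F ![p, r]
  qp : Cfsg.quadFormPlus n F p = 0
  qr : Cfsg.quadFormPlus n F r = 0
  qpr : Cfsg.quadFormPlus n F (p + r) = 0

variable {p r s t : Fin n ⊕ Fin n → F}

theorem TS.bpr (h : TS p r) : B p r = 0 := by
  have := h.qpr; rwa [Q_add, h.qp, h.qr, zero_add, zero_add] at this

theorem TS.brp (h : TS p r) : B r p = 0 := by rw [B_comm]; exact h.bpr
theorem TS.bpp (h : TS p r) : B p p = 0 := by rw [B_self, h.qp, mul_zero]
theorem TS.brr (h : TS p r) : B r r = 0 := by rw [B_self, h.qr, mul_zero]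

theorem TS.coeff (h : TS p r) {a b : F} (e : a • p + b • r = 0) : a = 0 ∧ b = 0 :=
  LinearIndependent.pair_iff.mp h.li a b e

theorem TS.p_ne (h : TS p r) : p ≠ 0 := fun e => one_ne_zero (h.coeff (a := 1) (b := 0) (by simp [e])).1
theorem TS.r_ne (h : TS p r) : r ≠ 0 := fun e => one_ne_zero (h.coeff (a := 0) (b := 1) (by simp [e])).2

theorem TS.symm (h : TS p r) : TS r p :=
  ⟨LinearIndependent.pair_iff.mpr fun a b e => (h.coeff (a := b) (b := a) (by rw [add_comm]; exact e)).symm, h.qr, h.qp,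
    by rw [add_comm]; exact h.qpr⟩

theorem TS.change (h : TS p r) {a b c d : F} (hdet : a * d - b * c ≠ 0) :
    TS (a • p + b • r) (c • p + d • r) := by
  have hq : ∀ x y : F, Cfsg.quadFormPlus n F (x • p + y • r) = 0 := fun x y => by
    rw [Q_add, Q_smul, Q_smul, h.qp, h.qr, B_smul_left, B_smul_right, h.bpr]; ring
  refine ⟨LinearIndependent.pair_iff.mpr fun x y e => ?_, hq a b, hq c d, ?_⟩
  · obtain ⟨e1, e2⟩ := h.coeff (a := x * a + y * c) (b := x * b + y * d) (by rw [← e]; module)
    constructor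
    · refine (mul_eq_zero.mp (show x * (a * d - b * c) = 0 from ?_)).resolve_right hdet
      linear_combination d * e1 - c * e2
    · refine (mul_eq_zero.mp (show y * (a * d - b * c) = 0 from ?_)).resolve_right hdet
      linear_combination a * e2 - b * e1
  · rw [show a • p + b • r + (c • p + d • r) = (a + c) • p + (b + d) • r by module]; exact hq _ _

theorem TS.exists_dual (h : TS p r) : ∃ y z, B y p = 1 ∧ B y r = 0 ∧ B z p = 0 ∧ B z r = 1 := by
  obtain ⟨y, hy⟩ : ∃ y, B y p ≠ 0 := by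
    by_contra e; push Not at e; exact h.p_ne (B_nondeg e)
  obtain ⟨z, hz, hz'⟩ : ∃ z, B z p = 0 ∧ B z r ≠ 0 := by
    by_contra e; push Not at e
    have key : (- (B y r / B y p)) • p + (1 : F) • r = 0 := B_nondeg fun x => by
      have h1 := e (x - (B x p / B y p) • y) (by rw [B_sub_left, B_smul_left, div_mul_cancel₀ _ hy, sub_self])
      rw [B_sub_left, B_smul_left] at h1
      rw [B_add_right, B_smul_right, B_smul_right]
      linear_combination h1
    exact one_ne_zero (h.coeff key).2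
  refine ⟨(B y p)⁻¹ • (y - (B y r / B z r) • z), (B z r)⁻¹ • z, ?_, ?_, ?_, ?_⟩
  · rw [B_smul_left, B_sub_left, B_smul_left, hz, mul_zero, sub_zero, inv_mul_cancel₀ hy]
  · rw [B_smul_left, B_sub_left, B_smul_left, div_mul_cancel₀ _ hz', sub_self, mul_zero]
  · rw [B_smul_left, hz, mul_zero]
  · rw [B_smul_left, inv_mul_cancel₀ hz']

/-- The isometry group. -/
abbrev Og (n : ℕ) (F : Type*) [Field F] : Type _ := ↥(Cfsg.isometryGroup F (Cfsg.quadFormPlus n F))

/-- The matrix of an isometry. -/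
def mat (g : Og n F) : Matrix (Fin n ⊕ Fin n) (Fin n ⊕ Fin n) F :=
  ((g : Matrix.GeneralLinearGroup (Fin n ⊕ Fin n) F) : Matrix (Fin n ⊕ Fin n) (Fin n ⊕ Fin n) F)

theorem mat_mul (g k : Og n F) : mat (g * k) = mat g * mat k := rfl

theorem mat_one : mat (1 : Og n F) = 1 := rfl

theorem og_q (g : Og n F) (u : Fin n ⊕ Fin n → F) :
    Cfsg.quadFormPlus n F (mat g *ᵥ u) = Cfsg.quadFormPlus n F u := g.2 u u

theorem og_B (g : Og n F) (u v : Fin n ⊕ Fin n → F) : B (mat g *ᵥ u) (mat g *ᵥ v) = B u v := by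
  have := og_q g (u + v)
  rw [mulVec_add, Q_add, Q_add, og_q, og_q] at this
  linear_combination this

theorem og_ext {g k : Og n F} (e : ∀ x, mat g *ᵥ x = mat k *ᵥ x) : g = k :=
  Subtype.ext (Units.ext (Matrix.ext_of_mulVec_single fun i => e _))

theorem inv_mulVec (g : Og n F) (x : Fin n ⊕ Fin n → F) : mat g *ᵥ (mat g⁻¹ *ᵥ x) = x := by
  rw [mulVec_mulVec, ← mat_mul, mul_inv_cancel, mat_one, one_mulVec]

theorem inv_mulVec' (g : Og n F) (x : Fin n ⊕ Fin n → F) : mat g⁻¹ *ᵥ (mat g *ᵥ x) = x := by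
  rw [mulVec_mulVec, ← mat_mul, inv_mul_cancel, mat_one, one_mulVec]

/-- The matrix of a Siegel transvection. -/
def sgMat (p r : Fin n ⊕ Fin n → F) (c : F) : Matrix (Fin n ⊕ Fin n) (Fin n ⊕ Fin n) F :=
  1 + c • (vecMulVec p (du r) - vecMulVec r (du p))

theorem sgMat_mulVec (p r : Fin n ⊕ Fin n → F) (c : F) (x : Fin n ⊕ Fin n → F) :
    sgMat p r c *ᵥ x = x + ((c * B x r) • p + (-(c * B x p)) • r) := by
  rw [sgMat, add_mulVec, one_mulVec, smul_mulVec, sub_mulVec, vecMulVec_mulVec, vecMulVec_mulVec,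
    op_smul_eq_smul, op_smul_eq_smul, du_dot, du_dot]
  module

theorem sgMat_mul (h : TS p r) (c d : F) : sgMat p r c * sgMat p r d = sgMat p r (c + d) := by
  refine Matrix.ext_of_mulVec_single fun i => ?_
  rw [← mulVec_mulVec, sgMat_mulVec, sgMat_mulVec, sgMat_mulVec]
  simp only [B_add_left, B_smul_left, h.bpp, h.bpr, h.brp, h.brr, mul_zero, add_zero]
  module

theorem sgMat_zero (p r : Fin n ⊕ Fin n → F) : sgMat p r 0 = 1 := by simp [sgMat]

/-- The Siegel transvection. -/
def sg (h : TS p r) (c : F) : Og n F :=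
  ⟨⟨sgMat p r c, sgMat p r (-c), by rw [sgMat_mul h, add_neg_cancel, sgMat_zero],
      by rw [sgMat_mul h, neg_add_cancel, sgMat_zero]⟩, fun u _ => by
    show Cfsg.quadFormPlus n F (sgMat p r c *ᵥ u) = _
    rw [sgMat_mulVec, Q_add, Q_add, Q_smul, Q_smul, h.qp, h.qr, B_smul_left, B_smul_right, h.bpr, B_add_right,
      B_smul_right, B_smul_right]
    ring⟩

theorem sg_mulVec (h : TS p r) (c : F) (x : Fin n ⊕ Fin n → F) :
    mat (sg h c) *ᵥ x = x + ((c * B x r) • p + (-(c * B x p)) • r) := sgMat_mulVec p r c x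

theorem sg_mul (h : TS p r) (c d : F) : sg h c * sg h d = sg h (c + d) :=
  Subtype.ext (Units.ext (sgMat_mul h c d))

theorem sg_zero (h : TS p r) : sg h 0 = 1 := Subtype.ext (Units.ext (sgMat_zero p r))

theorem sg_inv (h : TS p r) (c : F) : (sg h c)⁻¹ = sg h (-c) :=
  inv_eq_of_mul_eq_one_right (by rw [sg_mul, add_neg_cancel, sg_zero])

theorem sg_eq_one (h : TS p r) {c : F} (e : sg h c = 1) : c = 0 := by
  obtain ⟨y, z, hyp, hyr, -, -⟩ := h.exists_dual
  have h1 := sg_mulVec h c y
  rw [e, mat_one, one_mulVec, hyp, hyr, mul_zero, mul_one, left_eq_add] at h1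
  exact neg_eq_zero.mp (h.coeff h1).2

theorem sg_change (h : TS p r) {a b c d : F} (h' : TS (a • p + b • r) (c • p + d • r)) (x : F) :
    sg h' x = sg h (x * (a * d - b * c)) :=
  og_ext fun v => by
    rw [sg_mulVec, sg_mulVec, B_add_right, B_smul_right, B_smul_right, B_add_right, B_smul_right, B_smul_right]
    module

/-- The Siegel transvection group of a singular line. -/
def sgrp (p r : Fin n ⊕ Fin n → F) : Subgroup (Og n F) :=
  Subgroup.closure {σ : ↥(Cfsg.isometryGroup F (Cfsg.quadFormPlus n F)) | ∀ v : Fin n ⊕ Fin n → F,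
    Cfsg.quadFormPlus n F (v + p) - Cfsg.quadFormPlus n F v - Cfsg.quadFormPlus n F p = 0 →
    Cfsg.quadFormPlus n F (v + r) - Cfsg.quadFormPlus n F v - Cfsg.quadFormPlus n F r = 0 →
    ((σ : Matrix.GeneralLinearGroup (Fin n ⊕ Fin n) F) : Matrix (Fin n ⊕ Fin n) (Fin n ⊕ Fin n) F) *ᵥ v = v}

theorem polar_eq (v x : Fin n ⊕ Fin n → F) :
    Cfsg.quadFormPlus n F (v + x) - Cfsg.quadFormPlus n F v - Cfsg.quadFormPlus n F x = B v x := by
  rw [Q_add]; ring

theorem sg_mem (h : TS p r) (c : F) : sg h c ∈ sgrp p r := Subgroup.subset_closure fun v hp hr => by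
  rw [polar_eq] at hp hr
  show mat (sg h c) *ᵥ v = v
  rw [sg_mulVec, hp, hr]
  simp

theorem exists_sg (h : TS p r) {g : Og n F} (hg : g ∈ sgrp p r) : ∃ c, g = sg h c := by
  induction hg using Subgroup.closure_induction with
  | mem g hg =>
    obtain ⟨y, z, hyp, hyr, hzp, hzr⟩ := h.exists_dual
    have hfix : ∀ w, B w p = 0 → B w r = 0 → mat g *ᵥ w = w := fun w h1 h2 =>
      hg w (by rw [polar_eq, h1]) (by rw [polar_eq, h2])
    set a := mat g *ᵥ y - y with ha
    set b := mat g *ᵥ z - z with hb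
    have hsplit : ∀ x, B (x - B x p • y - B x r • z) p = 0 ∧ B (x - B x p • y - B x r • z) r = 0 := fun x =>
      ⟨by rw [B_sub_left, B_sub_left, B_smul_left, B_smul_left, hyp, hzp]; ring,
        by rw [B_sub_left, B_sub_left, B_smul_left, B_smul_left, hyr, hzr]; ring⟩
    have hmem : ∀ u, mat g *ᵥ u - u = a → ∃ α β : F, a = α • p + β • r := by
      intro u hu
      refine ⟨B y a, B z a, ?_⟩
      refine sub_eq_zero.mp (B_nondeg fun x => ?_)
      obtain ⟨h1, h2⟩ := hsplit x
      have h3 : B (x - B x p • y - B x r • z) a = 0 := by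
        rw [← hu]
        nth_rewrite 1 [← hfix _ h1 h2]
        rw [sub_eq_add_neg (mat g *ᵥ u), B_add_right, og_B, hfix _ h1 h2, ← neg_one_smul F u, B_smul_right]
        ring
      rw [B_sub_left, B_sub_left, B_smul_left, B_smul_left] at h3
      rw [sub_eq_add_neg, B_add_right, ← neg_one_smul F (B y a • p + _), B_smul_right, B_add_right,
        B_smul_right, B_smul_right]
      linear_combination h3
    have hmem' : ∃ γ δ : F, b = γ • p + δ • r := by
      refine ⟨B y b, B z b, ?_⟩
      refine sub_eq_zero.mp (B_nondeg fun x => ?_)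
      obtain ⟨h1, h2⟩ := hsplit x
      have h3 : B (x - B x p • y - B x r • z) b = 0 := by
        rw [hb]
        nth_rewrite 1 [← hfix _ h1 h2]
        rw [sub_eq_add_neg (mat g *ᵥ z), B_add_right, og_B, hfix _ h1 h2, ← neg_one_smul F z, B_smul_right]
        ring
      rw [B_sub_left, B_sub_left, B_smul_left, B_smul_left] at h3
      rw [sub_eq_add_neg, B_add_right, ← neg_one_smul F (B y b • p + _), B_smul_right, B_add_right,
        B_smul_right, B_smul_right]
      linear_combination h3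
    obtain ⟨α, β, hαβ⟩ := hmem y rfl
    obtain ⟨γ, δ, hγδ⟩ := hmem'
    have ey : mat g *ᵥ y = y + (α • p + β • r) := by rw [← hαβ, ha]; abel
    have ez : mat g *ᵥ z = z + (γ • p + δ • r) := by rw [← hγδ, hb]; abel
    have hq : ∀ x y' : F, Cfsg.quadFormPlus n F (x • p + y' • r) = 0 := fun x y' => by
      rw [Q_add, Q_smul, Q_smul, h.qp, h.qr, B_smul_left, B_smul_right, h.bpr]; ring
    have hα : α = 0 := by
      have := og_q g y
      rw [ey, Q_add, hq, B_add_right, B_smul_right, B_smul_right, hyp, hyr] at this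
      linear_combination this
    have hδ : δ = 0 := by
      have := og_q g z
      rw [ez, Q_add, hq, B_add_right, B_smul_right, B_smul_right, hzp, hzr] at this
      linear_combination this
    have hβ : β = -γ := by
      have := og_B g y z
      rw [ey, ez] at this
      simp only [B_add_left, B_add_right, B_smul_left, B_smul_right, h.bpp, h.brr, h.bpr, h.brp, hyp, hyr,
        B_comm p z, B_comm r z, hzp, hzr, hα, hδ] at this
      linear_combination this
    refine ⟨γ, og_ext fun x => ?_⟩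
    obtain ⟨h1, h2⟩ := hsplit x
    have h3 := hfix _ h1 h2
    rw [mulVec_sub, mulVec_sub, mulVec_smul, mulVec_smul, ey, ez, hα, hδ, hβ] at h3
    rw [sg_mulVec, show mat g *ᵥ x = (mat g *ᵥ x - B x p • (y + ((0 : F) • p + -γ • r)) -
      B x r • (z + (γ • p + (0 : F) • r))) + (B x p • (y + ((0 : F) • p + -γ • r)) +
      B x r • (z + (γ • p + (0 : F) • r))) by abel, h3]
    module
  | one => exact ⟨0, (sg_zero h).symm⟩
  | mul x y _ _ hx hy => obtain ⟨c, rfl⟩ := hx; obtain ⟨d, rfl⟩ := hy; exact ⟨c + d, sg_mul h c d⟩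
  | inv x _ hx => obtain ⟨c, rfl⟩ := hx; exact ⟨-c, sg_inv h c⟩

theorem sgrp_comm (h : TS p r) : IsMulCommutative (sgrp p r) := by
  refine ⟨⟨fun a b => Subtype.ext ?_⟩⟩
  obtain ⟨c, hc⟩ := exists_sg h a.2
  obtain ⟨d, hd⟩ := exists_sg h b.2
  show a.1 * b.1 = b.1 * a.1
  rw [hc, hd, sg_mul, sg_mul, add_comm]

theorem sgrp_ne_bot (h : TS p r) : sgrp p r ≠ ⊥ := fun e => by
  have := sg_mem h 1
  rw [e, Subgroup.mem_bot] at this
  exact one_ne_zero (sg_eq_one h this)

theorem sgrp_change (h : TS p r) {a b c d : F} (hdet : a * d - b * c ≠ 0) :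
    sgrp (a • p + b • r) (c • p + d • r) = sgrp p r := by
  have h' := h.change hdet
  apply le_antisymm
  · intro g hg; obtain ⟨x, rfl⟩ := exists_sg h' hg; rw [sg_change h h']; exact sg_mem h _
  · intro g hg; obtain ⟨x, rfl⟩ := exists_sg h hg
    rw [show x = x / (a * d - b * c) * (a * d - b * c) by rw [div_mul_cancel₀ _ hdet], ← sg_change h h']
    exact sg_mem h' _

theorem sgrp_swap (h : TS p r) : sgrp r p = sgrp p r := by
  have := sgrp_change h (a := 0) (b := 1) (c := 1) (d := 0) (by simp)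
  simpa using this

theorem TS.move (h : TS p r) (g : Og n F) : TS (mat g *ᵥ p) (mat g *ᵥ r) := by
  refine ⟨LinearIndependent.pair_iff.mpr fun a b e => h.coeff ?_, by rw [og_q, h.qp], by rw [og_q, h.qr],
    by rw [← mulVec_add, og_q, h.qpr]⟩
  rw [← inv_mulVec' g (a • p + b • r), mulVec_add (mat g), mulVec_smul, mulVec_smul, e, mulVec_zero]

theorem conj_sgrp (h : TS p r) (g : Og n F) :
    Cfsg.conjBy (sgrp p r) g = sgrp (mat g *ᵥ p) (mat g *ᵥ r) := by
  have key : ∀ c, g * sg h c * g⁻¹ = sg (h.move g) c := fun c => og_ext fun x => by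
    rw [mat_mul, mat_mul, ← mulVec_mulVec, ← mulVec_mulVec, sg_mulVec, sg_mulVec]
    conv_rhs => rw [← inv_mulVec g x, og_B, og_B, inv_mulVec]
    rw [mulVec_add, mulVec_add, mulVec_smul, mulVec_smul, inv_mulVec]
  apply le_antisymm
  · rintro _ ⟨x, hx, rfl⟩
    obtain ⟨c, rfl⟩ := exists_sg h hx
    show g * sg h c * g⁻¹ ∈ _
    rw [key]; exact sg_mem _ _
  · intro x hx
    obtain ⟨c, rfl⟩ := exists_sg (h.move g) hx
    exact ⟨sg h c, sg_mem h c, key c⟩

/-- All four pairings vanish. -/
theorem commutator_bot (h : TS p r) (h' : TS s t) (e1 : B p s = 0) (e2 : B p t = 0) (e3 : B r s = 0)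
    (e4 : B r t = 0) : ⁅sgrp p r, sgrp s t⁆ = ⊥ := by
  rw [eq_bot_iff, Subgroup.commutator_le]
  intro a ha b hb
  obtain ⟨c, rfl⟩ := exists_sg h ha
  obtain ⟨d, rfl⟩ := exists_sg h' hb
  rw [Subgroup.mem_bot, commutatorElement_eq_one_iff_mul_comm]
  refine og_ext fun x => ?_
  rw [mat_mul, mat_mul, ← mulVec_mulVec, ← mulVec_mulVec, sg_mulVec, sg_mulVec, sg_mulVec, sg_mulVec]
  simp only [B_add_left, B_smul_left, e1, e2, e3, e4, B_comm s p, B_comm t p, B_comm s r, B_comm t r, mul_zero,
    add_zero]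
  abel

/-- One pairing left: either commuting or the commutator is the joining line. -/
theorem comm_one (h : TS p r) (h' : TS s t) (e1 : B p s = 0) (e2 : B p t = 0) (e3 : B r s = 0)
    (h'' : TS s p) (c d : F) : ⁅sg h c, sg h' d⁆ = sg h'' (B r t * c * d) := by
  rw [commutatorElement_def, mul_inv_eq_iff_eq_mul, mul_inv_eq_iff_eq_mul]
  refine og_ext fun x => ?_
  simp only [mat_mul, ← mulVec_mulVec, sg_mulVec, B_add_left, B_smul_left, e1, e2, e3, B_comm s p, B_comm t p,
    B_comm s r, B_comm t r, h.bpp, h.bpr, h.brp, h.brr, h'.bpp, h'.bpr, h'.brp, h'.brr, mul_zero, add_zero]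
  module

/-- The rank one condition for opposite lines. -/
theorem cond_unit (h : TS p r) (h' : TS s t) (e1 : B p s = 1) (e2 : B p t = 0) (e3 : B r s = 0) (e4 : B r t = 1) :
    Cfsg.RankOneCondition (sgrp p r) (sgrp s t) := by
  intro a ha ha1
  obtain ⟨c, rfl⟩ := exists_sg h ha
  have hc : c ≠ 0 := fun e => ha1 (by rw [e, sg_zero])
  refine ⟨sg h' (-c⁻¹), sg_mem _ _, fun e => neg_ne_zero.mpr (inv_ne_zero hc) (sg_eq_one h' e), ?_⟩
  rw [conj_sgrp h, conj_sgrp h', sg_inv, sg_inv, sg_mulVec, sg_mulVec, sg_mulVec, sg_mulVec, e1, e2, e3, e4,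
    B_comm s r, B_comm s p, B_comm t r, B_comm t p, e1, e2, e3, e4]
  have hT := h'.move (sg h (-c))
  rw [sg_mulVec, sg_mulVec, B_comm s r, B_comm s p, B_comm t r, B_comm t p, e1, e2, e3, e4] at hT
  refine Eq.trans ?_ (sgrp_change hT (a := 0) (b := -c⁻¹) (c := c⁻¹) (d := 0)
    (by rw [neg_mul, mul_zero, zero_sub, neg_neg]; exact mul_ne_zero (inv_ne_zero hc) (inv_ne_zero hc)))
  congr 1
  · funext i
    simp only [Pi.add_apply, Pi.smul_apply, smul_eq_mul]
    field_simp
    ring
  · funext i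
    simp only [Pi.add_apply, Pi.smul_apply, smul_eq_mul]
    field_simp
    ring

theorem psl2_unit (h : TS p r) (h' : TS s t) (e1 : B p s = 1) (e2 : B p t = 0) (e3 : B r s = 0) (e4 : B r t = 1) :
    Cfsg.IsPSL2PairOver F (sgrp p r) (sgrp s t) := by
  have f1 : du r ⬝ᵥ p = 0 := by rw [du_dot, h.bpr]
  have f2 : du s ⬝ᵥ t = 0 := by rw [du_dot, h'.brp]
  have f3 : du r ⬝ᵥ t = 1 := by rw [du_dot, B_comm, e4]
  have f4 : du s ⬝ᵥ p = 1 := by rw [du_dot, e1]
  have g1 : (-du p) ⬝ᵥ r = 0 := by rw [neg_dotProduct, du_dot, h.brp, neg_zero]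
  have g2 : du t ⬝ᵥ (-s) = 0 := by rw [du_dot, B_neg_left, h'.bpr, neg_zero]
  have g3 : (-du p) ⬝ᵥ (-s) = 1 := by rw [neg_dotProduct, du_dot, B_neg_left, neg_neg, B_comm, e1]
  have g4 : du t ⬝ᵥ r = 1 := by rw [du_dot, e4]
  have H1 := Transv.row_mul_col f1 f2 f3 f4
  have H2 := Transv.row_mul_col g1 g2 g3 g4
  let E1 := Transv.emb (Transv.colMat p t) (Transv.rowMat (du s) (du r)) H1
  let E2 := Transv.emb (Transv.colMat r (-s)) (Transv.rowMat (du t) (-du p)) H2
  have hcomm : ∀ M N, E1 M * E2 N = E2 N * E1 M := by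
    intro M N
    apply Subtype.ext
    simp only [E1, E2, Transv.val_mul, Transv.emb_coe, Matrix.mul_add, Matrix.add_mul, Matrix.mul_one, Matrix.one_mul,
      smul_mul, Matrix.mul_smul, Transv.mul_vv, neg_dotProduct, dotProduct_neg, du_dot, h.bpp, h.bpr, h.brp, h.brr,
      h'.bpp, h'.bpr, h'.brp, h'.brr, e2, e3, B_comm s r, B_comm t p, neg_zero, zero_smul, smul_zero, add_zero]
    abel
  let f₁ : Matrix.SpecialLinearGroup (Fin 2) F →* Matrix.SpecialLinearGroup (Fin n ⊕ Fin n) F :=
    { toFun := fun M => E1 M * E2 M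
      map_one' := by rw [map_one, map_one, one_mul]
      map_mul' := fun M N => by
        rw [map_mul, map_mul, mul_assoc, ← mul_assoc (E1 N), hcomm N M]
        simp only [mul_assoc] }
  let f₀ : Matrix.SpecialLinearGroup (Fin 2) F →* Matrix.GeneralLinearGroup (Fin n ⊕ Fin n) F :=
    Matrix.SpecialLinearGroup.toGL.comp f₁
  have hup : ∀ M : Matrix.SpecialLinearGroup (Fin 2) F, M.1 1 0 = 0 → M.1 0 0 = 1 → M.1 1 1 = 1 →
      f₀ M = (sg h (M.1 0 1)).1 := by
    intro M h10 h00 h11
    apply Units.ext; apply Matrix.ext_of_mulVec_single; intro i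
    show ((E1 M).1 * (E2 M).1) *ᵥ _ = mat (sg h (M.1 0 1)) *ᵥ _
    rw [← mulVec_mulVec]
    simp only [E1, E2]
    rw [Transv.emb_upper H1 f1 h10 h00 h11, Transv.emb_upper H2 g1 h10 h00 h11, Transv.elt_mulVec, Transv.elt_mulVec,
      sg_mulVec, du_dot, B_add_left, B_smul_left, neg_dotProduct, du_dot, h.brr]
    module
  have hlow : ∀ M : Matrix.SpecialLinearGroup (Fin 2) F, M.1 0 1 = 0 → M.1 0 0 = 1 → M.1 1 1 = 1 →
      f₀ M = (sg h' (-(M.1 1 0))).1 := by
    intro M h01 h00 h11
    apply Units.ext; apply Matrix.ext_of_mulVec_single; intro i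
    show ((E1 M).1 * (E2 M).1) *ᵥ _ = mat (sg h' (-(M.1 1 0))) *ᵥ _
    rw [← mulVec_mulVec]
    simp only [E1, E2]
    rw [Transv.emb_lower H1 f2 h01 h00 h11, Transv.emb_lower H2 g2 h01 h00 h11, Transv.elt_mulVec, Transv.elt_mulVec,
      sg_mulVec]
    simp only [du_dot, B_add_left, B_smul_left, B_neg_left, h'.bpp]
    module
  have hmem : ∀ M, ∃ g ∈ sgrp p r ⊔ sgrp s t, (g : Og n F).1 = f₀ M := by
    intro M
    refine Matrix.SL2.transvection_induction (fun M => ∃ g ∈ sgrp p r ⊔ sgrp s t, (g : Og n F).1 = f₀ M)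
      (fun i j hij x => ?_) ?_ M
    · fin_cases i <;> fin_cases j
      · exact absurd rfl hij
      · exact ⟨_, Subgroup.mem_sup_left (sg_mem h _), (hup _
          (by simp [Matrix.SpecialLinearGroup.transvection_coe])
          (by simp [Matrix.SpecialLinearGroup.transvection_coe])
          (by simp [Matrix.SpecialLinearGroup.transvection_coe])).symm⟩
      · exact ⟨_, Subgroup.mem_sup_right (sg_mem h' _), (hlow _
          (by simp [Matrix.SpecialLinearGroup.transvection_coe])
          (by simp [Matrix.SpecialLinearGroup.transvection_coe])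
          (by simp [Matrix.SpecialLinearGroup.transvection_coe])).symm⟩
      · exact absurd rfl hij
    · rintro A C ⟨a, ha, ea⟩ ⟨b, hb, eb⟩
      exact ⟨a * b, mul_mem ha hb, by rw [map_mul, ← ea, ← eb]; rfl⟩
  let f : Matrix.SpecialLinearGroup (Fin 2) F →* Og n F :=
    f₀.codRestrict (Cfsg.isometryGroup F (Cfsg.quadFormPlus n F)) (fun M => by
      obtain ⟨g, -, e⟩ := hmem M; rw [← e]; exact g.2)
  have hA : (Cfsg.upperUnipotentSL2 F).map f = sgrp p r := by
    refine le_antisymm ?_ fun x hx => ?_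
    · rw [Cfsg.upperUnipotentSL2, MonoidHom.map_closure, Subgroup.closure_le]
      rintro _ ⟨M, ⟨h10, h00, h11⟩, rfl⟩
      rw [show f M = sg h (M.1 0 1) from Subtype.ext (hup M h10 h00 h11)]
      exact sg_mem _ _
    · obtain ⟨c, rfl⟩ := exists_sg h hx
      refine ⟨Transv.up c, Subgroup.subset_closure (by simp [Transv.up]), Subtype.ext ?_⟩
      refine (hup _ (by simp [Transv.up]) (by simp [Transv.up]) (by simp [Transv.up])).trans ?_
      simp [Transv.up]
  have hB : (Cfsg.lowerUnipotentSL2 F).map f = sgrp s t := by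
    refine le_antisymm ?_ fun x hx => ?_
    · rw [Cfsg.lowerUnipotentSL2, MonoidHom.map_closure, Subgroup.closure_le]
      rintro _ ⟨M, ⟨h01, h00, h11⟩, rfl⟩
      rw [show f M = sg h' (-(M.1 1 0)) from Subtype.ext (hlow M h01 h00 h11)]
      exact sg_mem _ _
    · obtain ⟨c, rfl⟩ := exists_sg h' hx
      refine ⟨Transv.low (-c), Subgroup.subset_closure (by simp [Transv.low]), Subtype.ext ?_⟩
      refine (hlow _ (by simp [Transv.low]) (by simp [Transv.low]) (by simp [Transv.low])).trans ?_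
      simp [Transv.low]
  refine ⟨f, le_antisymm ?_ (sup_le (hA ▸ Subgroup.map_le_range _ _) (hB ▸ Subgroup.map_le_range _ _)), ?_, hA, hB⟩
  · rintro _ ⟨M, rfl⟩
    obtain ⟨g, hg, e⟩ := hmem M
    rwa [show f M = g from Subtype.ext e.symm]
  · intro M hM
    have h1 : (E1 M).1 * (E2 M).1 = 1 := congrArg (fun g : Og n F => mat g) hM
    have hfix : ∀ x, (du s ⬝ᵥ x = 0 ∧ du r ⬝ᵥ x = 0 → (E1 M).1 *ᵥ x = x) ∧
        (du t ⬝ᵥ x = 0 ∧ (-du p) ⬝ᵥ x = 0 → (E2 M).1 *ᵥ x = x) := fun x => by
      constructor <;> rintro ⟨a, b⟩ <;>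
        simp only [E1, E2, Transv.emb_coe, add_mulVec, one_mulVec, smul_mulVec, vecMulVec_mulVec, a, b] <;> simp
    have hM1 : E1 M = 1 := by
      apply Subtype.ext
      show (E1 M).1 = 1
      have key : (E1 M).1 = 1 + ((M.1 0 0 - 1) • vecMulVec p (du s) + M.1 0 1 • vecMulVec p (du r) +
        M.1 1 0 • vecMulVec t (du s) + (M.1 1 1 - 1) • vecMulVec t (du r)) := Transv.emb_coe H1 M
      have ap : (E1 M).1 *ᵥ p = p := by
        calc (E1 M).1 *ᵥ p = (E1 M).1 *ᵥ ((E2 M).1 *ᵥ p) := by
              rw [(hfix p).2 ⟨by rw [du_dot, e2], by rw [neg_dotProduct, du_dot, h.bpp, neg_zero]⟩]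
          _ = p := by rw [mulVec_mulVec, h1, one_mulVec]
      have at' : (E1 M).1 *ᵥ t = t := by
        calc (E1 M).1 *ᵥ t = (E1 M).1 *ᵥ ((E2 M).1 *ᵥ t) := by
              rw [(hfix t).2 ⟨by rw [du_dot, h'.brr], by rw [neg_dotProduct, du_dot, B_comm, e2, neg_zero]⟩]
          _ = t := by rw [mulVec_mulVec, h1, one_mulVec]
      rw [key] at ap at' ⊢
      simp only [add_mulVec, one_mulVec, smul_mulVec, vecMulVec_mulVec, op_smul_eq_smul, f1, f2, f3, f4,
        zero_smul, smul_zero, one_smul, add_zero, zero_add, add_eq_left] at ap at'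
      have hli : ∀ a b : F, a • p + b • t = 0 → a = 0 ∧ b = 0 := fun a b e => by
        constructor
        · have := congrArg (fun v => du s ⬝ᵥ v) e
          simpa [dotProduct_add, dotProduct_smul, f2, f4] using this
        · have := congrArg (fun v => du r ⬝ᵥ v) e
          simpa [dotProduct_add, dotProduct_smul, f1, f3] using this
      rw [(hli _ _ ap).1, (hli _ _ ap).2, (hli _ _ at').1, (hli _ _ at').2]
      simp
    have h2 : M = 1 := Transv.emb_injective _ _ H1 (hM1.trans (map_one _).symm)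
    rw [h2]; exact one_mem _

theorem rankOne_unit (h : TS p r) (h' : TS s t) (e1 : B p s = 1) (e2 : B p t = 0) (e3 : B r s = 0) (e4 : B r t = 1) :
    Cfsg.IsRankOnePair (sgrp p r) (sgrp s t) := by
  haveI := sgrp_comm h
  haveI := sgrp_comm h'
  refine ⟨?_, ?_, ?_, cond_unit h h' e1 e2 e3 e4,
    cond_unit h' h (by rw [B_comm, e1]) (by rw [B_comm, e3]) (by rw [B_comm, e2]) (by rw [B_comm, e4])⟩
  · intro e
    obtain ⟨d, hd⟩ := exists_sg h' (e ▸ sg_mem h 1)
    have h2 := congrArg (fun g => B (mat g *ᵥ t) s) hd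
    simp [sg_mulVec, B_add_left, B_smul_left, B_comm t r, B_comm t p, e1, e2, e3, e4, h'.brp, h'.brr, h'.bpp] at h2
  · exact @CommGroup.isNilpotent _ (CommGroup.mk (fun a b => mul_comm' a b))
  · exact @CommGroup.isNilpotent _ (CommGroup.mk (fun a b => mul_comm' a b))

/-- Opposite lines. -/
theorem pair (h : TS p r) (h' : TS s t) (hdet : B p s * B r t - B p t * B r s ≠ 0) :
    Cfsg.IsRankOnePair (sgrp p r) (sgrp s t) ∧ Cfsg.IsPSL2PairOver F (sgrp p r) (sgrp s t) := by
  set D := B p s * B r t - B p t * B r s with hD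
  have hd' : (B r t / D) * (B p s / D) - (-(B r s / D)) * (-(B p t / D)) ≠ 0 := by
    rw [show (B r t / D) * (B p s / D) - (-(B r s / D)) * (-(B p t / D)) = D / (D * D) by
      rw [neg_mul_neg, div_mul_div_comm, div_mul_div_comm, ← sub_div]; congr 1; rw [hD]; ring]
    exact div_ne_zero hdet (mul_ne_zero hdet hdet)
  rw [← sgrp_change h' hd']
  have h'' := h'.change hd'
  have a1 : B p ((B r t / D) • s + (-(B r s / D)) • t) = 1 := by
    rw [B_add_right, B_smul_right, B_smul_right]; field_simp; rw [hD]; ring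
  have a2 : B p ((-(B p t / D)) • s + (B p s / D) • t) = 0 := by
    rw [B_add_right, B_smul_right, B_smul_right]; ring
  have a3 : B r ((B r t / D) • s + (-(B r s / D)) • t) = 0 := by
    rw [B_add_right, B_smul_right, B_smul_right]; ring
  have a4 : B r ((-(B p t / D)) • s + (B p s / D) • t) = 1 := by
    rw [B_add_right, B_smul_right, B_smul_right]; field_simp; rw [hD]; ring
  exact ⟨rankOne_unit h h'' a1 a2 a3 a4, psl2_unit h h'' a1 a2 a3 a4⟩

/-- Degenerate pairings: commuting, or the commutator case. -/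
theorem degenerate (S : Set (Subgroup (Og n F))) (hS : ∀ {a b : Fin n ⊕ Fin n → F}, TS a b → sgrp a b ∈ S)
    (h : TS p r) (h' : TS s t) (hdet : B p s * B r t - B p t * B r s = 0) :
    ⁅sgrp p r, sgrp s t⁆ = ⊥ ∨ Cfsg.RootCommutatorCase S (sgrp p r) (sgrp s t) := by
  have norm : ∀ {p r s t : Fin n ⊕ Fin n → F}, TS p r → TS s t → B p s * B r t - B p t * B r s = 0 → B r t ≠ 0 →
      ⁅sgrp p r, sgrp s t⁆ = ⊥ ∨ Cfsg.RootCommutatorCase S (sgrp p r) (sgrp s t) := by
    intro p r s t h h' hdet hX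
    have d1 : (1 : F) * 1 - (-(B p t / B r t)) * 0 ≠ 0 := by simp
    have d2 : (1 : F) * 1 - (-(B r s / B r t)) * 0 ≠ 0 := by simp
    have k := h.change d1
    have k' := h'.change d2
    rw [← sgrp_change h d1, ← sgrp_change h' d2]
    set p' := (1 : F) • p + (-(B p t / B r t)) • r with hp'
    set r' := (0 : F) • p + (1 : F) • r with hr'
    set s' := (1 : F) • s + (-(B r s / B r t)) • t with hs'
    set t' := (0 : F) • s + (1 : F) • t with ht'
    have e4 : B r' t' = B r t := by simp [hr', ht']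
    have e2 : B p' t' = 0 := by
      simp only [hp', ht', zero_smul, zero_add, one_smul, B_add_left, B_smul_left]; field_simp; ring
    have e3 : B r' s' = 0 := by
      simp only [hr', hs', zero_smul, zero_add, one_smul, B_add_right, B_smul_right]; field_simp; ring
    have e1 : B p' s' = 0 := by
      simp only [hp', hs', one_smul, B_add_left, B_smul_left, B_add_right, B_smul_right]; field_simp
      linear_combination hdet
    by_cases hli : LinearIndependent F ![s', p']
    · right
      have k'' : TS s' p' := ⟨hli, k'.qp, k.qp, by rw [Q_add, k'.qp, k.qp, B_comm, e1]; ring⟩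
      have hK : ⁅sgrp p' r', sgrp s' t'⁆ = sgrp s' p' := by
        refine le_antisymm (Subgroup.commutator_le.mpr fun a ha b hb => ?_) ?_
        · obtain ⟨c, rfl⟩ := exists_sg k ha
          obtain ⟨d, rfl⟩ := exists_sg k' hb
          rw [comm_one k k' e1 e2 e3 k'']; exact sg_mem _ _
        · intro x hx
          obtain ⟨e, rfl⟩ := exists_sg k'' hx
          have := Subgroup.commutator_mem_commutator (sg_mem k (e / B r' t')) (sg_mem k' 1)
          rwa [comm_one k k' e1 e2 e3 k'', mul_one, mul_div_cancel₀ e (e4 ▸ hX)] at this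
      refine ⟨hK ▸ hS k'', ?_, ?_, ?_⟩
      · intro z hz x hx
        rw [hK] at hz
        obtain ⟨e, rfl⟩ := exists_sg k'' hz
        have hle : sgrp p' r' ⊔ sgrp s' t' ≤ Subgroup.centralizer {sg k'' e} := by
          refine sup_le ?_ ?_ <;> intro y hy <;> rw [Subgroup.mem_centralizer_singleton_iff]
          · exact CfsgLib.RootSub.commute_of_comm_eq_bot
              (commutator_bot k k'' e1 k.bpp e3 k.brp) hy (sg_mem k'' e)
          · exact CfsgLib.RootSub.commute_of_comm_eq_bot
              (commutator_bot k' k'' k'.bpp (by rw [B_comm, e1]) k'.brp (by rw [B_comm, e2])) hy (sg_mem k'' e)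
        exact (Subgroup.mem_centralizer_singleton_iff.mp (hle hx)).symm
      · intro a ha ha1
        obtain ⟨c, rfl⟩ := exists_sg k ha
        have hc0 : c ≠ 0 := fun e => ha1 (by rw [e, sg_zero])
        rw [hK]
        refine le_antisymm ((Subgroup.closure_le _).mpr ?_) fun x hx => ?_
        · rintro _ ⟨b, hb, rfl⟩
          obtain ⟨d, rfl⟩ := exists_sg k' hb
          simp only [← commutatorElement_def, comm_one k k' e1 e2 e3 k'']
          exact sg_mem _ _
        · obtain ⟨e, rfl⟩ := exists_sg k'' hx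
          refine Subgroup.subset_closure ⟨sg k' (e / (B r' t' * c)), sg_mem _ _, ?_⟩
          simp only [← commutatorElement_def, comm_one k k' e1 e2 e3 k'']
          rw [mul_div_cancel₀ e (mul_ne_zero (e4 ▸ hX) hc0)]
      · intro b hb hb1
        obtain ⟨d, rfl⟩ := exists_sg k' hb
        have hd0 : d ≠ 0 := fun e => hb1 (by rw [e, sg_zero])
        rw [hK]
        refine le_antisymm ((Subgroup.closure_le _).mpr ?_) fun x hx => ?_
        · rintro _ ⟨a, ha, rfl⟩
          obtain ⟨c, rfl⟩ := exists_sg k ha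
          simp only [← commutatorElement_def, comm_one k k' e1 e2 e3 k'']
          exact sg_mem _ _
        · obtain ⟨e, rfl⟩ := exists_sg k'' hx
          refine Subgroup.subset_closure ⟨sg k (e / (B r' t' * d)), sg_mem _ _, ?_⟩
          simp only [← commutatorElement_def, comm_one k k' e1 e2 e3 k'']
          congr 1
          field_simp [e4 ▸ hX]
    · left
      obtain ⟨a, ha⟩ : ∃ a : F, a • p' = s' := by
        rw [LinearIndependent.pair_iff] at hli
        push Not at hli
        obtain ⟨x, y, exy, hne⟩ := hli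
        have hx : x ≠ 0 := fun e => by
          rw [e, zero_smul, zero_add, smul_eq_zero] at exy
          exact hne e (exy.resolve_right k.p_ne)
        refine ⟨-(y / x), ?_⟩
        have : x • s' = -(y • p') := eq_neg_of_add_eq_zero_left exy
        rw [neg_smul, div_eq_mul_inv, mul_comm, mul_smul, ← smul_neg, ← this, smul_smul, inv_mul_cancel₀ hx, one_smul]
      rw [eq_bot_iff, Subgroup.commutator_le]
      intro g hg g' hg'
      obtain ⟨c, rfl⟩ := exists_sg k hg
      obtain ⟨d, rfl⟩ := exists_sg k' hg'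
      rw [Subgroup.mem_bot, commutatorElement_eq_one_iff_mul_comm]
      refine og_ext fun x => ?_
      rw [mat_mul, mat_mul, ← mulVec_mulVec, ← mulVec_mulVec, sg_mulVec, sg_mulVec, sg_mulVec, sg_mulVec]
      simp only [B_add_left, B_smul_left, e1, e2, e3, B_comm s' p', B_comm t' p', B_comm s' r', B_comm t' r',
        mul_zero, add_zero]
      simp only [← ha, B_smul_right, B_smul_left]
      module
  by_cases x1 : B r t ≠ 0
  · exact norm h h' hdet x1
  by_cases x2 : B r s ≠ 0
  · rw [← sgrp_swap h']; exact norm h h'.symm (by linear_combination -hdet) x2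
  by_cases x3 : B p t ≠ 0
  · rw [← sgrp_swap h]; exact norm h.symm h' (by linear_combination -hdet) x3
  by_cases x4 : B p s ≠ 0
  · rw [← sgrp_swap h, ← sgrp_swap h']; exact norm h.symm h'.symm (by linear_combination hdet) x4
  push Not at x1 x2 x3 x4
  exact Or.inl (commutator_bot h h' x4 x3 x2 x1)

end CfsgLib.RootSub.SiegelClass
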