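import Cfsg.Agent.Lib.RootSub.Transv
import Cfsg.Agent.Lib.SLPerfect

/-!
The class of transvection subgroups of `SL_N(k)`, `N ≥ 3`.
-/

set_option autoImplicit false
set_option backward.isDefEq.respectTransparency.types false
set_option backward.isDefEq.respectTransparency false

namespace CfsgLib.RootSub.Transv

open Matrix
open scoped commutatorElement

variable (k : Type*) [Field k] (n : ℕ)

local notation "SLn" => Matrix.SpecialLinearGroup (Fin (n + 3)) k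
local notation "e_" => fun i : Fin (n + 3) => (Pi.single i 1 : Fin (n + 3) → k)

/-- The class of transvection subgroups. -/
def cls : Set (Subgroup (Matrix.SpecialLinearGroup (Fin (n + 3)) k)) :=
  {A | ∃ g : SLn, A = Cfsg.conjBy (Subgroup.closure {t : SLn | ∃ c : k,
    (t : Matrix (Fin (n + 3)) (Fin (n + 3)) k) = Matrix.transvection 0 1 c}) g}

theorem dot_pi {i j : Fin (n + 3)} (h : i ≠ j) :
    (Pi.single i (1 : k) : Fin (n + 3) → k) ⬝ᵥ Pi.single j 1 = 0 := by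
  simp [h.symm]

theorem dot_pi_self (i : Fin (n + 3)) :
    (Pi.single i (1 : k) : Fin (n + 3) → k) ⬝ᵥ Pi.single i 1 ≠ 0 := by simp

theorem pi_ne (i : Fin (n + 3)) : (Pi.single i (1 : k) : Fin (n + 3) → k) ≠ 0 := by simp

theorem transvection_eq (i j : Fin (n + 3)) (c : k) : Matrix.transvection i j c =
    1 + c • vecMulVec (Pi.single i 1 : Fin (n + 3) → k) (Pi.single j 1) := by
  rw [Matrix.transvection, ← single_eq_single_vecMulVec_single, Matrix.smul_single, smul_eq_mul,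
    mul_one]

theorem base_eq : Subgroup.closure {t : SLn | ∃ c : k,
    (t : Matrix (Fin (n + 3)) (Fin (n + 3)) k) = Matrix.transvection 0 1 c} =
    grp (Pi.single 0 1) (Pi.single 1 1) := by
  simp only [transvection_eq]
  rfl

theorem conj_conj {G : Type*} [Group G] (A : Subgroup G) (g h : G) :
    Cfsg.conjBy (Cfsg.conjBy A g) h = Cfsg.conjBy A (h * g) := by
  ext x
  simp [Cfsg.conjBy, Subgroup.mem_map, mul_assoc]

theorem conj_mem_cls {A : Subgroup SLn} (hA : A ∈ cls k n) (g : SLn) : Cfsg.conjBy A g ∈ cls k n := by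
  obtain ⟨h, rfl⟩ := hA
  exact ⟨g * h, conj_conj _ h g⟩

theorem conj_of_mem {A B : Subgroup SLn} (hA : A ∈ cls k n) (hB : B ∈ cls k n) :
    ∃ g, B = Cfsg.conjBy A g := by
  obtain ⟨h, rfl⟩ := hA
  obtain ⟨h', rfl⟩ := hB
  exact ⟨h' * h⁻¹, by rw [conj_conj, inv_mul_cancel_right]⟩

theorem one_mem_cls : grp (Pi.single 0 1) (Pi.single 1 1) ∈ cls k n :=
  ⟨1, by rw [base_eq]; ext x; simp [Cfsg.conjBy, Subgroup.mem_map]⟩

theorem zero_ne_one' : (0 : Fin (n + 3)) ≠ 1 := by simp [Fin.ext_iff]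

theorem repr_cls {A : Subgroup SLn} (hA : A ∈ cls k n) : ∃ v φ : Fin (n + 3) → k,
    v ≠ 0 ∧ φ ≠ 0 ∧ φ ⬝ᵥ v = 0 ∧ A = grp v φ := by
  obtain ⟨g, rfl⟩ := hA
  rw [base_eq]
  have h := dot_pi k n (zero_ne_one' n).symm
  exact ⟨_, _, mulVec_ne_zero (pi_ne k n 0) g, vecMul_ne_zero (pi_ne k n 1) g⁻¹, conj_valid _ _ h g,
    conj_grp _ _ h g⟩

theorem mem_of_pair {v φ w ψ : Fin (n + 3) → k} (hm : grp v φ ∈ cls k n) (hv : v ≠ 0) (hφ : φ ≠ 0)
    (h : φ ⬝ᵥ v = 0) (h' : ψ ⬝ᵥ w = 0) (hx : φ ⬝ᵥ w ≠ 0) (hy : ψ ⬝ᵥ v ≠ 0) :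
    grp w ψ ∈ cls k n := by
  obtain ⟨g, hg⟩ := exists_conj_of_pair (grp_ne_bot v φ h hv hφ) (pair h h' hx hy).1
  exact hg ▸ conj_mem_cls k n hm g

theorem mem_of_move {v φ ψ w : Fin (n + 3) → k} (hm : grp v φ ∈ cls k n) (h : φ ⬝ᵥ v = 0)
    (h' : ψ ⬝ᵥ v = 0) (hx : φ ⬝ᵥ w ≠ 0) (hy : ψ ⬝ᵥ w = 0) (hψ : ψ ≠ 0) :
    grp v ψ ∈ cls k n := by
  obtain ⟨g, hg⟩ := exists_move h h' hx hy hψ
  exact hg ▸ conj_mem_cls k n hm g

theorem single_mem_cls {i j : Fin (n + 3)} (hij : i ≠ j) :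
    grp (Pi.single i (1 : k)) (Pi.single j 1) ∈ cls k n := by
  have move : ∀ {a b c : Fin (n + 3)}, a ≠ b → a ≠ c →
      grp (Pi.single a (1 : k)) (Pi.single b 1) ∈ cls k n →
      grp (Pi.single a (1 : k)) (Pi.single c 1) ∈ cls k n := by
    intro a b c hab hac hm
    by_cases hbc : b = c
    · exact hbc ▸ hm
    · exact mem_of_move k n hm (dot_pi k n hab.symm) (dot_pi k n hac.symm) (dot_pi_self k n b)
        (dot_pi k n (Ne.symm hbc)) (pi_ne k n c)
  have flip : ∀ {a b : Fin (n + 3)}, a ≠ b → grp (Pi.single a (1 : k)) (Pi.single b 1) ∈ cls k n →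
      grp (Pi.single b (1 : k)) (Pi.single a 1) ∈ cls k n := fun {a b} hab hm =>
    mem_of_pair k n hm (pi_ne k n a) (pi_ne k n b) (dot_pi k n hab.symm) (dot_pi k n hab)
      (dot_pi_self k n b) (dot_pi_self k n a)
  have h0 : ∀ l : Fin (n + 3), l ≠ 0 → grp (Pi.single 0 (1 : k)) (Pi.single l 1) ∈ cls k n :=
    fun l hl => move (zero_ne_one' n) hl.symm (one_mem_cls k n)
  by_cases hi : i = 0
  · subst hi; exact h0 j hij.symm
  · exact move hi hij (flip (Ne.symm hi) (h0 i hi))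

theorem mem_commCase {v φ w ψ : Fin (n + 3) → k} (hA : grp v φ ∈ cls k n) (hB : grp w ψ ∈ cls k n)
    (hv : v ≠ 0) (hφ : φ ≠ 0) (hψ : ψ ≠ 0) (hw : w ≠ 0)
    (h : φ ⬝ᵥ v = 0) (h' : ψ ⬝ᵥ w = 0) (hxy : (φ ⬝ᵥ w ≠ 0 ∧ ψ ⬝ᵥ v = 0) ∨ (φ ⬝ᵥ w = 0 ∧ ψ ⬝ᵥ v ≠ 0)) :
    Cfsg.RootCommutatorCase (cls k n) (grp v φ) (grp w ψ) := by
  rcases hxy with ⟨hx, hy⟩ | ⟨hx, hy⟩
  · exact commCase_of v φ w ψ v ψ h h' hy _ (mem_of_move k n hA h hy hx h' hψ) hx hy h h' hy
      (elt_comm_left v φ w ψ h h' hy)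
  · exact commCase_of v φ w ψ w φ h h' hx _ (mem_of_move k n hB h' hx hy h hφ) (neg_ne_zero.mpr hy)
      h hx hx h' (elt_comm_right v φ w ψ h h' hx)

theorem generates : (⨆ A ∈ cls k n, A) = ⊤ := by
  rw [eq_top_iff]
  intro M _
  have htr : ∀ (i j : Fin (n + 3)) (hij : i ≠ j) (a : k),
      (SpecialLinearGroup.transvection hij a : SLn) ∈ ⨆ A ∈ cls k n, A := fun i j hij a => by
    refine Subgroup.mem_iSup_of_mem _ (Subgroup.mem_iSup_of_mem (single_mem_cls k n hij)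
      (Subgroup.subset_closure ⟨a, ?_⟩))
    rw [← transvection_eq]
    rfl
  haveI : Nontrivial (Fin (n + 3)) := Fin.nontrivial_iff_two_le.mpr (by omega)
  refine SpecialLinearGroup.diagonal_transvection_induction' (fun A => A ∈ ⨆ A ∈ cls k n, A) M
    (fun i j hij c hc => ?_) htr (fun A B => mul_mem)
  rw [CfsgLib.SLPerfect.diag2n_eq hij hc]
  exact mul_mem (mul_mem (mul_mem (mul_mem (htr _ _ _ _) (htr _ _ _ _)) (htr _ _ _ _)) (htr _ _ _ _))
    (htr _ _ _ _)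

theorem rootSet : Cfsg.IsRootSubgroupSet (cls k n) := by
  refine ⟨?_, ?_, generates k n, fun A hA g => conj_mem_cls k n hA g, ?_⟩
  · intro A hA
    obtain ⟨v, φ, -, -, h, rfl⟩ := repr_cls k n hA
    exact grp_comm v φ h
  · intro A hA
    obtain ⟨v, φ, hv, hφ, h, rfl⟩ := repr_cls k n hA
    exact grp_ne_bot v φ h hv hφ
  · intro A hA B hB
    obtain ⟨v, φ, hv, hφ, h, rfl⟩ := repr_cls k n hA
    obtain ⟨w, ψ, hw, hψ, h', rfl⟩ := repr_cls k n hB
    by_cases hx : φ ⬝ᵥ w = 0 <;> by_cases hy : ψ ⬝ᵥ v = 0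
    · exact Or.inl (commutator_eq_bot v φ w ψ h h' hx hy)
    · exact Or.inr (Or.inr (mem_commCase k n hA hB hv hφ hψ hw h h' (Or.inr ⟨hx, hy⟩)))
    · exact Or.inr (Or.inr (mem_commCase k n hA hB hv hφ hψ hw h h' (Or.inl ⟨hx, hy⟩)))
    · exact Or.inr (Or.inl (pair h h' hx hy).1)

theorem pairings_of_bot {v φ w ψ : Fin (n + 3) → k} (hv : v ≠ 0) (hw : w ≠ 0) (hφ : φ ≠ 0) (hψ : ψ ≠ 0)
    (h : φ ⬝ᵥ v = 0) (h' : ψ ⬝ᵥ w = 0) (hc : ⁅grp v φ, grp w ψ⁆ = ⊥) :
    φ ⬝ᵥ w = 0 ∧ ψ ⬝ᵥ v = 0 := by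
  have key : elt v φ h 1 * elt w ψ h' 1 = elt w ψ h' 1 * elt v φ h 1 := by
    have h1 := Subgroup.commutator_mem_commutator (elt_mem v φ h 1) (elt_mem w ψ h' 1)
    rw [hc, Subgroup.mem_bot, commutatorElement_eq_one_iff_mul_comm] at h1
    exact h1
  have key2 : (φ ⬝ᵥ w) • vecMulVec v ψ = (ψ ⬝ᵥ v) • vecMulVec w φ := by
    have e := congrArg Subtype.val key
    simp only [val_mul, coe_elt, one_smul, Matrix.mul_add, Matrix.add_mul, Matrix.mul_one,
      Matrix.one_mul, mul_vv] at e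
    have : (φ ⬝ᵥ w) • vecMulVec v ψ - (ψ ⬝ᵥ v) • vecMulVec w φ = 0 := by
      rw [← sub_eq_zero] at e
      rw [← e]; abel
    exact sub_eq_zero.mp this
  have hnv : ∀ a b : Fin (n + 3) → k, a ≠ 0 → b ≠ 0 → vecMulVec a b ≠ 0 := fun a b ha hb e => by
    rw [vecMulVec_eq_zero] at e; tauto
  have hx : φ ⬝ᵥ w = 0 := by
    by_contra hx
    have e := congrArg (fun M => φ ᵥ* M) key2
    simp only [vecMul_smul, vecMul_vecMulVec, h, zero_smul, smul_zero, smul_smul] at e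
    have e' : ((ψ ⬝ᵥ v) * (φ ⬝ᵥ w)) • φ = 0 := e.symm
    rcases smul_eq_zero.mp e' with e'' | e''
    · rcases mul_eq_zero.mp e'' with hy | hy
      · rw [hy, zero_smul] at key2
        rcases smul_eq_zero.mp key2 with a | a
        · exact hx a
        · exact hnv v ψ hv hψ a
      · exact hx hy
    · exact hφ e''
  refine ⟨hx, ?_⟩
  rw [hx, zero_smul] at key2
  rcases smul_eq_zero.mp key2.symm with a | a
  · exact a
  · exact absurd a (hnv w φ hw hφ)

theorem kRootSet : Cfsg.IsKRootSubgroupSet k (cls k n) := by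
  refine ⟨rootSet k n, fun A hA B hB hp => ?_⟩
  obtain ⟨v, φ, hv, hφ, h, rfl⟩ := repr_cls k n hA
  obtain ⟨w, ψ, hw, hψ, h', rfl⟩ := repr_cls k n hB
  by_cases hxy : φ ⬝ᵥ w ≠ 0 ∧ ψ ⬝ᵥ v ≠ 0
  · exact (pair h h' hxy.1 hxy.2).2
  · exfalso
    -- a rank one pair is neither commuting nor in the commutator case
    obtain ⟨a, ha, ha1⟩ := (grp v φ).bot_or_exists_ne_one.resolve_left (grp_ne_bot v φ h hv hφ)
    obtain ⟨b, hb, -, e⟩ := hp.cond_left a ha ha1
    have hle : ⁅grp v φ, grp w ψ⁆ ≤ Subgroup.centralizer (grp w ψ : Set SLn) := by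
      by_cases hx : φ ⬝ᵥ w = 0 <;> by_cases hy : ψ ⬝ᵥ v = 0
      · rw [commutator_eq_bot v φ w ψ h h' hx hy]; exact bot_le
      all_goals first
        | (have h0 : φ ⬝ᵥ w ≠ 0 := hx; have h1 : ψ ⬝ᵥ v ≠ 0 := hy; exact absurd ⟨h0, h1⟩ hxy)
        | (intro c hc y hy'
           refine ((mem_commCase k n hA hB hv hφ hψ hw h h' ?_).2.1 c hc y
             (Subgroup.mem_sup_right hy')).symm
           tauto)
    have hle' : ⁅grp v φ, grp w ψ⁆ ≤ Subgroup.centralizer (grp v φ : Set SLn) := by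
      by_cases hx : φ ⬝ᵥ w = 0 <;> by_cases hy : ψ ⬝ᵥ v = 0
      · rw [commutator_eq_bot v φ w ψ h h' hx hy]; exact bot_le
      all_goals first
        | (have h0 : φ ⬝ᵥ w ≠ 0 := hx; have h1 : ψ ⬝ᵥ v ≠ 0 := hy; exact absurd ⟨h0, h1⟩ hxy)
        | (intro c hc y hy'
           refine ((mem_commCase k n hA hB hv hφ hψ hw h h' ?_).2.1 c hc y
             (Subgroup.mem_sup_left hy')).symm
           tauto)
    apply hp.ne
    -- `A` and `B` are then normalised by one another modulo the central commutator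
    have hbot : ⁅⁅grp v φ, grp w ψ⁆, grp v φ ⊔ grp w ψ⁆ = ⊥ := by
      rw [Subgroup.commutator_eq_bot_iff_le_centralizer]
      intro c hc y hy
      have : grp v φ ⊔ grp w ψ ≤ Subgroup.centralizer {c} := sup_le
        (fun z hz => Subgroup.mem_centralizer_singleton_iff.mpr (hle' hc z hz))
        (fun z hz => Subgroup.mem_centralizer_singleton_iff.mpr (hle hc z hz))
      exact Subgroup.mem_centralizer_singleton_iff.mp (this hy)
    haveI := grp_comm v φ h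
    haveI := grp_comm w ψ h'
    have eA : Cfsg.conjBy (grp v φ) b⁻¹ ≤ grp v φ ⊔ ⁅grp v φ, grp w ψ⁆ := by
      rintro _ ⟨x, hx, rfl⟩
      have : b⁻¹ * x * b⁻¹⁻¹ = x * ⁅x⁻¹, b⁻¹⁆ := by rw [commutatorElement_def]; group
      show b⁻¹ * x * b⁻¹⁻¹ ∈ _
      rw [this]
      exact mul_mem (Subgroup.mem_sup_left hx) (Subgroup.mem_sup_right
        (Subgroup.commutator_mem_commutator (inv_mem hx) (inv_mem hb)))
    have eA' : grp v φ ⊔ ⁅grp v φ, grp w ψ⁆ ≤ Subgroup.centralizer {a} := sup_le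
      (fun z hz => Subgroup.mem_centralizer_singleton_iff.mpr
        (congrArg Subtype.val (mul_comm' (⟨z, hz⟩ : grp v φ) ⟨a, ha⟩)))
      (fun z hz => Subgroup.mem_centralizer_singleton_iff.mpr ((hle' hz a ha).symm))
    -- hence `B = a (b⁻¹ A b) a⁻¹` centralises `a`, so it commutes with the whole of `A`
    obtain ⟨c₀, hc₀⟩ := exists_elt v φ h ha
    have hBfix : grp w ψ ≤ Subgroup.centralizer {a} := by
      intro y hy
      have h1 : a⁻¹ * y * a⁻¹⁻¹ ∈ Cfsg.conjBy (grp w ψ) a⁻¹ := ⟨y, hy, rfl⟩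
      rw [← e] at h1
      have h2 := Subgroup.mem_centralizer_singleton_iff.mp (eA' (eA h1))
      rw [Subgroup.mem_centralizer_singleton_iff]
      have h3 : y * a = a * y := by
        have := congrArg (fun z => a * z * a⁻¹) h2
        simpa [mul_assoc] using this
      exact h3
    have hconj : Cfsg.conjBy (grp w ψ) a⁻¹ = grp w ψ := by
      ext y
      constructor
      · rintro ⟨z, hz, rfl⟩
        have := Subgroup.mem_centralizer_singleton_iff.mp (hBfix hz)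
        simpa [mul_assoc, this] using hz
      · intro hy
        have := Subgroup.mem_centralizer_singleton_iff.mp (hBfix hy)
        exact ⟨y, hy, by simp [mul_assoc, this]⟩
    rw [hconj] at e
    -- so `A` is the conjugate of `B` by an element of `B`
    have : Cfsg.conjBy (Cfsg.conjBy (grp v φ) b⁻¹) b = Cfsg.conjBy (grp w ψ) b := by rw [e]
    rw [conj_conj, mul_inv_cancel] at this
    have h1 : Cfsg.conjBy (grp v φ) (1 : SLn) = grp v φ := by
      ext x; simp [Cfsg.conjBy, Subgroup.mem_map]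
    rw [h1] at this
    rw [this]
    ext y
    constructor
    · rintro ⟨z, hz, rfl⟩
      exact mul_mem (mul_mem hb hz) (inv_mem hb)
    · intro hy
      exact ⟨b⁻¹ * y * b, mul_mem (mul_mem (inv_mem hb) hy) hb, by simp [mul_assoc]⟩

end CfsgLib.RootSub.Transv
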